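import Cfsg.Agent.H771.KTools_m3
import Cfsg.Agent.H952.F4.Scott_m3
import Cfsg.Agent.Lib.FinFast
import Cfsg.Agent.R2.H28.SL2.Bas_m3
import Cfsg.Agent.R2.H28.SL2.ExtY_m3
import Cfsg.Agent.H952.F4.TabClosed
import Cfsg.Agent.Lib.FastPerm
import Cfsg.Agent.R2.T1.Inf.Cnt_m3
import Cfsg.Agent.S0242
import Cfsg.Agent.R2.T1.P3.Q3
import Cfsg.Agent.R2.PX.Del_m3
import Cfsg.Agent.Lib.ListFast
import Cfsg.Agent.FastGrp
import Cfsg.Agent.Prune
set_option linter.all false

section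
prune_inst 0x7f00000000000000000000000000000000000000000000000000000000000000000000000000000000000000000000000000000000000000000000000000000000000000000000000000000000000000003fffffffffffffffffffffffffffbeffbdfbfeffff

section
prune_inst 0xbfadf9fbace9dfdfff7e3fa7decffdf3af8fffe6dff9cbffe069bfab9f3380c9c5fb8d8be01afe0ef7e21410b87853ff7eefffe86fdc7ffffdfff41ffbee4fe5f73508519c88b40fbc0fff03f0778e6f000000000000000000000000000000000200000000

-- part: R2/T1/N6R/A6
section
prune_inst 0x4010000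
set_option linter.all false
open scoped Cfsg.Agent.FastGrp

/-!
# S5929, `n = 6`, `p = 3`, packet C2-rep: the group `A₆` (helper7)

* `real6` : every element of `A₆` is conjugate to its inverse;
* `cls6` : elements of the same order;
* `Tet t1 t2 c` : a Klein four-group `t1, t2` and an element `c` of order three normalizing it; `tet6`.
-/

set_option autoImplicit false

namespace Cfsg.Agent.R2.T1.N6R

open Equiv Equiv.Perm

/-- the alternating group of degree six -/
abbrev A6 := ↥(alternatingGroup (Fin 6))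

theorem types6 (t : A6) : (t : Perm (Fin 6)).cycleType = 0 ∨ (t : Perm (Fin 6)).cycleType = {3} ∨
    (t : Perm (Fin 6)).cycleType = {5} ∨ (t : Perm (Fin 6)).cycleType = {2, 2} ∨
    (t : Perm (Fin 6)).cycleType = {3, 3} ∨ (t : Perm (Fin 6)).cycleType = {4, 2} := by
  have hs := sum_cycleType_le (t : Perm (Fin 6))
  rw [Fintype.card_fin] at hs
  rcases Cfsg.Agent.H525.AltK.mem_types (show 6 ≤ 7 by norm_num) t with h | h | h | h | h | h | h | h
  · exact Or.inl h
  · exact Or.inr (Or.inl h)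
  · exact Or.inr (Or.inr (Or.inl h))
  · rw [h] at hs; exact absurd hs (by decide)
  · exact Or.inr (Or.inr (Or.inr (Or.inl h)))
  · exact Or.inr (Or.inr (Or.inr (Or.inr (Or.inl h))))
  · exact Or.inr (Or.inr (Or.inr (Or.inr (Or.inr h))))
  · rw [h] at hs; exact absurd hs (by decide)

theorem ord6 (t : A6) : orderOf t = (t : Perm (Fin 6)).cycleType.lcm := by
  rw [lcm_cycleType, Subgroup.orderOf_coe]

/-- conjugacy in `A₆`, if an odd permutation commutes with the representative -/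
theorem conj6 {r g : A6} (hct : (r : Perm (Fin 6)).cycleType = (g : Perm (Fin 6)).cycleType)
    {κ : Perm (Fin 6)} (hκ : sign κ = -1) (hc : κ * r = r * κ) : IsConj r g := by
  obtain ⟨σ, hσ⟩ := isConj_iff.1 (isConj_iff_cycleType_eq.2 hct)
  rcases Int.units_eq_one_or (sign σ) with h3 | h3
  · exact isConj_iff.2 ⟨⟨σ, h3⟩, Subtype.ext hσ⟩
  · refine isConj_iff.2 ⟨⟨σ * κ, ?_⟩, Subtype.ext ?_⟩
    · rw [mem_alternatingGroup, map_mul, h3, hκ]; rfl
    · change σ * κ * (r : Perm (Fin 6)) * (σ * κ)⁻¹ = g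
      rw [← hσ]
      calc σ * κ * (r : Perm (Fin 6)) * (σ * κ)⁻¹ = σ * (κ * r) * κ⁻¹ * σ⁻¹ := by group
        _ = σ * (r * κ) * κ⁻¹ * σ⁻¹ := by rw [hc]
        _ = _ := by group

/-- conjugacy in `A₆`, the general case -/
theorem conj6' {r s g : A6} (hct : (r : Perm (Fin 6)).cycleType = (g : Perm (Fin 6)).cycleType)
    {κ : Perm (Fin 6)} (hκ : sign κ = -1) (hc : κ * s = r * κ) : IsConj r g ∨ IsConj s g := by
  obtain ⟨σ, hσ⟩ := isConj_iff.1 (isConj_iff_cycleType_eq.2 hct)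
  rcases Int.units_eq_one_or (sign σ) with h3 | h3
  · exact Or.inl (isConj_iff.2 ⟨⟨σ, h3⟩, Subtype.ext hσ⟩)
  · refine Or.inr (isConj_iff.2 ⟨⟨σ * κ, ?_⟩, Subtype.ext ?_⟩)
    · rw [mem_alternatingGroup, map_mul, h3, hκ]; rfl
    · change σ * κ * (s : Perm (Fin 6)) * (σ * κ)⁻¹ = g
      rw [← hσ]
      calc σ * κ * (s : Perm (Fin 6)) * (σ * κ)⁻¹ = σ * (κ * s) * κ⁻¹ * σ⁻¹ := by group
        _ = σ * (r * κ) * κ⁻¹ * σ⁻¹ := by rw [hc]
        _ = _ := by group

/-- reality depends only on the cycle type -/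
theorem real_of_type6 {r g : A6} (hct : (r : Perm (Fin 6)).cycleType = (g : Perm (Fin 6)).cycleType)
    (hr : IsConj r r⁻¹) : IsConj g g⁻¹ := by
  obtain ⟨σ, hσ⟩ := isConj_iff.1 (isConj_iff_cycleType_eq.2 hct)
  obtain ⟨y, hy⟩ := isConj_iff.1 hr
  refine isConj_iff.2 ⟨⟨σ * y * σ⁻¹, ?_⟩, Subtype.ext ?_⟩
  · rw [mem_alternatingGroup, map_mul, map_mul, map_inv, mul_right_comm, mul_inv_cancel, one_mul]
    exact y.2
  · change σ * y * σ⁻¹ * (g : Perm (Fin 6)) * (σ * y * σ⁻¹)⁻¹ = (g : Perm (Fin 6))⁻¹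
    have hy' : (y : Perm (Fin 6)) * r * (y : Perm (Fin 6))⁻¹ = (r : Perm (Fin 6))⁻¹ := congrArg Subtype.val hy
    rw [← hσ]
    calc σ * y * σ⁻¹ * (σ * (r : Perm (Fin 6)) * σ⁻¹) * (σ * y * σ⁻¹)⁻¹ =
        σ * (y * r * (y : Perm (Fin 6))⁻¹) * σ⁻¹ := by group
      _ = σ * (r : Perm (Fin 6))⁻¹ * σ⁻¹ := by rw [hy']
      _ = _ := by group

/-- an even permutation -/
def mk6 (p : Perm (Fin 6)) (h : sign p = 1) : A6 := ⟨p, h⟩

/-- **every element of `A₆` is real** -/
theorem real6 (t : A6) : IsConj t t⁻¹ := by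
  rcases types6 t with h | h | h | h | h | h
  · have : t = 1 := Subtype.ext (cycleType_eq_zero.1 h)
    rw [this, inv_one]
  · exact real_of_type6 (r := mk6 (swap (0 : Fin 6) 1 * swap (1 : Fin 6) 2) (by decide)) (by rw [h]; decide +kernel)
      (isConj_iff.2 ⟨mk6 (swap (1 : Fin 6) 2 * swap (3 : Fin 6) 4) (by decide), by decide⟩)
  · exact real_of_type6 (r := mk6 (swap (0 : Fin 6) 1 * swap (1 : Fin 6) 2 * (swap (2 : Fin 6) 3 * swap (3 : Fin 6) 4)) (by decide)) (by rw [h]; decide +kernel)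
      (isConj_iff.2 ⟨mk6 (swap (1 : Fin 6) 4 * swap (2 : Fin 6) 3) (by decide), by decide⟩)
  · exact real_of_type6 (r := mk6 (swap (0 : Fin 6) 1 * swap (2 : Fin 6) 3) (by decide)) (by rw [h]; decide +kernel)
      (isConj_iff.2 ⟨1, by decide⟩)
  · exact real_of_type6 (r := mk6 (swap (0 : Fin 6) 1 * swap (1 : Fin 6) 2 * (swap (3 : Fin 6) 4 * swap (4 : Fin 6) 5)) (by decide)) (by rw [h]; decide +kernel)
      (isConj_iff.2 ⟨mk6 (swap (1 : Fin 6) 2 * swap (4 : Fin 6) 5) (by decide), by decide⟩)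
  · exact real_of_type6 (r := mk6 (swap (0 : Fin 6) 1 * swap (1 : Fin 6) 2 * swap (2 : Fin 6) 3 * swap (4 : Fin 6) 5) (by decide)) (by rw [h]; decide +kernel)
      (isConj_iff.2 ⟨mk6 (swap (0 : Fin 6) 3 * swap (1 : Fin 6) 2) (by decide), by decide⟩)

/-- the representative of order 2 -/
def r2 : A6 := mk6 (swap (0 : Fin 6) 1 * swap (2 : Fin 6) 3) (by decide)
/-- the representative of order 4 -/
def r4 : A6 := mk6 (swap (0 : Fin 6) 1 * swap (1 : Fin 6) 2 * swap (2 : Fin 6) 3 * swap (4 : Fin 6) 5) (by decide)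
/-- the representative of order 5 -/
def r5 : A6 := mk6 (swap (0 : Fin 6) 1 * swap (1 : Fin 6) 2 * (swap (2 : Fin 6) 3 * swap (3 : Fin 6) 4)) (by decide)

/-- elements of the same order -/
theorem cls6 {x y : A6} (hxy : orderOf x = orderOf y) :
    x ^ 3 = 1 ∨ IsConj x y ∨ (orderOf x = 5 ∧ IsConj (x * x) y) := by
  have l3 : (({3} : Multiset ℕ)).lcm = 3 := by decide
  have l5 : (({5} : Multiset ℕ)).lcm = 5 := by decide
  have l2 : (({2, 2} : Multiset ℕ)).lcm = 2 := by decide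
  have l33 : (({3, 3} : Multiset ℕ)).lcm = 3 := by decide
  have l4 : (({4, 2} : Multiset ℕ)).lcm = 4 := by decide
  have l0 : ((0 : Multiset ℕ)).lcm = 1 := by decide
  have h2 : ∀ z : A6, (z : Perm (Fin 6)).cycleType = {2, 2} → IsConj r2 z := fun z hz =>
    conj6 (κ := swap (4 : Fin 6) 5) (by rw [hz]; decide +kernel) (by decide) (by decide)
  have h4 : ∀ z : A6, (z : Perm (Fin 6)).cycleType = {4, 2} → IsConj r4 z := fun z hz =>
    conj6 (κ := swap (4 : Fin 6) 5) (by rw [hz]; decide +kernel) (by decide) (by decide)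
  have h5 : ∀ z : A6, (z : Perm (Fin 6)).cycleType = {5} → IsConj r5 z ∨ IsConj (r5 * r5) z := fun z hz =>
    conj6' (s := r5 * r5) (κ := swap (1 : Fin 6) 3 * swap (3 : Fin 6) 4 * swap (4 : Fin 6) 2) (by rw [hz]; decide +kernel) (by decide) (by decide)
  have hx := ord6 x
  have hy := ord6 y
  rcases types6 x with h | h | h | h | h | h
  · left
    rw [show x = 1 from Subtype.ext (cycleType_eq_zero.1 h), one_pow]
  · left
    rw [h, l3] at hx
    rw [← hx, pow_orderOf_eq_one]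
  · right
    rw [h, l5] at hx
    rcases types6 y with g | g | g | g | g | g
    · rw [g, l0] at hy; omega
    · rw [g, l3] at hy; omega
    · rcases h5 x h with a | a <;> rcases h5 y g with b | b
      · exact Or.inl (a.symm.trans b)
      · refine Or.inr ⟨hx, ?_⟩
        obtain ⟨u, hu⟩ := isConj_iff.1 a
        refine IsConj.trans (IsConj.symm (isConj_iff.2 ⟨u, ?_⟩)) b
        rw [← hu]; group
      · refine Or.inr ⟨hx, ?_⟩
        obtain ⟨u, hu⟩ := isConj_iff.1 a
        refine IsConj.trans (IsConj.symm (isConj_iff.2 ⟨u, ?_⟩)) ((real6 r5).symm.trans b)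
        rw [← hu, show r5⁻¹ = r5 * r5 * (r5 * r5) by decide]
        group
      · exact Or.inl (a.symm.trans b)
    · rw [g, l2] at hy; omega
    · rw [g, l33] at hy; omega
    · rw [g, l4] at hy; omega
  · right; left
    rw [h, l2] at hx
    rcases types6 y with g | g | g | g | g | g
    · rw [g, l0] at hy; omega
    · rw [g, l3] at hy; omega
    · rw [g, l5] at hy; omega
    · exact (h2 x h).symm.trans (h2 y g)
    · rw [g, l33] at hy; omega
    · rw [g, l4] at hy; omega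
  · left
    rw [h, l33] at hx
    rw [← hx, pow_orderOf_eq_one]
  · right; left
    rw [h, l4] at hx
    rcases types6 y with g | g | g | g | g | g
    · rw [g, l0] at hy; omega
    · rw [g, l3] at hy; omega
    · rw [g, l5] at hy; omega
    · rw [g, l2] at hy; omega
    · rw [g, l33] at hy; omega
    · exact (h4 x h).symm.trans (h4 y g)

/-- a Klein four-group and an element of order three normalizing it -/
structure Tet {G : Type*} [Group G] (t1 t2 c : G) : Prop where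
  s1 : t1 * t1 = 1
  s2 : t2 * t2 = 1
  cm : t1 * t2 = t2 * t1
  c3 : c * c * c = 1
  c1 : c * t1 = t2 * c
  c2 : c * t2 = t1 * t2 * c
  n1 : t1 ≠ 1

/-- the first involution -/
def u1 : A6 := mk6 (swap (0 : Fin 6) 1 * swap (2 : Fin 6) 3) (by decide)
/-- the second involution -/
def u2 : A6 := mk6 (swap (0 : Fin 6) 2 * swap (1 : Fin 6) 3) (by decide)
/-- `1 → 2 → 3 → 1` -/
def uc : A6 := mk6 (swap (1 : Fin 6) 2 * swap (2 : Fin 6) 3) (by decide)

theorem tet6 : Tet u1 u2 uc := ⟨by decide, by decide, by decide, by decide, by decide, by decide, by decide⟩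

end Cfsg.Agent.R2.T1.N6R
end

-- part: R2/T1/N6R/Twi
section
prune_inst 0x40100604501620000001c0002020000c103000002004000000024010604c0406020032040bc00051080000c5420300008110001000220000000000000011801800800000001000000000000000000010000000000000000000000000000000000004010000
set_option linter.all false
open scoped Cfsg.Agent.FastGrp

-- part: R2/T1/N6R/Mat
section
/-!
# S5929, `n = 6`, `p = 3`, packet C2-rep: three-dimensional representations (helper7)

* `exists_nor` : the basis `w, c w, c² w` of weight vectors of the four-group;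
* `Nor M` : the matrix representation `M` is in normal form;
* `Nor.entry` : the entries of `M g` are given by traces;
* `Nor.ext_trace` : `M` is determined by its traces; `Nor.transpose` : `M g⁻¹ = (M g)ᵀ` if the traces are real;
* `Nor.scalar` : the commutant consists of scalars.
-/

set_option autoImplicit false

namespace Cfsg.Agent.R2.T1.N6R

open Module Matrix

universe u

variable {F : Type u} [Field F] {G : Type*} [Group G] {t1 t2 c : G}

/-! ### the basis -/

section basis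
variable {W : Type*} [AddCommGroup W] [Module F W]

theorem Tet.d1 (T : Tet t1 t2 c) : t1 * c = c * (t1 * t2) := by
  calc t1 * c = t1 * (t2 * t2) * c := by rw [T.s2, mul_one]
    _ = (t1 * t2) * (t2 * c) := by simp only [mul_assoc]
    _ = (t2 * t1) * (t2 * c) := by rw [T.cm]
    _ = t2 * (t1 * t2 * c) := by simp only [mul_assoc]
    _ = t2 * (c * t2) := by rw [T.c2]
    _ = (t2 * c) * t2 := by simp only [mul_assoc]
    _ = (c * t1) * t2 := by rw [T.c1]
    _ = c * (t1 * t2) := by simp only [mul_assoc]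

theorem rmul (ρ : Representation F G W) (g h : G) (v : W) : ρ (g * h) v = ρ g (ρ h v) := by
  rw [map_mul, Module.End.mul_apply]

theorem wt_step (ρ : Representation F G W) (T : Tet t1 t2 c) {v : W} {a b : F} (h1 : ρ t1 v = a • v)
    (h2 : ρ t2 v = b • v) : ρ t1 (ρ c v) = (a * b) • ρ c v ∧ ρ t2 (ρ c v) = a • ρ c v := by
  constructor
  · rw [← rmul, T.d1, rmul, rmul, h2, map_smul, h1, smul_smul, map_smul, mul_comm]
  · rw [← rmul, ← T.c1, rmul, h1, map_smul]

theorem exists_wt (ρ : Representation F G W) (T : Tet t1 t2 c) {w : W} (hw : ρ t1 w ≠ w) :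
    ∃ v : W, v ≠ 0 ∧ ρ t1 v = (1 : F) • v ∧ ρ t2 v = (-1 : F) • v := by
  have hc : ∀ {v : W}, v ≠ 0 → ρ c v ≠ 0 := by
    intro v hv h0
    apply hv
    have h1 : ρ (c * c * c) v = 0 := by rw [rmul, rmul, h0, map_zero, map_zero]
    rwa [T.c3, map_one, Module.End.one_apply] at h1
  obtain ⟨w', hw'⟩ : ∃ w', w' = w - ρ t1 w := ⟨_, rfl⟩
  have hw0 : w' ≠ 0 := by rw [hw']; exact sub_ne_zero.2 (Ne.symm hw)
  have hw1 : ρ t1 w' = (-1 : F) • w' := by
    rw [hw', map_sub, ← rmul, T.s1, map_one, Module.End.one_apply, smul_sub, neg_one_smul, neg_one_smul]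
    abel
  by_cases hu : w' + ρ t2 w' = 0
  · have hw2 : ρ t2 w' = (-1 : F) • w' := by rw [neg_one_smul]; exact (neg_eq_of_add_eq_zero_right hu).symm
    obtain ⟨e1, e2⟩ := wt_step ρ T hw1 hw2
    refine ⟨ρ c w', hc hw0, ?_, e2⟩
    rw [e1]; norm_num
  · have hu1 : ρ t1 (w' + ρ t2 w') = (-1 : F) • (w' + ρ t2 w') := by
      rw [map_add, hw1, ← rmul, T.cm, rmul, hw1, map_smul, smul_add]
    have hu2 : ρ t2 (w' + ρ t2 w') = (1 : F) • (w' + ρ t2 w') := by
      rw [map_add, ← rmul, T.s2, map_one, Module.End.one_apply, one_smul, add_comm]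
    obtain ⟨e1, e2⟩ := wt_step ρ T hu1 hu2
    obtain ⟨e3, e4⟩ := wt_step ρ T e1 e2
    refine ⟨_, hc (hc hu), ?_, ?_⟩
    · rw [e3]; norm_num
    · rw [e4]; norm_num only [_root_.map_add, _root_.smul_add, _root_.neg_smul, _root_.one_smul]

/-- the matrix representation is in normal form -/
structure Nor (M : G →* Matrix (Fin 3) (Fin 3) F) (t1 t2 c : G) : Prop where
  m1 : M t1 = !![1, 0, 0; 0, -1, 0; 0, 0, -1]
  m2 : M t2 = !![-1, 0, 0; 0, 1, 0; 0, 0, -1]
  mc : M c = !![0, 0, 1; 1, 0, 0; 0, 1, 0]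

/-- **the normal form** -/
theorem exists_nor (h2 : (2 : F) ≠ 0) (ρ : Representation F G W) (hd : finrank F W = 3) (T : Tet t1 t2 c)
    (hne : ∃ w, ρ t1 w ≠ w) : ∃ (M : G →* Matrix (Fin 3) (Fin 3) F) (e : (Fin 3 → F) ≃ₗ[F] W), Nor M t1 t2 c ∧
      ∀ g x, e (M g *ᵥ x) = ρ g (e x) := by
  obtain ⟨w, hw⟩ := hne
  obtain ⟨v, hv0, a1, a2⟩ := exists_wt ρ T hw
  obtain ⟨b1, b2⟩ := wt_step ρ T a1 a2
  obtain ⟨c1, c2⟩ := wt_step ρ T b1 b2
  have cc : ρ c (ρ c (ρ c v)) = v := by rw [← rmul, ← rmul, T.c3, map_one, Module.End.one_apply]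
  obtain ⟨v1, hv1⟩ : ∃ v1, v1 = ρ c v := ⟨_, rfl⟩
  obtain ⟨v2, hv2⟩ : ∃ v2, v2 = ρ c v1 := ⟨_, rfl⟩
  rw [← hv1] at b1 b2 c1 c2 cc
  rw [← hv2] at c1 c2 cc
  have b1' : ρ t1 v1 = - v1 := by rw [b1]; norm_num
  have b2' : ρ t2 v1 = v1 := by rw [b2]; norm_num
  have c1' : ρ t1 v2 = - v2 := by rw [c1]; norm_num
  have c2' : ρ t2 v2 = - v2 := by rw [c2]; norm_num
  have a1' : ρ t1 v = v := by rw [a1, one_smul]
  have a2' : ρ t2 v = - v := by rw [a2, neg_one_smul]
  have hv20 : v2 ≠ 0 := by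
    rintro h0
    rw [h0, map_zero] at cc
    exact hv0 cc.symm
  have hv10 : v1 ≠ 0 := by
    rintro h0
    rw [h0, map_zero] at hv2
    exact hv20 hv2
  have hli : LinearIndependent F ![v, v1, v2] := by
    rw [Fintype.linearIndependent_iff]
    intro g hg
    rw [Fin.sum_univ_three] at hg
    change g 0 • v + g 1 • v1 + g 2 • v2 = 0 at hg
    have h1 := congrArg (ρ t1) hg
    rw [map_add, map_add, map_smul, map_smul, map_smul, a1', b1', c1', map_zero] at h1
    have h3 := congrArg (ρ t2) hg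
    rw [map_add, map_add, map_smul, map_smul, map_smul, a2', b2', c2', map_zero] at h3
    have h4 : ((2 : F) * g 0) • v = 0 := by
      have : ((2 : F) * g 0) • v = (g 0 • v + g 1 • v1 + g 2 • v2) + (g 0 • v + g 1 • -v1 + g 2 • -v2) := by
        rw [smul_neg, smul_neg, two_mul, add_smul]; abel
      rw [this, hg, h1, add_zero]
    have h5 : ((2 : F) * g 1) • v1 = 0 := by
      have : ((2 : F) * g 1) • v1 = (g 0 • v + g 1 • v1 + g 2 • v2) + (g 0 • -v + g 1 • v1 + g 2 • -v2) := by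
        rw [smul_neg, smul_neg, two_mul, add_smul]; abel
      rw [this, hg, h3, add_zero]
    have e0 : g 0 = 0 := (mul_eq_zero.1 ((smul_eq_zero.1 h4).resolve_right hv0)).resolve_left h2
    have e1 : g 1 = 0 := (mul_eq_zero.1 ((smul_eq_zero.1 h5).resolve_right hv10)).resolve_left h2
    rw [e0, e1, zero_smul, zero_smul, zero_add, zero_add] at hg
    have e2 : g 2 = 0 := (smul_eq_zero.1 hg).resolve_right hv20
    intro i
    fin_cases i
    · exact e0
    · exact e1
    · exact e2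
  have hfin : FiniteDimensional F W := FiniteDimensional.of_finrank_pos (by omega)
  let b : Basis (Fin 3) F W := basisOfLinearIndependentOfCardEqFinrank hli (by rw [Fintype.card_fin, hd])
  have hb : ⇑b = ![v, v1, v2] := coe_basisOfLinearIndependentOfCardEqFinrank _ _
  let e : (Fin 3 → F) ≃ₗ[F] W := b.equivFun.symm
  have he : ∀ j, e (Pi.single j 1) = b j := by
    intro j
    rw [LinearEquiv.symm_apply_eq]
    funext i
    rw [Basis.equivFun_self, Pi.single_apply]
    by_cases h : i = j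
    · rw [if_pos h, h, if_pos rfl]
    · rw [if_neg h, if_neg (Ne.symm h)]
  have he' : ∀ j, e.symm (b j) = Pi.single j 1 := by
    intro j
    rw [← he, LinearEquiv.symm_apply_apply]
  let M : G →* Matrix (Fin 3) (Fin 3) F :=
    { toFun := fun g => LinearMap.toMatrix' ((e.symm : W →ₗ[F] (Fin 3 → F)) ∘ₗ ρ g ∘ₗ (e : (Fin 3 → F) →ₗ[F] W))
      map_one' := by
        rw [map_one]
        have : ((e.symm : W →ₗ[F] (Fin 3 → F)) ∘ₗ (1 : W →ₗ[F] W) ∘ₗ (e : (Fin 3 → F) →ₗ[F] W)) = LinearMap.id := by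
          ext1 x
          ext1
          simp only [_root_.LinearMap.coe_comp, _root_.LinearEquiv.coe_coe, _root_.LinearMap.coe_single, _root_.Function.comp_apply, _root_.Module.End.one_apply, _root_.LinearEquiv.symm_apply_apply, _root_.LinearMap.id_comp]
        rw [this, LinearMap.toMatrix'_id]
      map_mul' := by
        intro g h
        rw [← LinearMap.toMatrix'_comp]
        congr 1
        refine LinearMap.ext fun x => ?_
        simp only [_root_.map_mul, _root_.LinearMap.coe_comp, _root_.LinearEquiv.coe_coe, _root_.Function.comp_apply, _root_.Module.End.mul_apply, _root_.LinearEquiv.apply_symm_apply] }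
  have hM : ∀ g x, e (M g *ᵥ x) = ρ g (e x) := by
    intro g x
    change e (LinearMap.toMatrix' ((e.symm : W →ₗ[F] (Fin 3 → F)) ∘ₗ ρ g ∘ₗ (e : (Fin 3 → F) →ₗ[F] W)) *ᵥ x) = _
    rw [← Matrix.toLin'_apply, Matrix.toLin'_toMatrix', LinearMap.comp_apply, LinearMap.comp_apply]
    exact e.apply_symm_apply _
  have hcol : ∀ g j, (M g).col j = e.symm (ρ g (b j)) := by
    intro g j
    rw [← he, ← hM, LinearEquiv.symm_apply_apply, Matrix.mulVec_single_one]
  have hent : ∀ g i j, M g i j = e.symm (ρ g (b j)) i := by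
    intro g i j
    rw [← hcol]
    rfl
  have q0 : b 0 = v := by rw [hb]; rfl
  have q1 : b 1 = v1 := by rw [hb]; rfl
  have q2 : b 2 = v2 := by rw [hb]; rfl
  have p0 : e.symm v = Pi.single 0 1 := by rw [← q0, he']
  have p1 : e.symm v1 = Pi.single 1 1 := by rw [← q1, he']
  have p2 : e.symm v2 = Pi.single 2 1 := by rw [← q2, he']
  refine ⟨M, e, ⟨?_, ?_, ?_⟩, hM⟩
  · ext i j
    rw [hent]
    fin_cases j
    · change e.symm (ρ t1 (b 0)) i = _
      rw [q0, a1', p0]
      fin_cases i <;> rfl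
    · change e.symm (ρ t1 (b 1)) i = _
      rw [q1, b1', map_neg, p1]
      (revert i; simp only [_root_.Fin.forall_fin_succ, Fin.isValue, _root_.Pi.neg_apply, _root_.Fin.mk_one, _root_.Matrix.of_apply, _root_.Matrix.cons_val', _root_.Matrix.cons_val_one, _root_.Matrix.cons_val_zero, _root_.Matrix.cons_val_fin_one, _root_.ne_eq, _root_.zero_ne_one, _root_.not_false_eq_true, _root_.Pi.single_eq_of_ne, _root_.neg_zero, _root_.Matrix.cons_val_succ, _root_.Fin.succ_zero_eq_one, _root_.Pi.single_eq_same, _root_.neg_eq_zero, _root_.Fin.succ_one_eq_two, Fin.reduceEq, _root_.IsEmpty.forall_iff, _root_.and_self])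
    · change e.symm (ρ t1 (b 2)) i = _
      rw [q2, c1', map_neg, p2]
      (revert i; simp only [_root_.Fin.forall_fin_succ, Fin.isValue, _root_.Pi.neg_apply, Fin.reduceFinMk, _root_.Matrix.of_apply, _root_.Matrix.cons_val', _root_.Matrix.cons_val, _root_.Matrix.cons_val_fin_one, _root_.ne_eq, Fin.reduceEq, _root_.not_false_eq_true, _root_.Pi.single_eq_of_ne, _root_.neg_zero, _root_.Matrix.cons_val_zero, _root_.Matrix.cons_val_succ, _root_.Fin.succ_zero_eq_one, _root_.neg_inj, _root_.Fin.succ_one_eq_two, _root_.Pi.single_eq_same, _root_.IsEmpty.forall_iff, _root_.and_self])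
  · ext i j
    rw [hent]
    fin_cases j
    · change e.symm (ρ t2 (b 0)) i = _
      rw [q0, a2', map_neg, p0]
      (revert i; simp only [_root_.Fin.forall_fin_succ, Fin.isValue, _root_.Pi.neg_apply, _root_.Fin.zero_eta, _root_.Matrix.of_apply, _root_.Matrix.cons_val', _root_.Matrix.cons_val_zero, _root_.Matrix.cons_val_fin_one, _root_.Pi.single_eq_same, _root_.ne_eq, _root_.Fin.succ_ne_zero, _root_.not_false_eq_true, _root_.Pi.single_eq_of_ne, _root_.neg_zero, _root_.Matrix.cons_val_succ, _root_.implies_true, _root_.and_self])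
    · change e.symm (ρ t2 (b 1)) i = _
      rw [q1, b2', p1]
      fin_cases i <;> rfl
    · change e.symm (ρ t2 (b 2)) i = _
      rw [q2, c2', map_neg, p2]
      (revert i; simp only [_root_.Fin.forall_fin_succ, Fin.isValue, _root_.Pi.neg_apply, Fin.reduceFinMk, _root_.Matrix.of_apply, _root_.Matrix.cons_val', _root_.Matrix.cons_val, _root_.Matrix.cons_val_fin_one, _root_.ne_eq, Fin.reduceEq, _root_.not_false_eq_true, _root_.Pi.single_eq_of_ne, _root_.neg_zero, _root_.Matrix.cons_val_zero, _root_.Matrix.cons_val_succ, _root_.Fin.succ_zero_eq_one, _root_.neg_inj, _root_.Fin.succ_one_eq_two, _root_.Pi.single_eq_same, _root_.IsEmpty.forall_iff, _root_.and_self])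
  · ext i j
    rw [hent]
    fin_cases j
    · change e.symm (ρ c (b 0)) i = _
      rw [q0, ← hv1, p1]
      fin_cases i <;> rfl
    · change e.symm (ρ c (b 1)) i = _
      rw [q1, ← hv2, p2]
      fin_cases i <;> rfl
    · change e.symm (ρ c (b 2)) i = _
      rw [q2, cc, p0]
      fin_cases i <;> rfl

end basis

/-! ### matrices in normal form -/

section nor
variable {M : G →* Matrix (Fin 3) (Fin 3) F}

theorem Nor.mci (h : Nor M t1 t2 c) (T : Tet t1 t2 c) : M c⁻¹ = !![0, 1, 0; 0, 0, 1; 1, 0, 0] := by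
  have h1 : c⁻¹ = c * c := by rw [inv_eq_iff_mul_eq_one, ← mul_assoc, T.c3]
  rw [h1, map_mul, h.mc]
  ext i j
  (revert i j; simp only [Matrix.mul_apply, Fin.sum_univ_three, _root_.Fin.forall_fin_succ, _root_.Matrix.of_apply, _root_.Matrix.cons_val', _root_.Matrix.cons_val_fin_one, Fin.isValue, _root_.Matrix.cons_val_zero, _root_.Matrix.cons_val_one, _root_.Matrix.cons_val, _root_.MulZeroClass.mul_zero, _root_.mul_one, _root_.zero_add, _root_.add_zero, _root_.Matrix.cons_val_succ, _root_.implies_true, _root_.and_self])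

/-- **the entries are given by traces** -/
theorem Nor.entry (h : Nor M t1 t2 c) (T : Tet t1 t2 c) (g : G) (i j : Fin 3) :
    2 * M g i j = trace (M ((c ^ (i : ℕ))⁻¹ * g * c ^ (j : ℕ))) + trace (M ((c ^ (i : ℕ))⁻¹ * g * c ^ (j : ℕ) * t1)) := by
  have hN : ∀ N : Matrix (Fin 3) (Fin 3) F, trace N + trace (N * !![1, 0, 0; 0, -1, 0; 0, 0, -1]) = 2 * N 0 0 := by
    intro N
    rw [Matrix.trace_fin_three, Matrix.trace_fin_three]
    simp only [Matrix.mul_apply, Fin.sum_univ_three, _root_.Fin.isValue, _root_.Matrix.of_apply, _root_.Matrix.cons_val', _root_.Matrix.cons_val_zero, _root_.Matrix.cons_val_fin_one, _root_.mul_one, _root_.Matrix.cons_val_one, _root_.MulZeroClass.mul_zero, _root_.add_zero, _root_.Matrix.cons_val, _root_.mul_neg, _root_.zero_add]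
    ring
  rw [map_mul M _ t1, h.m1, hN, map_mul, map_mul, ← inv_pow, map_pow, map_pow, h.mci T, h.mc]
  congr 1
  (revert i j; simp only [Matrix.mul_apply, Fin.sum_univ_three, pow_two, Matrix.vecMul, dotProduct, _root_.Fin.forall_fin_succ, Fin.isValue, _root_.Fin.coe_ofNat_eq_mod, _root_.Nat.zero_mod, _root_.pow_zero, _root_.Matrix.one_apply_eq, _root_.mul_one, _root_.ne_eq, _root_.one_ne_zero, _root_.not_false_eq_true, _root_.Matrix.one_apply_ne, _root_.MulZeroClass.mul_zero, _root_.add_zero, Fin.reduceEq, _root_.Fin.val_succ, _root_.Fin.succ_zero_eq_one, _root_.zero_add, _root_.pow_one, _root_.Matrix.of_apply, _root_.Matrix.cons_val', _root_.Matrix.cons_val_zero, _root_.Matrix.cons_val_fin_one, _root_.Matrix.cons_val_one, _root_.Matrix.cons_val, _root_.Fin.val_eq_zero, Nat.reduceAdd, _root_.Fin.succ_one_eq_two, _root_.IsEmpty.forall_iff, _root_.and_true, _root_.one_mul, _root_.zero_ne_one, _root_.MulZeroClass.zero_mul, _root_.and_self])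

/-- **the matrices are determined by the traces** -/
theorem Nor.ext_trace (h2 : (2 : F) ≠ 0) {M' : G →* Matrix (Fin 3) (Fin 3) F} (h : Nor M t1 t2 c)
    (h' : Nor M' t1 t2 c) (T : Tet t1 t2 c) (htr : ∀ g, trace (M g) = trace (M' g)) (g : G) : M g = M' g := by
  ext i j
  have h3 : 2 * M g i j = 2 * M' g i j := by rw [h.entry T, h'.entry T, htr, htr]
  exact mul_left_cancel₀ h2 h3

/-- **real traces: orthogonal matrices** -/
theorem Nor.transpose (h2 : (2 : F) ≠ 0) (h : Nor M t1 t2 c) (T : Tet t1 t2 c)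
    (htr : ∀ g, trace (M g⁻¹) = trace (M g)) (g : G) : M g⁻¹ = (M g)ᵀ := by
  ext i j
  have h1 : t1⁻¹ = t1 := inv_eq_of_mul_eq_one_right T.s1
  have e1 : trace (M ((c ^ (i : ℕ))⁻¹ * g⁻¹ * c ^ (j : ℕ))) = trace (M ((c ^ (j : ℕ))⁻¹ * g * c ^ (i : ℕ))) := by
    rw [← htr ((c ^ (j : ℕ))⁻¹ * g * c ^ (i : ℕ))]
    congr 2
    group
  have e2 : trace (M ((c ^ (i : ℕ))⁻¹ * g⁻¹ * c ^ (j : ℕ) * t1)) =
      trace (M ((c ^ (j : ℕ))⁻¹ * g * c ^ (i : ℕ) * t1)) := by
    rw [map_mul M ((c ^ (j : ℕ))⁻¹ * g * c ^ (i : ℕ)) t1, Matrix.trace_mul_comm, ← map_mul,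
      ← htr (t1 * ((c ^ (j : ℕ))⁻¹ * g * c ^ (i : ℕ)))]
    congr 2
    rw [_root_.mul_inv_rev, h1]
    group
  have h3 : 2 * M g⁻¹ i j = 2 * M g j i := by rw [h.entry T, h.entry T g j i, e1, e2]
  exact mul_left_cancel₀ h2 h3

/-- **the commutant consists of scalars** -/
theorem Nor.scalar (h2 : (2 : F) ≠ 0) (h : Nor M t1 t2 c) {X : Matrix (Fin 3) (Fin 3) F}
    (hX : ∀ g, X * M g = M g * X) : X = X 0 0 • (1 : Matrix (Fin 3) (Fin 3) F) := by
  have g1 := hX t1
  have g2 := hX t2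
  have gc := hX c
  rw [h.m1] at g1
  rw [h.m2] at g2
  rw [h.mc] at gc
  have k1 := fun i j => congrFun (congrFun g1 i) j
  have k2 := fun i j => congrFun (congrFun g2 i) j
  have kc := fun i j => congrFun (congrFun gc i) j
  have z : ∀ {x : F}, -x = x → x = 0 := by
    intro x hx
    have h3 : (2 : F) * x = 0 := by linear_combination -hx
    exact (mul_eq_zero.1 h3).resolve_left h2
  have a01 := k1 0 1
  have a02 := k1 0 2
  have a10 := k1 1 0
  have a20 := k1 2 0
  have b12 := k2 1 2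
  have b21 := k2 2 1
  have c10 := kc 1 0
  have c21 := kc 2 1
  simp only [Matrix.mul_apply, Fin.sum_univ_three, _root_.Fin.isValue, _root_.Matrix.of_apply, _root_.Matrix.cons_val', _root_.Matrix.cons_val_one, _root_.Matrix.cons_val_zero, _root_.Matrix.cons_val_fin_one, _root_.MulZeroClass.mul_zero, _root_.mul_neg, _root_.mul_one, _root_.zero_add, _root_.Matrix.cons_val, _root_.add_zero, _root_.one_mul, _root_.MulZeroClass.zero_mul, _root_.neg_mul] at a01 a02 a10 a20 b12 b21 c10 c21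
  have x01 : X 0 1 = 0 := z a01
  have x02 : X 0 2 = 0 := z a02
  have x10 : X 1 0 = 0 := z a10.symm
  have x20 : X 2 0 = 0 := z a20.symm
  have x12 : X 1 2 = 0 := z b12
  have x21 : X 2 1 = 0 := z b21.symm
  ext i j
  (revert i j; simp only [x01, x02, x10, x20, x12, x21, c10, c21, _root_.Fin.forall_fin_succ, Fin.isValue, _root_.Matrix.smul_apply, _root_.smul_eq_mul, _root_.Fin.succ_zero_eq_one, _root_.Fin.succ_one_eq_two, _root_.IsEmpty.forall_iff, _root_.and_true, _root_.Matrix.one_apply_eq, _root_.mul_one, Nat.reduceAdd, _root_.ne_eq, _root_.zero_ne_one, _root_.not_false_eq_true, _root_.Matrix.one_apply_ne, _root_.MulZeroClass.mul_zero, Fin.reduceEq, _root_.and_self, _root_.Fin.succ_ne_zero])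

end nor

end Cfsg.Agent.R2.T1.N6R
end

-- part: R2/T1/N6R/Twi
section
/-!
# S5929, `n = 6`, `p = 3`, packet C2-rep: traces, the twisted representation, the eigenvector (helper7)

* `trace_conj`, `trace_inv6`, `trace_three` : traces of a three-dimensional representation of `A₆`, characteristic three;
* `trace_twist` : the traces are invariant under an injective endomorphism which does not fuse the elements of order five;
* `exists_twist` : the matrix of the twist, `P * M g = M (α g) * P`;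
* `exists_eig` : an eigenvector of the twist on a space of homomorphisms.
-/

set_option autoImplicit false

namespace Cfsg.Agent.R2.T1.N6R

open Module Matrix

universe u

variable {F : Type u} [Field F]

/-! ### traces -/

section trace
variable {G : Type*} [Group G] {M : G →* Matrix (Fin 3) (Fin 3) F}

theorem trace_conj {x y : G} (h : IsConj x y) : trace (M x) = trace (M y) := by
  obtain ⟨z, hz⟩ := isConj_iff.1 h
  rw [← hz, map_mul, map_mul, Matrix.trace_mul_comm, ← mul_assoc, ← map_mul, inv_mul_cancel, map_one, one_mul]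

theorem trace_three (h3 : (3 : F) = 0) {x : G} (hx : x ^ 3 = 1) : trace (M x) = 0 := by
  have h1 : (M x - 1) ^ 3 = 0 := by
    have h4 : (M x) ^ 3 = 1 := by rw [← map_pow, hx, map_one]
    have h5 : (M x - 1) ^ 3 = (M x) ^ 3 - 1 - (3 : F) • ((M x) ^ 2 - M x) := by
      have : (3 : F) • ((M x) ^ 2 - M x) = 3 * ((M x) ^ 2 - M x) := by
        rw [show (3 : F) = 1 + 1 + 1 by norm_num, add_smul, add_smul, one_smul]
        noncomm_ring
      rw [this]
      noncomm_ring
    rw [h5, h4, h3, zero_smul, sub_self, sub_zero]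
  have h2 : IsNilpotent (trace (M x - 1)) := Matrix.isNilpotent_trace_of_isNilpotent ⟨3, h1⟩
  have h6 := h2.eq_zero
  rw [Matrix.trace_sub, Matrix.trace_one, Fintype.card_fin, sub_eq_zero] at h6
  rw [h6]
  exact_mod_cast h3

end trace

section six
variable {M : A6 →* Matrix (Fin 3) (Fin 3) F}

theorem trace_inv6 (x : A6) : trace (M x⁻¹) = trace (M x) := (trace_conj (real6 x)).symm

theorem trace_twist (h3 : (3 : F) = 0) {α : A6 →* A6} (hα : Function.Injective α)
    (hf : ∀ x : A6, orderOf x = 5 → ¬ IsConj (x * x) (α x)) (x : A6) : trace (M (α x)) = trace (M x) := by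
  have ho : orderOf (α x) = orderOf x := orderOf_injective α hα x
  rcases cls6 ho.symm with h | h | ⟨h, h'⟩
  · rw [trace_three h3 h, trace_three h3 (by rw [← map_pow, h, map_one])]
  · exact (trace_conj h).symm
  · exact absurd h' (hf x h)

theorem trace_u1 (h : Nor M u1 u2 uc) : trace (M u1) = -1 := by
  rw [h.m1, Matrix.trace_fin_three]
  simp

/-- **the matrix of the twist** -/
theorem exists_twist (h3 : (3 : F) = 0) (h : Nor M u1 u2 uc) {α : A6 →* A6} (hα : Function.Injective α)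
    (hf : ∀ x : A6, orderOf x = 5 → ¬ IsConj (x * x) (α x)) :
    ∃ P : Matrix (Fin 3) (Fin 3) F, P.det ≠ 0 ∧ ∀ g, P * M g = M (α g) * P := by
  have h2 : (2 : F) ≠ 0 := by
    intro h2
    have h' : (1 : F) = 0 := by linear_combination h3 - h2
    exact one_ne_zero h'
  let ρ : Representation F A6 (Fin 3 → F) :=
    { toFun := fun g => Matrix.toLin' (M (α g))
      map_one' := by rw [map_one, map_one, Matrix.toLin'_one]; rfl
      map_mul' := by intro g g'; rw [map_mul, map_mul, Matrix.toLin'_mul]; rfl }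
  have hρ : ∀ g x, ρ g x = M (α g) *ᵥ x := fun g x => Matrix.toLin'_apply _ _
  have hne : ∃ w, ρ u1 w ≠ w := by
    by_contra hcon
    push Not at hcon
    have h4 : M (α u1) = 1 := by
      apply Matrix.toLin'.injective
      refine LinearMap.ext fun x => ?_
      rw [Matrix.toLin'_apply, Matrix.toLin'_apply, Matrix.one_mulVec, ← hρ, hcon]
    have h5 := trace_twist (M := M) h3 hα hf u1
    rw [h4, Matrix.trace_one, trace_u1 h, Fintype.card_fin] at h5
    have h6 : (1 : F) = 0 := by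
      have : ((3 : ℕ) : F) = 0 := by exact_mod_cast h3
      rw [this] at h5
      linear_combination h5
    exact one_ne_zero h6
  obtain ⟨M', e, hN, he⟩ := exists_nor h2 ρ (by rw [Module.finrank_fin_fun]) tet6 hne
  have hP : ∀ g, LinearMap.toMatrix' (e : (Fin 3 → F) →ₗ[F] (Fin 3 → F)) * M' g =
      M (α g) * LinearMap.toMatrix' (e : (Fin 3 → F) →ₗ[F] (Fin 3 → F)) := by
    intro g
    apply Matrix.toLin'.injective
    refine LinearMap.ext fun x => ?_
    rw [Matrix.toLin'_mul, Matrix.toLin'_mul, Matrix.toLin'_toMatrix', LinearMap.comp_apply, LinearMap.comp_apply,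
      Matrix.toLin'_apply, Matrix.toLin'_apply]
    exact (he g x).trans (hρ g _)
  have hdet : (LinearMap.toMatrix' (e : (Fin 3 → F) →ₗ[F] (Fin 3 → F))).det ≠ 0 := by
    rw [LinearMap.det_toMatrix']
    exact (LinearEquiv.isUnit_det' e).ne_zero
  refine ⟨_, hdet, fun g => ?_⟩
  have h7 : M g = M' g := by
    refine h.ext_trace h2 hN tet6 (fun x => ?_) g
    rw [← trace_twist (M := M) h3 hα hf x]
    have h8 : IsUnit (LinearMap.toMatrix' (e : (Fin 3 → F) →ₗ[F] (Fin 3 → F))).det := isUnit_iff_ne_zero.2 hdet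
    have h9 : M' x = (LinearMap.toMatrix' (e : (Fin 3 → F) →ₗ[F] (Fin 3 → F)))⁻¹ * (M (α x) *
        LinearMap.toMatrix' (e : (Fin 3 → F) →ₗ[F] (Fin 3 → F))) := by
      rw [← hP, ← mul_assoc, Matrix.nonsing_inv_mul _ h8, one_mul]
    rw [h9, Matrix.trace_mul_comm, mul_assoc, Matrix.mul_nonsing_inv _ h8, mul_one]
  rw [h7]
  exact hP g

/-- **the matrices are orthogonal** -/
theorem orth6 (h2 : (2 : F) ≠ 0) (h : Nor M u1 u2 uc) (g : A6) : M g * (M g)ᵀ = 1 := by
  rw [← h.transpose h2 tet6 trace_inv6, ← map_mul, mul_inv_cancel, map_one]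

/-- **the square of the twist** -/
theorem twist_sq (h2 : (2 : F) ≠ 0) {i : F} (hi : i * i = -1) (h : Nor M u1 u2 uc) {α : A6 →* A6}
    {P : Matrix (Fin 3) (Fin 3) F} (hP : P.det ≠ 0) (hPM : ∀ g, P * M g = M (α g) * P) {y : A6}
    (hy : ∀ g, α (α g) = y * g * y⁻¹) {ε : F} (hε : ε = 1 ∨ ε = -1) :
    ∃ ν : F, ε • (M y * P⁻¹ * P⁻¹) = (ν * ν) • (1 : Matrix (Fin 3) (Fin 3) F) := by
  have hu : IsUnit P.det := isUnit_iff_ne_zero.2 hP
  obtain ⟨μ, hμ⟩ : ∃ μ : F, M y⁻¹ * P * P = μ • (1 : Matrix (Fin 3) (Fin 3) F) := by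
    refine ⟨_, h.scalar h2 (X := M y⁻¹ * P * P) fun g => ?_⟩
    calc M y⁻¹ * P * P * M g = M y⁻¹ * (P * (P * M g)) := by simp only [mul_assoc]
      _ = M y⁻¹ * (P * M (α g) * P) := by rw [hPM g]; simp only [mul_assoc]
      _ = M y⁻¹ * (M (α (α g)) * P * P) := by rw [hPM (α g)]
      _ = M (y⁻¹ * (y * g * y⁻¹)) * P * P := by rw [hy, map_mul M y⁻¹ (y * g * y⁻¹)]; simp only [mul_assoc]
      _ = M (g * y⁻¹) * P * P := by rw [show y⁻¹ * (y * g * y⁻¹) = g * y⁻¹ by group]
      _ = _ := by rw [map_mul]; simp only [mul_assoc]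
  have hPP : P * P = μ • M y := by
    have h1 : M y * (M y⁻¹ * P * P) = P * P := by
      rw [mul_assoc, ← mul_assoc (M y), ← map_mul, mul_inv_cancel, map_one, one_mul]
    rw [← h1, hμ, mul_smul_comm, mul_one]
  have hdd : (M y).det * (M y).det = 1 := by
    have h1 := congrArg Matrix.det (orth6 h2 h y)
    rwa [Matrix.det_mul, Matrix.det_transpose, Matrix.det_one] at h1
  have hdet : P.det * P.det = μ ^ 3 * (M y).det := by
    rw [← Matrix.det_mul, hPP, Matrix.det_smul, Fintype.card_fin]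
  have hμ0 : μ ≠ 0 := by
    rintro rfl
    rw [zero_pow (by norm_num), zero_mul, mul_self_eq_zero] at hdet
    exact hP hdet
  have hd : (M y).det = 1 ∨ (M y).det = -1 := mul_self_eq_one_iff.1 hdd
  -- the inverse of `μ`
  have hinv : M y * P⁻¹ * P⁻¹ = μ⁻¹ • (1 : Matrix (Fin 3) (Fin 3) F) := by
    have h1 : M y = μ⁻¹ • (P * P) := by rw [hPP, smul_smul, inv_mul_cancel₀ hμ0, one_smul]
    rw [h1, smul_mul_assoc, smul_mul_assoc, mul_assoc P P, Matrix.mul_nonsing_inv _ hu, mul_one,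
      Matrix.mul_nonsing_inv _ hu]
  obtain ⟨κ, hκ1, hκ2⟩ : ∃ κ : F, (κ = 1 ∨ κ = -1) ∧ ε * μ⁻¹ = κ * ((μ / P.det) * (μ / P.det)) := by
    refine ⟨ε * (M y).det, ?_, ?_⟩
    · rcases hε with rfl | rfl <;> rcases hd with h1 | h1 <;> rw [h1] <;> norm_num only [_root_.true_or, _root_.or_true]
    · have h1 : μ⁻¹ = (M y).det * ((μ / P.det) * (μ / P.det)) := by
        field_simp
        linear_combination hdet
      rw [mul_assoc, ← h1]
  rw [hinv, smul_smul, hκ2]
  rcases hκ1 with rfl | rfl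
  · exact ⟨μ / P.det, by rw [one_mul]⟩
  · exact ⟨i * (μ / P.det), by rw [show i * (μ / P.det) * (i * (μ / P.det)) = (i * i) * ((μ / P.det) * (μ / P.det)) by ring, hi]⟩

end six

/-! ### the eigenvector -/

theorem exists_eig {E : Type*} [AddCommGroup E] [Module F E] {Θ : E →ₗ[F] E} {C : Submodule F E} (hC : ∀ f ∈ C, Θ f ∈ C)
    {ν : F} {f0 : E} (h0 : f0 ≠ 0) (hf : f0 ∈ C) (hΘ : Θ (Θ f0) = (ν * ν) • f0) :
    ∃ f ∈ C, f ≠ 0 ∧ ∃ ν' : F, Θ f = ν' • f := by
  by_cases h1 : Θ f0 + ν • f0 = 0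
  · exact ⟨f0, hf, h0, -ν, by rw [neg_smul]; exact eq_neg_of_add_eq_zero_left h1⟩
  · refine ⟨_, C.add_mem (hC _ hf) (C.smul_mem ν hf), h1, ν, ?_⟩
    rw [map_add, map_smul, hΘ, smul_add, smul_smul, add_comm]

end Cfsg.Agent.R2.T1.N6R
end
end

-- part: R2/T1/N7/PB/Act
section
prune_inst 0x40520604521400200001c0082110000850100010000430000982404000847b262200726414e000d10001a8c902000000000000010002000000000000000010120800052060340a904060009801084010000000000000000000000000000041004004010000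
set_option linter.all false
open scoped Cfsg.Agent.FastGrp

-- part: R2/T1/N7/PB/Dat
section
/-!
# S5929, `n = 7`, `p = 3`, lift, pattern B: the action of `A₇` on the 15 cosets of `L₂(7)` (helper7)

`s2`, `s3` generate `L₂(7)`; `tt i` are representatives of its 15 cosets; `fa`, `fb` describe the action of the
generators `a7`, `b7`; `w` spans the `(D₈, λ)`-eigenspace of the permutation module; the translates of `w` span the
zero-sum vectors modulo 3.
-/

set_option autoImplicit false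
set_option maxRecDepth 100000

namespace Cfsg.Agent.R2.T1.N7.PB

open Equiv Equiv.Perm

/-- the alternating group of degree seven -/
abbrev A7 := ↥(alternatingGroup (Fin 7))

section wordd
variable {G : Type*} [Group G]

/-- the letters -/
def lt (x y : G) : Fin 4 → G := ![x, x⁻¹, y, y⁻¹]

/-- evaluation of words -/
def evw (x y : G) : List (Fin 4) → G
  | [] => 1
  | k :: l => lt x y k * evw x y l

theorem evw_mem {x y : G} {T : Subgroup G} (hx : x ∈ T) (hy : y ∈ T) (l : List (Fin 4)) : evw x y l ∈ T := by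
  induction l with
  | nil => exact T.one_mem
  | cons k l ih =>
    refine T.mul_mem ?_ ih
    fin_cases k
    · exact hx
    · exact T.inv_mem hx
    · exact hy
    · exact T.inv_mem hy

end wordd

/-- inverse words -/
def ivw (l : List (Fin 4)) : List (Fin 4) := (l.map ![1, 0, 3, 2]).reverse

/-- an even permutation of seven points -/
def mk7 (p : Perm (Fin 7)) (h : sign p = 1) : A7 := ⟨p, h⟩

def a7 : A7 := mk7 c[0, 1, 2, 3, 4] (by decide +kernel)
def b7 : A7 := mk7 c[4, 5, 6] (by decide +kernel)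
def s2 : A7 := mk7 (c[0, 5] * c[4, 6]) (by decide +kernel)
def s3 : A7 := mk7 (c[0, 2, 4] * c[1, 3, 5]) (by decide +kernel)

/-- the representatives of the 15 cosets -/
def tt : Fin 15 → A7 :=
  ![1, a7, a7 ^ 2, a7 ^ 3, a7 ^ 4,
    b7, a7 * b7, a7 ^ 2 * b7, a7 ^ 3 * b7, a7 ^ 4 * b7,
    b7 * a7, a7 * (b7 * a7), a7 ^ 2 * (b7 * a7), a7 ^ 3 * (b7 * a7), a7 ^ 4 * (b7 * a7)]

/-- the letters on 15 points -/
def ft : Fin 4 → Fin 15 → Fin 15 :=
  ![![1, 2, 3, 4, 0, 6, 7, 8, 9, 5, 11, 12, 13, 14, 10],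
    ![4, 0, 1, 2, 3, 9, 5, 6, 7, 8, 14, 10, 11, 12, 13],
    ![5, 10, 14, 13, 7, 8, 2, 9, 0, 4, 11, 1, 3, 12, 6],
    ![8, 11, 6, 12, 9, 0, 14, 4, 5, 7, 1, 10, 13, 3, 2]]

/-- words on 15 points -/
def pw (l : List (Fin 4)) (i : Fin 15) : Fin 15 := l.foldr ft i

theorem pw_nil (i : Fin 15) : pw [] i = i := rfl

theorem pw_cons (k : Fin 4) (l : List (Fin 4)) (i : Fin 15) : pw (k :: l) i = ft k (pw l i) := rfl

/-- words in `s2`, `s3` -/
def Wb : Fin 15 → List (Fin 4) :=
  ![[],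
    [],
    [0, 2, 0, 2, 0, 3, 0],
    [0, 3, 0, 2, 0, 3, 0, 3, 0, 3],
    [0, 3, 0, 3, 0, 2, 0, 3, 0],
    [0, 2],
    [2, 0, 3, 0, 3, 0, 2, 0, 2],
    [2, 0, 3, 0, 2, 0, 2, 0],
    [3, 0],
    [0],
    [2, 0, 3, 0, 3, 0, 2, 0, 2],
    [3, 0, 3, 0, 2, 0, 2, 0, 3],
    [0, 2, 0, 2, 0, 3, 0, 3, 0],
    [0, 3, 0, 2, 0, 3, 0, 3],
    [0, 2, 0, 2, 0, 3, 0, 2, 0]]

theorem a_tt : ∀ i, a7 * tt i = tt (ft 0 i) := by decide +kernel

theorem b_tt : ∀ i, b7 * tt i = tt (ft 2 i) * evw s2 s3 (Wb i) := by decide +kernel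

theorem ft_inv : ∀ i, ft 0 (ft 1 i) = i ∧ ft 1 (ft 0 i) = i ∧ ft 2 (ft 3 i) = i ∧ ft 3 (ft 2 i) = i := by decide +kernel

/-- the eigenvector -/
def w : Fin 15 → ℤ := ![1, 0, -1, -1, 1, 0, 0, -1, -1, 0, 0, 0, 1, 0, 1]

/-- the signs -/
def es8 : Fin 8 → ℤ := ![1, -1, 1, -1, 1, -1, 1, -1]

/-- the words of the elements of `D₈` -/
def gw : Fin 8 → List (Fin 4) :=
  ![[],
    [1, 1, 2, 0, 0, 2],
    [0, 2, 1, 3, 1, 3],
    [1, 3, 1, 1, 3, 0, 3, 0, 2, 0],
    [0, 2, 1, 1, 3, 0, 2, 1, 1, 3],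
    [1, 2, 1, 1, 3, 0, 0, 2, 0, 2],
    [2, 0, 2, 0, 3, 1],
    [1, 1, 2, 1, 1, 3, 1, 2, 1, 3]]

private noncomputable def _root_.Cfsg.Agent.LsF.f7cab9a_1 : {f // @Cfsg.Agent.R2.T1.N7.PB.ft = f} := ⟨_, by first | (delta Cfsg.Agent.R2.T1.N7.PB.ft; rewrite [Cfsg.Agent.LsF.vecCons_eq]; exact rfl) | exact rfl⟩
private noncomputable def _root_.Cfsg.Agent.LsF.f7cab9a_3 : {f // @Cfsg.Agent.R2.T1.N7.PB.pw = f} := ⟨_, by first | (delta Cfsg.Agent.R2.T1.N7.PB.pw; rewrite [Cfsg.Agent.LsF.f7cab9a_1.2, Cfsg.Agent.LsF.foldr_eq]; exact rfl) | exact rfl⟩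
private noncomputable def _root_.Cfsg.Agent.LsF.f7cab9a_4 : {f // @Cfsg.Agent.R2.T1.N7.PB.gw = f} := ⟨_, by first | (delta Cfsg.Agent.R2.T1.N7.PB.gw; rewrite [Cfsg.Agent.LsF.vecCons_eq]; exact rfl) | exact rfl⟩
private noncomputable def _root_.Cfsg.Agent.LsF.f7cab9a_5 : {f // @Cfsg.Agent.R2.T1.N7.PB.es8 = f} := ⟨_, by first | (delta Cfsg.Agent.R2.T1.N7.PB.es8; rewrite [Cfsg.Agent.LsF.ineg_pat, Cfsg.Agent.LsF.vecCons_eq]; exact rfl) | exact rfl⟩
private noncomputable def _root_.Cfsg.Agent.LsF.f7cab9a_6 : {f // @Cfsg.Agent.R2.T1.N7.PB.w = f} := ⟨_, by first | (delta Cfsg.Agent.R2.T1.N7.PB.w; rewrite [Cfsg.Agent.LsF.ineg_pat, Cfsg.Agent.LsF.vecCons_eq]; exact rfl) | exact rfl⟩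
theorem e_w : ∀ i j, ((∑ k, if pw (gw k) j = i then es8 k else 0) - w j * w i) % 3 = 0 := by (refine of_decide_eq_true ?_; (try (rewrite [Cfsg.Agent.LsF.sumF_pat, Cfsg.Agent.LsF.f7cab9a_3.2, Cfsg.Agent.LsF.f7cab9a_4.2, Cfsg.Agent.LsF.f7cab9a_5.2, Cfsg.Agent.LsF.f7cab9a_6.2, Cfsg.Agent.LsF.iadd_pat, Cfsg.Agent.LsF.imul_pat, Cfsg.Agent.LsF.isub_pat, Cfsg.Agent.LsF.imod_pat, Cfsg.Agent.LsF.iACM_eq, Cfsg.Agent.LsF.instIDecEq_eq, Cfsg.Agent.LsF.dFinEq_eq, Cfsg.Agent.LsF.dForallFin_eq, Cfsg.Agent.LsF.ite_eq, Cfsg.Agent.LsF.decide_eq])); decide +kernel)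

/-- the words of 14 translates -/
def ws : Fin 14 → List (Fin 4) :=
  ![[],
    [0],
    [1],
    [2],
    [0, 0],
    [0, 2],
    [1, 1],
    [1, 2],
    [2, 0],
    [2, 1],
    [3, 0],
    [3, 1],
    [0, 0, 2],
    [0, 2, 1]]

/-- the translates of `w` -/
def bas : Fin 14 → Fin 15 → ℤ :=
  ![![1, 0, -1, -1, 1, 0, 0, -1, -1, 0, 0, 0, 1, 0, 1],
    ![1, 1, 0, -1, -1, 0, 0, 0, -1, -1, 1, 0, 0, 1, 0],
    ![0, -1, -1, 1, 1, 0, -1, -1, 0, 0, 0, 1, 0, 1, 0],
    ![-1, 0, 0, 1, 0, 1, 1, 1, 0, -1, 0, 0, 0, -1, -1],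
    ![-1, 1, 1, 0, -1, -1, 0, 0, 0, -1, 0, 1, 0, 0, 1],
    ![0, -1, 0, 0, 1, -1, 1, 1, 1, 0, -1, 0, 0, 0, -1],
    ![-1, -1, 1, 1, 0, -1, -1, 0, 0, 0, 1, 0, 1, 0, 0],
    ![0, 0, 1, 0, -1, 1, 1, 0, -1, 1, 0, 0, -1, -1, 0],
    ![-1, 0, 0, 0, -1, 1, 0, -1, 0, 0, 1, 1, 1, -1, 0],
    ![0, 1, -1, 0, 0, 0, 0, 1, 0, -1, -1, 0, 1, 1, -1],
    ![0, 1, 0, 1, 0, -1, 0, -1, 1, -1, 0, 1, -1, 0, 0],
    ![0, 0, 0, 1, -1, 0, -1, 0, 0, 1, 1, -1, 1, 0, -1],
    ![1, 0, -1, 0, 0, 0, -1, 1, 1, 1, -1, -1, 0, 0, 0],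
    ![0, 0, 1, -1, 0, -1, 0, 0, 1, 0, -1, -1, 0, 1, 1]]

/-- the coefficients -/
def CC : Fin 15 → Fin 14 → ℤ :=
  ![![0, 0, 0, 0, 0, 0, 0, 0, 0, 0, 0, 0, 0, 0],
    ![-1, 1, -1, -1, 1, -1, 1, 1, -1, 0, -1, 1, 1, -1],
    ![-1, -1, -1, -1, -1, -1, 1, 0, 0, 1, 0, -1, -1, 0],
    ![0, -1, 1, 1, -1, 0, 1, -1, -1, -1, -1, -1, -1, 0],
    ![-1, 1, -1, -1, 0, -1, -1, 1, -1, 0, -1, 0, 1, -1],
    ![-1, -1, 0, 0, 0, -1, -1, -1, 0, 0, -1, 0, -1, 0],
    ![0, -1, 1, 1, 0, 1, -1, 1, -1, 1, 1, 0, 1, 0],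
    ![-1, -1, 0, 0, -1, 0, 1, 1, -1, -1, 1, 1, -1, -1],
    ![-1, -1, 0, 0, 1, 0, 1, 1, 0, -1, -1, 1, -1, 0],
    ![-1, 1, 0, -1, -1, 0, 0, 1, -1, -1, 1, -1, 1, -1],
    ![-1, -1, 0, 0, -1, 0, 0, 0, -1, 1, 1, -1, 1, -1],
    ![-1, -1, 0, -1, 1, 0, -1, -1, 0, 0, -1, 0, -1, -1],
    ![0, -1, 0, 0, 1, 0, -1, -1, 0, 0, -1, 1, -1, 0],
    ![-1, -1, 1, 0, -1, 0, 0, 1, -1, -1, 1, -1, 1, 0],
    ![0, -1, 1, 1, 0, 0, 0, 1, -1, 1, 1, -1, -1, 0]]

private noncomputable def _root_.Cfsg.Agent.LsF.f7cab9a_7 : {f // @Cfsg.Agent.R2.T1.N7.PB.bas = f} := ⟨_, by first | (delta Cfsg.Agent.R2.T1.N7.PB.bas; rewrite [Cfsg.Agent.LsF.ineg_pat, Cfsg.Agent.LsF.vecCons_eq]; exact rfl) | exact rfl⟩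
private noncomputable def _root_.Cfsg.Agent.LsF.f7cab9a_8 : {f // @Cfsg.Agent.R2.T1.N7.PB.ws = f} := ⟨_, by first | (delta Cfsg.Agent.R2.T1.N7.PB.ws; rewrite [Cfsg.Agent.LsF.vecCons_eq]; exact rfl) | exact rfl⟩
theorem bas_pw : ∀ k i, bas k (pw (ws k) i) = w i := by (refine of_decide_eq_true ?_; (try (rewrite [Cfsg.Agent.LsF.f7cab9a_7.2, Cfsg.Agent.LsF.f7cab9a_3.2, Cfsg.Agent.LsF.f7cab9a_8.2, Cfsg.Agent.LsF.f7cab9a_6.2, Cfsg.Agent.LsF.instIDecEq_eq, Cfsg.Agent.LsF.dForallFin_eq, Cfsg.Agent.LsF.decide_eq])); decide +kernel)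

private noncomputable def _root_.Cfsg.Agent.LsF.f7cab9a_9 : {f // @Cfsg.Agent.R2.T1.N7.PB.ivw = f} := ⟨_, by first | (delta Cfsg.Agent.R2.T1.N7.PB.ivw; rewrite [Cfsg.Agent.LsF.vecCons_eq, Cfsg.Agent.LsF.map_eq, Cfsg.Agent.LsF.reverse_eq]; exact rfl) | exact rfl⟩
theorem bas_ivw : ∀ k i, w (pw (ivw (ws k)) i) = bas k i := by (refine of_decide_eq_true ?_; (try (rewrite [Cfsg.Agent.LsF.f7cab9a_6.2, Cfsg.Agent.LsF.f7cab9a_3.2, Cfsg.Agent.LsF.f7cab9a_9.2, Cfsg.Agent.LsF.f7cab9a_8.2, Cfsg.Agent.LsF.f7cab9a_7.2, Cfsg.Agent.LsF.instIDecEq_eq, Cfsg.Agent.LsF.dForallFin_eq, Cfsg.Agent.LsF.decide_eq])); decide +kernel)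

private noncomputable def _root_.Cfsg.Agent.LsF.f7cab9a_10 : {f // @Cfsg.Agent.R2.T1.N7.PB.CC = f} := ⟨_, by first | (delta Cfsg.Agent.R2.T1.N7.PB.CC; rewrite [Cfsg.Agent.LsF.ineg_pat, Cfsg.Agent.LsF.vecCons_eq]; exact rfl) | exact rfl⟩
theorem c_bas : ∀ j i, ((∑ k, CC j k * bas k i) - ((if i = 0 then 1 else 0) - (if i = j then 1 else 0))) % 3 = 0 := by
  (refine of_decide_eq_true ?_; (try (rewrite [Cfsg.Agent.LsF.sumF_pat, Cfsg.Agent.LsF.f7cab9a_10.2, Cfsg.Agent.LsF.f7cab9a_7.2, Cfsg.Agent.LsF.iadd_pat, Cfsg.Agent.LsF.imul_pat, Cfsg.Agent.LsF.isub_pat, Cfsg.Agent.LsF.imod_pat, Cfsg.Agent.LsF.iACM_eq, Cfsg.Agent.LsF.instIDecEq_eq, Cfsg.Agent.LsF.dFinEq_eq, Cfsg.Agent.LsF.dForallFin_eq, Cfsg.Agent.LsF.ite_eq, Cfsg.Agent.LsF.decide_eq])); decide +kernel)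

/-- 2-transitivity -/
def tab : Fin 15 → Fin 15 → List (Fin 4) :=
  ![![[], [], [2, 0, 2, 1], [3, 0, 0, 3], [0, 2, 0, 3], [3, 1, 1, 2, 1], [2, 0, 3, 0, 3], [3, 0, 3, 1], [3, 1, 1, 3, 1, 2], [2, 1, 3, 1], [3, 1, 3, 0, 0], [2, 1, 2, 1, 3], [2, 1, 1, 2], [2, 0, 3, 1, 2], [0, 3, 0, 0, 2]],
    ![[3, 1, 3, 0], [], [0], [0, 2, 0, 2, 1], [0, 3, 0, 0, 3], [0, 2, 1, 3, 1], [1, 3, 1, 1, 3, 0], [1, 1, 2, 0, 3, 0], [0, 3, 0, 3, 1], [1, 3, 0, 2, 1, 1], [3, 0, 3, 0, 2], [2, 0, 2, 0], [3, 0, 3, 1, 1, 3], [0, 2, 1, 1, 2], [2, 0, 3, 0, 2, 0]],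
    ![[1, 2, 0, 0, 2, 0], [2, 0, 2], [], [0, 0], [2, 1, 2, 1], [3, 0, 2, 1, 1], [2, 1, 1, 3], [3, 1, 1, 3, 0], [1, 2, 0, 3, 0], [1, 1, 2, 1, 2], [2, 1, 3, 1, 2], [2, 0, 3, 0, 2, 1], [0, 2, 0, 2, 0], [2, 1, 3, 0, 0, 2, 1], [3, 0, 0, 3, 1, 1]],
    ![[1, 3, 1, 3], [2, 0, 0, 2, 0], [0, 2, 0, 2], [], [1, 1], [1, 2, 1, 2], [0, 3, 0, 2, 1, 1], [0, 2, 1, 1, 3], [0, 3, 1, 1, 3, 0], [2, 0, 3, 0], [1, 1, 2, 1, 1, 2], [0, 2, 1, 3, 1, 2], [1, 3, 0, 0, 2], [3, 1, 2, 0, 0], [3, 1, 3, 1, 2, 1]],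
    ![[1], [3, 1, 3], [1, 3, 0, 0, 3], [2, 0, 3], [], [0, 2, 0, 3, 0], [2, 1, 2], [2, 0, 0, 3, 1, 2], [1, 2, 1, 3, 1], [2, 0, 0, 2, 1], [3, 1, 2, 0, 0, 3], [1, 2, 1, 1, 2], [2, 1, 3, 0, 2, 1], [3, 0, 0, 2], [3, 1, 1, 3, 1]],
    ![[1, 1, 3, 1, 2], [3, 1, 2, 1, 3], [3, 0, 3, 0, 3], [3, 1, 1, 2], [3, 1, 3, 1], [], [3, 1, 2, 0, 0, 2], [2, 0, 2, 0, 3], [1, 1, 2, 1], [0, 3, 1], [2], [1, 3, 0, 0], [0, 2, 1, 3], [0, 0, 3], [3, 0, 2, 1]],
    ![[2, 0, 2, 1, 1], [1, 3, 1, 2], [2, 0, 0, 3, 1, 1], [1, 3, 0, 0, 2, 1], [2, 1, 1, 3, 0], [0, 0, 3, 1], [], [3, 1, 1, 2, 1, 2], [0, 2, 0, 2, 0, 3], [1, 2, 1], [0, 3, 0, 2, 1], [0, 2], [3, 0, 0], [0, 0, 2, 1, 3], [1, 1, 3]],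
    ![[1, 2, 1, 3, 0, 0], [3, 1, 1, 3, 0, 0], [3, 1, 2], [1, 2, 0, 3, 1], [3, 0, 0, 2, 1], [2, 1], [1, 1, 3, 1], [], [2, 0, 2, 0, 3, 0], [3, 0, 0, 3, 1, 2], [1, 3], [1, 2, 0, 0, 3], [0, 0, 2], [3, 0, 3], [1, 1, 2, 1, 3]],
    ![[2, 1, 1, 2, 1], [2, 1, 3, 0, 0], [1, 2, 0, 0, 2], [0, 3, 1, 2], [2, 0, 3, 1], [2, 1, 1, 3, 1, 2], [0, 2, 1], [1, 3, 1], [], [3, 0, 2, 0, 3], [1, 2, 1, 3], [3], [2, 0, 0, 3], [1, 1, 2], [0, 3, 0, 3]],
    ![[0, 2, 0, 3, 1], [0, 2, 1, 1, 2, 1], [2, 1, 1, 3, 1], [2, 0, 0, 2], [0, 0, 3, 1, 2], [3, 1, 2, 1, 3, 1], [3, 1, 3, 0, 0, 3], [0, 0, 2, 1], [3, 1], [], [1, 1, 3, 0, 0], [2, 1, 3], [0, 3], [1, 3, 0, 2, 1], [1, 2]],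
    ![[3, 1, 1, 2, 1, 1], [3, 0, 2, 0], [2, 1, 3, 1, 1, 3, 0], [0, 3, 1, 1, 3], [0, 2, 0, 2, 0, 2, 0], [1, 3, 0], [3, 0, 3, 0, 2, 0], [1, 2, 1, 3, 0], [0, 3, 1, 2, 1], [0, 0, 2, 1, 1], [], [0, 3, 0, 2], [2, 0, 2, 1, 1, 2], [2, 0, 2, 0, 2, 1], [2, 0]],
    ![[2, 0, 3, 1, 2, 1], [2, 0, 3, 0, 2], [0, 3, 0, 2, 0], [3, 0, 2, 1, 1, 2], [1, 2, 0, 0, 3, 0], [1, 1, 2, 1, 1], [3, 0], [1, 2, 0, 3, 1, 1], [2, 1, 3, 0], [2, 1, 2, 1, 3, 0], [0, 2, 0], [], [0, 0, 3, 0, 2], [2, 0, 3, 1, 1, 3], [3, 1, 3, 1, 1, 3, 0]],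
    ![[2, 0, 0, 3, 0], [0, 2, 0, 3, 1, 2, 1], [2, 1, 3, 1, 2, 1], [2, 1, 2, 0, 0], [3, 0, 2, 1, 1, 3], [1, 1, 3, 1, 2, 1], [1, 2, 1, 1], [0, 3, 0], [2, 0, 3, 1, 1], [3, 1, 1], [2, 1, 3, 1, 1, 3], [0, 0, 2, 0], [], [1, 1, 3, 0, 2], [1, 3, 0, 0, 2, 0]],
    ![[2, 0, 3, 1, 1, 3, 0], [1, 3, 1, 1, 3], [3, 1, 3, 0, 0, 2, 0], [2, 1, 3, 0, 0, 2], [3, 0, 3, 0], [0, 3, 1, 1], [1, 3, 1, 2, 1], [2, 1, 1], [0, 0, 3, 0], [0, 2, 0, 3, 1, 1], [3, 0, 0, 2, 0], [2, 1, 1, 2, 1, 1, 2], [1, 2, 0, 0], [], [1, 3, 0, 2]],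
    ![[1, 3, 0, 2, 0], [3, 0, 3, 0, 2, 1], [3, 1, 1, 3], [2, 0, 2, 0, 2, 0], [2, 1, 1, 2, 1, 2], [2, 1, 2, 0, 0, 2, 0], [0, 0, 3, 1, 1], [3, 1, 2, 1], [0, 2, 1, 1], [1, 1, 3, 0], [3, 0, 2], [3, 1, 3, 1, 2], [3, 1, 3, 0, 0, 2, 1], [2, 0, 0], []]]

private noncomputable def _root_.Cfsg.Agent.LsF.f7cab9a_11 : {f // @Cfsg.Agent.R2.T1.N7.PB.tab = f} := ⟨_, by first | (delta Cfsg.Agent.R2.T1.N7.PB.tab; rewrite [Cfsg.Agent.LsF.vecCons_eq]; exact rfl) | exact rfl⟩
theorem tab_pw : ∀ i j, i ≠ j → pw (tab i j) 0 = i ∧ pw (tab i j) 1 = j := by (refine of_decide_eq_true ?_; (try (rewrite [Cfsg.Agent.LsF.f7cab9a_3.2, Cfsg.Agent.LsF.f7cab9a_11.2, Cfsg.Agent.LsF.dAnd_eq, Cfsg.Agent.LsF.dNot_eq, Cfsg.Agent.LsF.dFinEq_eq, Cfsg.Agent.LsF.dForallFin_eq, Cfsg.Agent.LsF.dAllP_eq, Cfsg.Agent.LsF.decide_eq])); decide +kernel)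

/-- `a7`, `b7` generate `A₇` -/
theorem gen_ab : Subgroup.closure {a7, b7} = ⊤ := by
  rw [eq_top_iff]
  intro σ _
  have h1 : (σ : Perm (Fin 7)) ∈ Subgroup.closure {(a7 : Perm (Fin 7)), (b7 : Perm (Fin 7))} := by
    refine Cfsg.Agent.H952.F4.Gen.mem_of_star (n := 5) _ ?_ ?_ σ.2
    · rw [Subgroup.closure_le]
      rintro z (rfl | rfl)
      · exact a7.2
      · exact b7.2
    · have h : ∀ k : Fin 7, k ≠ 0 → evw (a7 : Perm (Fin 7)) (b7 : Perm (Fin 7)) ((
          ![[],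
    [],
    [1, 2, 1, 3, 0, 0, 2, 1, 3],
    [0, 2, 0, 3, 0, 0, 2, 0, 0, 3, 1],
    [2, 0, 3, 0, 2, 1, 1, 3],
    [0, 2, 0, 3, 1, 1],
    [0, 3, 0, 2, 1, 1]] : Fin 7 → List (Fin 4)) k) =
          swap 0 1 * swap 0 k := by decide +kernel
      intro k hk
      have h2 := h k hk
      show swap (0 : Fin 7) 1 * swap 0 k ∈ _
      rw [← h2]
      exact evw_mem (Subgroup.subset_closure (by simp)) (Subgroup.subset_closure (by simp)) _
  have h2 : (Subgroup.closure {a7, b7}).map (alternatingGroup (Fin 7)).subtype =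
      Subgroup.closure {(a7 : Perm (Fin 7)), (b7 : Perm (Fin 7))} := by
    rw [MonoidHom.map_closure, Set.image_pair]
    rfl
  rw [← h2] at h1
  obtain ⟨τ, hτ, h3⟩ := h1
  rwa [← Subtype.ext h3]

end Cfsg.Agent.R2.T1.N7.PB
end

-- part: R2/T1/N7/PB/Act
section
/-!
# S5929, `n = 7`, `p = 3`, lift, pattern B: modules with an `L₂(7)`-fixed vector (helper7)

* `act` : the words act on the 15 translates of a vector fixed by `s2`, `s3`;
* `ker0` : `∑ w i • ρ (tt i) m = 0` implies `m = 0`;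
* `const` : a relation between the translates of two independent vectors is constant.
-/

set_option autoImplicit false

namespace Cfsg.Agent.R2.T1.N7.PB

open Module

universe u v

section coef
variable {F : Type u} [Field F] {M : Type v} [AddCommGroup M] [Module F M]

theorem cast_eq (h3 : (3 : F) = 0) {a b : ℤ} (h : (a - b) % 3 = 0) : (a : F) = b := by
  obtain ⟨c, hc⟩ := Int.dvd_of_emod_eq_zero h
  have h1 : a = b + 3 * c := by linarith
  rw [h1]
  push_cast
  rw [h3, zero_mul, add_zero]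

/-- combination along a map of index types -/
theorem sum_comb {κ : Type} [Fintype κ] (c : κ → ℤ) (p : κ → Fin 15) (f : Fin 15 → M) :
    ∑ k, (c k : F) • f (p k) = ∑ i, (((∑ k, if p k = i then c k else 0 : ℤ)) : F) • f i := by
  have h : ∀ k, (c k : F) • f (p k) = ∑ i, (((if p k = i then c k else 0 : ℤ)) : F) • f i := by
    intro k
    rw [Finset.sum_eq_single (p k)]
    · rw [if_pos rfl]
    · intro i _ hi
      rw [if_neg (fun h => hi h.symm), Int.cast_zero, zero_smul]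
    · intro h
      exact absurd (Finset.mem_univ _) h
  rw [Finset.sum_congr rfl fun k _ => h k, Finset.sum_comm]
  refine Finset.sum_congr rfl fun i _ => ?_
  rw [← Finset.sum_smul, Int.cast_sum]

/-- the translates of `w` span the zero-sum vectors -/
theorem span_id (h3 : (3 : F) = 0) (f : Fin 15 → M) (j : Fin 15) :
    ∑ k, (CC j k : F) • ∑ i, (bas k i : F) • f i = f 0 - f j := by
  have h1 : ∑ k, (CC j k : F) • ∑ i, (bas k i : F) • f i = ∑ i, ((∑ k, CC j k * bas k i : ℤ) : F) • f i := by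
    rw [Finset.sum_congr rfl fun k _ => Finset.smul_sum, Finset.sum_comm]
    refine Finset.sum_congr rfl fun i _ => ?_
    rw [Int.cast_sum, Finset.sum_smul]
    refine Finset.sum_congr rfl fun k _ => ?_
    rw [smul_smul, Int.cast_mul]
  rw [h1]
  have h2 : ∀ i, ((∑ k, CC j k * bas k i : ℤ) : F) • f i =
      (if i = 0 then (1 : F) else 0) • f i - (if i = j then (1 : F) else 0) • f i := by
    intro i
    rw [← sub_smul, cast_eq h3 (c_bas j i), Int.cast_sub, Int.cast_ite, Int.cast_ite, Int.cast_one, Int.cast_zero]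
  rw [Finset.sum_congr rfl fun i _ => h2 i, Finset.sum_sub_distrib]
  simp

theorem const_of (h3 : (3 : F) = 0) {f : Fin 15 → M} (h : ∀ k, ∑ i, (bas k i : F) • f i = 0) (j : Fin 15) :
    f j = f 0 := by
  have h1 := span_id h3 f j
  rw [Finset.sum_congr rfl fun k _ => by rw [h k, smul_zero], Finset.sum_const_zero] at h1
  exact (sub_eq_zero.1 h1.symm).symm

end coef

section perm

theorem pw_append (l l' : List (Fin 4)) (i : Fin 15) : pw (l ++ l') i = pw l (pw l' i) := by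
  unfold pw
  rw [List.foldr_append]

theorem pw_ivw (l : List (Fin 4)) : ∀ i, pw (ivw l) (pw l i) = i := by
  induction l with
  | nil => intro i; rfl
  | cons k l ih =>
    intro i
    have h1 : ivw (k :: l) = ivw l ++ [![1, 0, 3, 2] k] := by
      unfold ivw
      rw [List.map_cons, List.reverse_cons]
    rw [h1, pw_append, pw_cons, pw_cons, pw_nil]
    have h2 : ft (![1, 0, 3, 2] k) (ft k (pw l i)) = pw l i := by
      generalize pw l i = j
      obtain ⟨e1, e2, e3, e4⟩ := ft_inv j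
      clear h1 ih
      fin_cases k
      · exact e2
      · exact e1
      · exact e4
      · exact e3
    rw [h2, ih]

theorem pw_inj (l : List (Fin 4)) : Function.Injective (pw l) :=
  Function.LeftInverse.injective (pw_ivw l)

theorem pw_bij (l : List (Fin 4)) : Function.Bijective (pw l) :=
  Finite.injective_iff_bijective.1 (pw_inj l)

theorem sum_pw {M : Type v} [AddCommMonoid M] (l : List (Fin 4)) (f : Fin 15 → M) : ∑ i, f (pw l i) = ∑ i, f i :=
  (pw_bij l).sum_comp f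

end perm

section mod
variable {F : Type u} [Field F] {W : Type v} [AddCommGroup W] [Module F W] {ρ : Representation F A7 W}

theorem rho_mul (g h : A7) (v : W) : ρ (g * h) v = ρ g (ρ h v) := by rw [map_mul]; rfl

theorem rho_inv {g : A7} {v v' : W} (h : ρ g v = v') : ρ g⁻¹ v' = v := by
  rw [← h, ← rho_mul, inv_mul_cancel, map_one]; rfl

/-- fixed by the closure -/
theorem fix_clo {x y : A7} {m : W} (hx : ρ x m = m) (hy : ρ y m = m) {g : A7} (hg : g ∈ Subgroup.closure {x, y}) :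
    ρ g m = m := by
  induction hg using Subgroup.closure_induction with
  | mem z hz =>
    rcases hz with rfl | rfl
    · exact hx
    · exact hy
  | one => rw [map_one]; rfl
  | mul a b _ _ ha hb => rw [rho_mul, hb, ha]
  | inv a _ ha => exact rho_inv ha

theorem zero_of_fix (h0 : Representation.invariants ρ = ⊥) {m : W} (ha : ρ a7 m = m) (hb : ρ b7 m = m) : m = 0 := by
  have h1 : m ∈ Representation.invariants ρ := by
    intro g
    exact fix_clo ha hb (by rw [gen_ab]; exact Subgroup.mem_top g)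
  rw [h0] at h1
  exact (Submodule.mem_bot F).1 h1

variable (ρ) in
/-- fixed by `L₂(7)` -/
def Fx (m : W) : Prop := ρ s2 m = m ∧ ρ s3 m = m

theorem Fx.evw {m : W} (h : Fx ρ m) (l : List (Fin 4)) : ρ (evw s2 s3 l) m = m :=
  fix_clo h.1 h.2 (evw_mem (Subgroup.subset_closure (by simp)) (Subgroup.subset_closure (by simp)) l)

theorem act1 {m : W} (h : Fx ρ m) (k : Fin 4) (i : Fin 15) : ρ (lt a7 b7 k) (ρ (tt i) m) = ρ (tt (ft k i)) m := by
  have ha : ∀ i, ρ a7 (ρ (tt i) m) = ρ (tt (ft 0 i)) m := fun i => by rw [← rho_mul, a_tt]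
  have hb : ∀ i, ρ b7 (ρ (tt i) m) = ρ (tt (ft 2 i)) m := fun i => by rw [← rho_mul, b_tt, rho_mul, h.evw]
  fin_cases k
  · exact ha i
  · refine rho_inv ?_
    have h1 := ha (ft 1 i)
    rw [(ft_inv i).1] at h1
    exact h1
  · exact hb i
  · refine rho_inv ?_
    have h1 := hb (ft 3 i)
    rw [(ft_inv i).2.2.1] at h1
    exact h1

/-- the action of the words -/
theorem act {m : W} (h : Fx ρ m) (l : List (Fin 4)) (i : Fin 15) : ρ (evw a7 b7 l) (ρ (tt i) m) = ρ (tt (pw l i)) m := by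
  induction l with
  | nil =>
    show ρ 1 _ = _
    rw [map_one]; rfl
  | cons k l ih =>
    show ρ (lt a7 b7 k * PB.evw a7 b7 l) _ = _
    rw [rho_mul, ih, act1 h, pw_cons]

variable (ρ) in
/-- the eigenvector in the span of the translates -/
def Z (m : W) : W := ∑ i, (w i : F) • ρ (tt i) m

theorem Z_add (a b : F) (m m' : W) : Z ρ (a • m + b • m') = a • Z ρ m + b • Z ρ m' := by
  unfold Z
  rw [Finset.smul_sum, Finset.smul_sum, ← Finset.sum_add_distrib]
  refine Finset.sum_congr rfl fun i _ => ?_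
  rw [map_add, map_smul, map_smul, smul_add, smul_comm a, smul_comm b]

/-- the translates of `Z` -/
theorem Z_tr {m : W} (h : Fx ρ m) (k : Fin 14) : ρ (evw a7 b7 (ws k)) (Z ρ m) = ∑ i, (bas k i : F) • ρ (tt i) m := by
  unfold Z
  rw [map_sum, ← sum_pw (ws k) (fun i => (bas k i : F) • ρ (tt i) m)]
  refine Finset.sum_congr rfl fun i _ => ?_
  rw [map_smul, act h, bas_pw]

theorem ker0 (h3 : (3 : F) = 0) (h0 : Representation.invariants ρ = ⊥) {m : W} (h : Fx ρ m) (hz : Z ρ m = 0) : m = 0 := by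
  have h1 : ∀ j, ρ (tt j) m = ρ (tt 0) m := const_of h3 (f := fun i => ρ (tt i) m) fun k => by
    rw [← Z_tr h k, hz, map_zero]
  have h2 : ρ (tt 0) m = 0 := by
    refine zero_of_fix h0 ?_ ?_
    · exact (act1 h 0 0).trans (h1 _)
    · exact (act1 h 2 0).trans (h1 _)
  have h4 : ρ (tt 0) m = m := by
    show ρ 1 m = m
    rw [map_one]; rfl
  rw [← h4, h2]

/-- the `(D₈, λ)`-projection -/
theorem proj (h3 : (3 : F) = 0) {m : W} (h : Fx ρ m) (j : Fin 15) :
    ∑ k, (es8 k : F) • ρ (evw a7 b7 (gw k)) (ρ (tt j) m) = (w j : F) • Z ρ m := by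
  rw [Finset.sum_congr rfl fun k _ => by rw [act h (gw k) j], sum_comb es8 (fun k => pw (gw k) j) fun i => ρ (tt i) m]
  unfold Z
  rw [Finset.smul_sum]
  refine Finset.sum_congr rfl fun i _ => ?_
  rw [cast_eq h3 (e_w i j), smul_smul, Int.cast_mul]

/-- a relation between the translates of two vectors -/
theorem rel (h3 : (3 : F) = 0) {m m' : W} (h : Fx ρ m) (h' : Fx ρ m') {f f' : Fin 15 → F}
    (hr : ∑ i, f i • ρ (tt i) m + ∑ i, f' i • ρ (tt i) m' = 0) (k : Fin 14) :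
    (∑ i, (bas k i : F) * f i) • Z ρ m + (∑ i, (bas k i : F) * f' i) • Z ρ m' = 0 := by
  have e1 : ∀ {f : Fin 15 → F} {m : W}, Fx ρ m → ∑ t, (es8 t : F) • ρ (evw a7 b7 (gw t))
      (ρ (evw a7 b7 (ivw (ws k))) (∑ i, f i • ρ (tt i) m)) = (∑ i, (bas k i : F) * f i) • Z ρ m := by
    intro f m h
    rw [Finset.sum_smul]
    have e2 : ∀ t, (es8 t : F) • ρ (PB.evw a7 b7 (gw t)) (ρ (PB.evw a7 b7 (ivw (ws k))) (∑ i, f i • ρ (tt i) m)) =
        ∑ i, f i • (es8 t : F) • ρ (PB.evw a7 b7 (gw t)) (ρ (tt (pw (ivw (ws k)) i)) m) := by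
      intro t
      rw [map_sum, map_sum, Finset.smul_sum]
      refine Finset.sum_congr rfl fun i _ => ?_
      rw [map_smul, map_smul, act h, smul_comm]
    rw [Finset.sum_congr rfl fun t _ => e2 t, Finset.sum_comm]
    refine Finset.sum_congr rfl fun i _ => ?_
    rw [← Finset.smul_sum, proj h3 h, smul_smul, bas_ivw, mul_comm]
  rw [← e1 h, ← e1 h', ← Finset.sum_add_distrib]
  refine Finset.sum_eq_zero fun t _ => ?_
  rw [← smul_add, ← map_add, ← map_add, hr, map_zero, map_zero, smul_zero]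

/-- **a relation between the translates of two independent vectors is constant** -/
theorem rel_const (h3 : (3 : F) = 0) (h0 : Representation.invariants ρ = ⊥) {m m' : W} (h : Fx ρ m) (h' : Fx ρ m')
    (hi : ∀ a b : F, a • m + b • m' = 0 → a = 0 ∧ b = 0) {f f' : Fin 15 → F}
    (hr : ∑ i, f i • ρ (tt i) m + ∑ i, f' i • ρ (tt i) m' = 0) : (∀ j, f j = f 0) ∧ ∀ j, f' j = f' 0 := by
  have h1 : ∀ k, (∑ i, (bas k i : F) * f i) = 0 ∧ (∑ i, (bas k i : F) * f' i) = 0 := by
    intro k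
    have h2 := rel h3 h h' hr k
    rw [← Z_add] at h2
    refine hi _ _ (ker0 h3 h0 ?_ h2)
    constructor
    · rw [map_add, map_smul, map_smul, h.1, h'.1]
    · rw [map_add, map_smul, map_smul, h.2, h'.2]
  exact ⟨const_of h3 (f := f) fun k => (h1 k).1, const_of h3 (f := f') fun k => (h1 k).2⟩

end mod

end Cfsg.Agent.R2.T1.N7.PB
end
end

-- part: R2/T1/N6B/St
section
prune_inst 0x40520204531220200081c0080130000c503000102004340008844040604c1224220410641be100510809a845448380008110001300220000000000c0001180080088052043240a00006000e000000010000000000000000000000000000000004004010000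
set_option linter.all false
open scoped Cfsg.Agent.FastGrp

-- part: R2/T1/N6B/Hig
section
/-!
# Higman's criterion (helper22)

* `Hig ρ θ` : `∑ g, ρ g θ ρ g⁻¹ = 1`;
* `Hig.ext` : homomorphisms into such a module extend; `Hig.lift` : surjections onto it split;
* `Hig.hom` : `Hom(W, P)`.
-/

set_option autoImplicit false
set_option linter.unusedSectionVars false

namespace Cfsg.Agent.R2.T1.N6B

universe u v w

section Gen

variable {k : Type*} [Field k] {G : Type*} [Group G] [Fintype G]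
variable {P : Type*} [AddCommGroup P] [Module k P] {ρ : Representation k G P} {θ : P →ₗ[k] P}

/-- Higman's criterion -/
def Hig (ρ : Representation k G P) (θ : P →ₗ[k] P) : Prop := ∀ x, ∑ g, ρ g (θ (ρ g⁻¹ x)) = x

theorem rep_inv_apply {V : Type*} [AddCommGroup V] [Module k V] (σ : Representation k G V) (g : G) (x : V) :
    σ g⁻¹ (σ g x) = x := by
  rw [← Module.End.mul_apply, ← map_mul, inv_mul_cancel, map_one, Module.End.one_apply]

/-- averages -/
noncomputable def avg {V W : Type*} [AddCommGroup V] [Module k V] [AddCommGroup W] [Module k W]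
    (σ : Representation k G V) (τ : Representation k G W) (f : V →ₗ[k] W) : V →ₗ[k] W :=
  ∑ g, (τ g) ∘ₗ f ∘ₗ (σ g⁻¹)

theorem avg_apply {V W : Type*} [AddCommGroup V] [Module k V] [AddCommGroup W] [Module k W]
    (σ : Representation k G V) (τ : Representation k G W) (f : V →ₗ[k] W) (x : V) :
    avg σ τ f x = ∑ g, τ g (f (σ g⁻¹ x)) := by
  unfold avg
  rw [LinearMap.sum_apply]
  rfl

theorem avg_equiv {V W : Type*} [AddCommGroup V] [Module k V] [AddCommGroup W] [Module k W]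
    (σ : Representation k G V) (τ : Representation k G W) (f : V →ₗ[k] W) (g : G) (x : V) :
    avg σ τ f (σ g x) = τ g (avg σ τ f x) := by
  rw [avg_apply, avg_apply, map_sum, ← Equiv.sum_comp (Equiv.mulLeft g)]
  refine Finset.sum_congr rfl fun h _ => ?_
  rw [Equiv.coe_mulLeft, ← Module.End.mul_apply (σ (g * h)⁻¹), ← map_mul, ← Module.End.mul_apply (τ g), ← map_mul,
    mul_inv_rev, inv_mul_cancel_right]

/-- **homomorphisms into `P` extend** -/
theorem Hig.ext (hθ : Hig ρ θ) {V : Type*} [AddCommGroup V] [Module k V] (σ : Representation k G V)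
    (W : Submodule k V) (hW : ∀ g, ∀ x ∈ W, σ g x ∈ W) (f₀ : W →ₗ[k] P)
    (hf₀ : ∀ g (x : W), f₀ ⟨σ g x, hW g x x.2⟩ = ρ g (f₀ x)) :
    ∃ f : V →ₗ[k] P, (∀ g x, f (σ g x) = ρ g (f x)) ∧ ∀ x : W, f x = f₀ x := by
  obtain ⟨f₁, hf₁⟩ := f₀.exists_extend
  refine ⟨avg σ ρ (θ ∘ₗ f₁), avg_equiv _ _ _, fun x => ?_⟩
  rw [avg_apply]
  have h1 : ∀ g, ρ g ((θ ∘ₗ f₁) (σ g⁻¹ x)) = ρ g (θ (ρ g⁻¹ (f₀ x))) := by
    intro g
    rw [← hf₀ g⁻¹ x, ← hf₁]
    rfl
  rw [Finset.sum_congr rfl fun g _ => h1 g, hθ]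

/-- **surjections onto `P` split** -/
theorem Hig.lift (hθ : Hig ρ θ) {V : Type*} [AddCommGroup V] [Module k V] (σ : Representation k G V)
    (f : V →ₗ[k] P) (hf : ∀ g x, f (σ g x) = ρ g (f x)) (hs : Function.Surjective f) :
    ∃ s : P →ₗ[k] V, (∀ g x, s (ρ g x) = σ g (s x)) ∧ ∀ x, f (s x) = x := by
  obtain ⟨s₀, hs₀⟩ := f.exists_rightInverse_of_surjective (LinearMap.range_eq_top.2 hs)
  refine ⟨avg ρ σ (s₀ ∘ₗ θ), avg_equiv _ _ _, fun x => ?_⟩
  rw [avg_apply, map_sum]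
  have h1 : ∀ g, f (σ g ((s₀ ∘ₗ θ) (ρ g⁻¹ x))) = ρ g (θ (ρ g⁻¹ x)) := by
    intro g
    rw [hf]
    congr 1
    exact LinearMap.congr_fun hs₀ (θ (ρ g⁻¹ x))
  rw [Finset.sum_congr rfl fun g _ => h1 g, hθ]

/-- `Hom(W, P)` -/
theorem Hig.hom (hθ : Hig ρ θ) {W : Type*} [AddCommGroup W] [Module k W] (σ : Representation k G W) :
    Hig ((Representation.linHom σ ρ :)) (θ.compRight k) := by
  intro φ
  ext x
  rw [LinearMap.sum_apply, ← hθ (φ x)]
  refine Finset.sum_congr rfl fun g _ => ?_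
  rw [Representation.linHom_apply, Representation.linHom_apply]
  show ρ g (θ (ρ g⁻¹ (φ (σ g⁻¹⁻¹ (σ g⁻¹ x))))) = _
  rw [rep_inv_apply]

end Gen

end Cfsg.Agent.R2.T1.N6B
end

-- part: R2/T1/N6B/St
section
/-!
# The Steinberg module satisfies Higman's criterion (helper22)
-/

set_option autoImplicit false
set_option linter.unusedSectionVars false

namespace Cfsg.Agent.R2.T1.N6B

open Matrix (SpecialLinearGroup)
open Cfsg.Agent.H943.SL2Rel Cfsg.Agent.H943.SL2Mod Cfsg.Agent.R2.H28.SL2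

universe u v w

/-- sums over the big cell -/
theorem sum_bruhat {F : Type*} [Field F] [Fintype F] [DecidableEq F] [Fintype (_root_.Matrix.SpecialLinearGroup (Fin 2) F)]
    {M : Type*} [AddCommMonoid M] (Φ : _root_.Matrix.SpecialLinearGroup (Fin 2) F → M) (h0 : ∀ a t, Φ (h a * u t) = 0) :
    ∑ g, Φ g = ∑ t, ∑ a, ∑ s, Φ (u s * h a * w * u t) := by
  have hm : ∀ (s : F) (a : Fˣ) (t : F), ((u s * h a * w * u t : _root_.Matrix.SpecialLinearGroup (Fin 2) F) : Matrix (Fin 2) (Fin 2) F) =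
      !![-(s * (a : F)⁻¹), a - s * (a : F)⁻¹ * t; -(a : F)⁻¹, -((a : F)⁻¹ * t)] := by
    intro s a t
    show !![(1 : F), s; 0, 1] * !![(a : F), 0; 0, (a : F)⁻¹] * !![0, 1; -1, 0] * !![1, t; 0, 1] = _
    simp only [Matrix.mul_fin_two]
    ext i j
    (revert i j; simp only [_root_.Fin.forall_fin_succ, _root_.one_mul, _root_.MulZeroClass.mul_zero, _root_.add_zero, _root_.zero_add, _root_.mul_neg, _root_.mul_one, _root_.neg_mul, _root_.MulZeroClass.zero_mul, _root_.Matrix.of_apply, _root_.Matrix.cons_val', _root_.Matrix.cons_val_fin_one, Fin.isValue, _root_.Matrix.cons_val_zero, _root_.Matrix.cons_val_succ, _root_.forall_const, _root_.implies_true, _root_.and_true, _root_.true_and]) <;> (repeat' with_reducible apply And.intro)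
    ring
  have hinj : Function.Injective fun x : F × Fˣ × F => (u x.2.2 * h x.2.1 * w * u x.1 : _root_.Matrix.SpecialLinearGroup (Fin 2) F) := by
    rintro ⟨t, a, s⟩ ⟨t', a', s'⟩ he
    have he' : (u s * h a * w * u t : _root_.Matrix.SpecialLinearGroup (Fin 2) F) = u s' * h a' * w * u t' := he
    have h1 := congrArg (fun g : _root_.Matrix.SpecialLinearGroup (Fin 2) F => (g : Matrix (Fin 2) (Fin 2) F)) he'
    simp only [hm] at h1
    have e10 := congrFun (congrFun h1 1) 0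
    have e00 := congrFun (congrFun h1 0) 0
    have e11 := congrFun (congrFun h1 1) 1
    simp only [_root_.Fin.isValue, _root_.Matrix.of_apply, _root_.Matrix.cons_val', _root_.Matrix.cons_val_zero, _root_.Matrix.cons_val_fin_one, _root_.Matrix.cons_val_one, _root_.neg_inj, _root_.inv_inj] at e10 e00 e11
    have ha : a = a' := Units.ext e10
    subst ha
    have h2 : (a : F)⁻¹ ≠ 0 := inv_ne_zero a.ne_zero
    have hs : s = s' := mul_right_cancel₀ h2 e00
    have ht : t = t' := mul_left_cancel₀ h2 e11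
    rw [hs, ht]
  rw [← Fintype.sum_of_injective _ hinj (fun x => Φ (u x.2.2 * h x.2.1 * w * u x.1)) Φ (fun g hg => ?_) fun _ => rfl,
    Fintype.sum_prod_type]
  · refine Finset.sum_congr rfl fun s _ => ?_
    rw [Fintype.sum_prod_type]
  · rcases bruhat g with ⟨a, t, rfl⟩ | ⟨s, a, t, rfl⟩
    · exact h0 a t
    · exact absurd ⟨(t, a, s), rfl⟩ hg

variable {k : Type u} [Field k] [DecidableEq k] {F : Type w} [Field F] [Fintype F] [DecidableEq F] (ι : F →+* k)
variable (p : ℕ) [Fact p.Prime] [CharP k p] [CharP F p]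

/-- **the Steinberg module** -/
theorem hig_st [Fintype (_root_.Matrix.SpecialLinearGroup (Fin 2) F)] {V : Type*} [AddCommGroup V] [Module k V]
    {ρ : Representation k (_root_.Matrix.SpecialLinearGroup (Fin 2) F) V}
    (hV : IsV ι p ρ (Fintype.card F - 1)) : ∃ θ : V →ₗ[k] V, Hig ρ θ := by
  have hirr := hV.irr
  obtain ⟨m, hm0, hmu, hmh, hmS, -⟩ := hV.hw
  obtain ⟨f, hf0, hfu, hfh⟩ := hV.lw
  have hq := one_lt (F := F)
  have hcard : ((Fintype.card F : ℕ) : k) = 0 := by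
    have h1 : ((Fintype.card F : ℕ) : F) = 0 := Nat.cast_card_eq_zero F
    have h2 := congrArg ι h1
    rwa [map_natCast, map_zero] at h2
  have hcb : cb k F (Fintype.card F - 1) = -1 := by
    unfold cb
    rw [if_neg (lt_irrefl _)]
  rw [hcb, neg_one_smul] at hmS
  have hpow : ∀ a : Fˣ, ι (a : F) ^ (Fintype.card F - 1) = 1 := by
    intro a
    rw [← map_pow, FiniteField.pow_card_sub_one_eq_one _ a.ne_zero, map_one]
  have hmh' : ∀ a, ρ (h a) m = m := fun a => by rw [hmh, hpow, one_smul]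
  have hfh' : ∀ a x, f (ρ (h a) x) = f x := fun a x => by
    have := hfh a⁻¹ x
    rwa [inv_inv, hpow, one_mul] at this
  -- the Weyl element
  have hww : ρ w (ρ w m) = m := by
    rw [← Module.End.mul_apply, ← map_mul, w_w, hmh']
  have hwi : ρ w⁻¹ m = ρ w m := by
    conv_lhs => rw [← hww]
    rw [rep_inv_apply]
  have hfm : f m = 0 := by
    have h1 := congrArg f hmS
    rw [SS_apply, map_sum] at h1
    have h2 : ∀ t ∈ (Finset.univ : Finset F), f (ρ (u t) (ρ w m)) = f (ρ w m) := fun t _ => hfu t _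
    rw [Finset.sum_congr rfl h2, Finset.sum_const, Finset.card_univ, nsmul_eq_mul, hcard, zero_mul, map_neg] at h1
    exact neg_eq_zero.1 h1.symm
  have hfw : f (ρ w m) ≠ 0 := by
    intro h0
    apply hf0
    have key : ∀ g, f (ρ g m) = 0 := by
      intro g
      rcases bruhat g with ⟨a, t, rfl⟩ | ⟨s, a, t, rfl⟩
      · rw [map_mul, Module.End.mul_apply, hmu, hmh', hfm]
      · rw [map_mul, map_mul, map_mul, Module.End.mul_apply, Module.End.mul_apply, Module.End.mul_apply, hmu, hfu, hfh', h0]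
    -- the largest invariant subspace of the kernel
    let N : Submodule k V := ⨅ g, (LinearMap.ker (f ∘ₗ ρ g))
    have hN : ∀ x, x ∈ N ↔ ∀ g, f (ρ g x) = 0 := by
      intro x
      rw [Submodule.mem_iInf]
      rfl
    have hNi : ∀ g, ∀ x ∈ N, ρ g x ∈ N := by
      intro g x hx
      rw [hN] at hx ⊢
      intro g'
      rw [← Module.End.mul_apply, ← map_mul]
      exact hx _
    rcases hirr.2 N hNi with h1 | h1
    · have h2 : m ∈ N := (hN m).2 key
      rw [h1, Submodule.mem_bot] at h2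
      exact absurd h2 hm0
    · ext x
      have h2 : x ∈ N := by rw [h1]; trivial
      have h3 := (hN x).1 h2 1
      rwa [map_one, Module.End.one_apply] at h3
  -- the map
  let θ : V →ₗ[k] V := f.smulRight (ρ w m)
  have hθ : ∀ x, θ x = f x • ρ w m := fun _ => rfl
  have hsum : avg ρ ρ θ m = -(f (ρ w m)) • m := by
    rw [avg_apply, ← Equiv.sum_comp (Equiv.inv (_root_.Matrix.SpecialLinearGroup (Fin 2) F))]
    rw [sum_bruhat]
    · have h1 : ∀ s a t, ρ ((Equiv.inv (_root_.Matrix.SpecialLinearGroup (Fin 2) F)) (u s * h a * w * u t))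
          (θ (ρ ((Equiv.inv (_root_.Matrix.SpecialLinearGroup (Fin 2) F)) (u s * h a * w * u t))⁻¹ m)) =
          f (ρ w m) • ρ (u (-t)) (ρ w⁻¹ (ρ (h a⁻¹) (ρ (u (-s)) (ρ w m)))) := by
        intro s a t
        rw [Equiv.inv_apply, inv_inv, hθ, map_smul]
        have e1 : f (ρ (u s * h a * w * u t) m) = f (ρ w m) := by
          rw [map_mul, map_mul, map_mul, Module.End.mul_apply, Module.End.mul_apply, Module.End.mul_apply, hmu, hfu, hfh']
        rw [e1, mul_inv_rev, mul_inv_rev, mul_inv_rev, ← u_neg, ← u_neg, ← h_inv]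
        simp only [map_mul, Module.End.mul_apply]
      have h2 : ∀ x : V, ∑ s : F, ρ (u (-s)) x = ∑ s : F, ρ (u s) x := fun x =>
        Equiv.sum_comp (Equiv.neg F) (fun s => ρ (u s) x)
      have h3 : ∀ (t : F) (a : Fˣ), ∑ s : F, f (ρ w m) • ρ (u (-t)) (ρ w⁻¹ (ρ (h a⁻¹) (ρ (u (-s)) (ρ w m)))) =
          -(f (ρ w m) • ρ (u (-t)) (ρ w m)) := by
        intro t a
        rw [← Finset.smul_sum, ← map_sum, ← map_sum, ← map_sum, h2, ← SS_apply, hmS, map_neg, hmh', map_neg, hwi, map_neg,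
          smul_neg]
      have h4 : ∀ t : F, ∑ a : Fˣ, -(f (ρ w m) • ρ (u (-t)) (ρ w m)) = f (ρ w m) • ρ (u (-t)) (ρ w m) := by
        intro t
        rw [Finset.sum_const, Finset.card_univ, Fintype.card_units, ← Nat.cast_smul_eq_nsmul k, Nat.cast_sub hq.le,
          hcard, Nat.cast_one, zero_sub, neg_one_smul, neg_neg]
      rw [Finset.sum_congr rfl fun t _ => (Finset.sum_congr rfl fun a _ => (Finset.sum_congr rfl fun s _ => h1 s a t).trans
        (h3 t a)).trans (h4 t), ← Finset.smul_sum, h2, ← SS_apply, hmS, smul_neg, neg_smul]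
    · intro a t
      rw [Equiv.inv_apply, inv_inv, hθ, map_mul, Module.End.mul_apply, hmu, hmh', hfm, zero_smul, map_zero]
  -- the kernel of `avg - c`
  have hall : ∀ x, avg ρ ρ θ x = -(f (ρ w m)) • x := by
    let N : Submodule k V := LinearMap.ker (avg ρ ρ θ - (-(f (ρ w m))) • LinearMap.id)
    have hN : ∀ x, x ∈ N ↔ avg ρ ρ θ x = -(f (ρ w m)) • x := by
      intro x
      rw [LinearMap.mem_ker, LinearMap.sub_apply, sub_eq_zero]
      rfl
    have hNi : ∀ g, ∀ x ∈ N, ρ g x ∈ N := by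
      intro g x hx
      rw [hN] at hx ⊢
      rw [avg_equiv, hx, map_smul]
    rcases hirr.2 N hNi with h1 | h1
    · have h2 : m ∈ N := (hN m).2 hsum
      rw [h1, Submodule.mem_bot] at h2
      exact absurd h2 hm0
    · intro x
      have h2 : x ∈ N := by rw [h1]; trivial
      exact (hN x).1 h2
  refine ⟨(-(f (ρ w m)))⁻¹ • θ, fun x => ?_⟩
  have h1 := hall x
  rw [avg_apply] at h1
  have h2 : ∀ g, ρ g (((-(f (ρ w m)))⁻¹ • θ) (ρ g⁻¹ x)) = (-(f (ρ w m)))⁻¹ • ρ g (θ (ρ g⁻¹ x)) := fun g => by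
    rw [LinearMap.smul_apply, map_smul]
  rw [Finset.sum_congr rfl fun g _ => h2 g, ← Finset.smul_sum, h1, inv_smul_smul₀ (neg_ne_zero.2 hfw)]

end Cfsg.Agent.R2.T1.N6B
end
end

-- part: R2/T1/N6B/Cov
section
prune_inst 0x4040000003122000000000080030000400200000000000000000004060481a04200400000ba100000008280044838000811000030020000000000040001190080088112062040a000020006000000000000000000000000000000000000000000000000000
set_option linter.all false
open scoped Cfsg.Agent.FastGrp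

-- part: R2/T1/N6B/Mod
section
/-!
# The faithful modules of `SL(2, 9)` in characteristic three (helper22)

`exists_small` : a self-dual module on which `-1` acts as `-1`, and whose dimension is not divisible by `6`, contains
`V_1` or `V_3`.
-/

set_option autoImplicit false
set_option linter.unusedSectionVars false

namespace Cfsg.Agent.R2.T1.N6B

open Matrix (SpecialLinearGroup)
open Cfsg.Agent.H943.SL2Rel Cfsg.Agent.H943.SL2Mod Cfsg.Agent.H943.RepAdd Cfsg.Agent.R2.H28.SL2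
open scoped TensorProduct

universe u v w

section Char

variable (k : Type*) [Field k] [DecidableEq k] [CharP k 3]

theorem chs {z : ℂ} (hz : Zs (3 ^ 2) z) : ∃ a b : ℂ, chB k 1 z = a ∧ chB k 3 z = b ∧ chB k 0 z = 1 ∧
    chB k 2 z = a ^ 2 - 1 ∧ chB k 4 z = a * b ∧ chB k 5 z = (a ^ 2 - 1) * b ∧ chB k 6 z = b ^ 2 - 1 ∧
    chB k 7 z = a * (b ^ 2 - 1) ∧ chB k 8 z = (a ^ 2 - 1) * (b ^ 2 - 1) ∧ b = a ^ 3 - 3 * a ∧ a = b ^ 3 - 3 * b := by
  have hz0 : z ≠ 0 := hz.ne_zero (by norm_num)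
  have hz3 : z ^ 3 ≠ 0 := pow_ne_zero 3 hz0
  have e1 : ∀ y : ℂ, chi 1 y = y + y⁻¹ := chi_one
  have e2 : ∀ y : ℂ, y ≠ 0 → chi 2 y = (y + y⁻¹) ^ 2 - 1 := fun y hy => by rw [chi_two' hy, sq]
  have f1 := chB_small k 3 (n := 1) (by norm_num) z
  have f2 := chB_small k 3 (n := 2) (by norm_num) z
  have f3 := chB_single k 3 (n := 1) (by norm_num) 1 z
  have f6 := chB_single k 3 (n := 2) (by norm_num) 1 z
  have f4 := chB_pair k 3 (n := 1) (m := 1) (by norm_num) (by norm_num) (i := 0) (j := 1) (by norm_num) z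
  have f5 := chB_pair k 3 (n := 2) (m := 1) (by norm_num) (by norm_num) (i := 0) (j := 1) (by norm_num) z
  have f7 := chB_pair k 3 (n := 1) (m := 2) (by norm_num) (by norm_num) (i := 0) (j := 1) (by norm_num) z
  have f8 := chB_pair k 3 (n := 2) (m := 2) (by norm_num) (by norm_num) (i := 0) (j := 1) (by norm_num) z
  norm_num at f1 f2 f3 f4 f5 f6 f7 f8
  rw [e1] at f1 f3 f4 f5 f7
  rw [e1] at f4
  rw [e2 _ hz0] at f2 f5 f8
  rw [e2 _ hz3] at f6 f7 f8
  refine ⟨z + z⁻¹, z ^ 3 + (z ^ 3)⁻¹, f1, f3, chB_zero k z, f2, f4, f5, f6, f7, f8, ?_, ?_⟩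
  · field_simp
    ring
  · have h9 : z ^ 9 + (z ^ 9)⁻¹ = z + z⁻¹ := by
      rcases hz.frob (by norm_num) with h | h
      · norm_num at h
        rw [h]
      · norm_num at h
        rw [h, inv_inv, add_comm]
    rw [← h9]
    field_simp
    ring

end Char

variable {k : Type u} [Field k] [DecidableEq k] {F : Type} [Field F] [Fintype F] [DecidableEq F] (ι : F →+* k)
variable [CharP k 3] [CharP F 3] [IsAlgClosed k]

/-- parity -/
theorem IsV.odd {V : Type*} [AddCommGroup V] [Module k V] {ρ : Representation k (_root_.Matrix.SpecialLinearGroup (Fin 2) F) V} {b : ℕ}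
    (hV : IsV ι 3 ρ b) (hm : ∀ x, ρ (h (-1)) x = -x) : Odd b := by
  obtain ⟨m, hm0, -, hmh, -⟩ := hV.hw
  have h1 := hmh (-1)
  rw [hm] at h1
  rw [Units.val_neg, Units.val_one, map_neg, map_one] at h1
  rcases Nat.even_or_odd b with he | ho
  · rw [he.neg_one_pow, one_smul, neg_eq_iff_add_eq_zero, ← two_smul k, smul_eq_zero, or_iff_left hm0] at h1
    have h2 : ((2 : ℕ) : k) = 0 := by exact_mod_cast h1
    rw [CharP.cast_eq_zero_iff k 3] at h2
    omega
  · exact ho

theorem odd_of_JHn (n : ℕ) : ∀ {V : Type u} [AddCommGroup V] [Module k V]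
    {ρ : Representation k (_root_.Matrix.SpecialLinearGroup (Fin 2) F) V} {s : Multiset ℕ}, JHn (Sy.{u, u, 0} ι 3) n ρ s →
    (∀ x, ρ (h (-1)) x = -x) → ∀ b ∈ s, Odd b := by
  induction n with
  | zero =>
    intro V _ _ ρ s hs _ b hb
    rw [hs.2] at hb
    exact absurd hb (Multiset.notMem_zero b)
  | succ n ih =>
    intro V _ _ ρ s hs hm b hb
    obtain ⟨W, hW, c, t, hc, rfl, ht⟩ := hs
    rcases Multiset.mem_cons.1 hb with rfl | h
    · exact IsV.odd ι hc fun x => Subtype.ext (hm x)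
    · refine ih ht (fun x => ?_) b h
      obtain ⟨y, rfl⟩ := W.mkQ_surjective x
      rw [quotRep_mk, hm, map_neg]

theorem odd_cf {V : Type u} [AddCommGroup V] [Module k V] [FiniteDimensional k V]
    {ρ : Representation k (_root_.Matrix.SpecialLinearGroup (Fin 2) F) V} (hm : ∀ x, ρ (h (-1)) x = -x) :
    ∀ b ∈ cf (Sy.{u, u, 0} ι 3) ρ, Odd b := by
  obtain ⟨n, hn⟩ := cf_spec (Sy.{u, u, 0} ι 3) ρ
  exact odd_of_JHn ι n hn hm

/-- irreducible quotients exist -/
theorem exists_quot {V : Type u} [AddCommGroup V] [Module k V] [FiniteDimensional k V] [Nontrivial V]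
    (ρ : Representation k (_root_.Matrix.SpecialLinearGroup (Fin 2) F) V) :
    ∃ (c : ℕ) (B : Type u) (_ : AddCommGroup B) (_ : Module k B) (σ : Representation k (_root_.Matrix.SpecialLinearGroup (Fin 2) F) B)
      (f : V →ₗ[k] B), IsV ι 3 σ c ∧ (∀ g x, f (ρ g x) = σ g (f x)) ∧ Function.Surjective f := by
  obtain ⟨ρ', β, D⟩ := exists_dul ρ
  obtain ⟨c, X, hX, hc⟩ := exists_inSoc ι 3 ρ'
  obtain ⟨B', D', -⟩ := D.flip.sub hX
  exact ⟨c, _, _, _, _, (orth β.flip X).mkQ, IsV.dual ι 3 hc D', fun g x => rfl, Submodule.mkQ_surjective _⟩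

/-- no quotient `V_c` -/
def NoQ {V : Type u} [AddCommGroup V] [Module k V] (ρ : Representation k (_root_.Matrix.SpecialLinearGroup (Fin 2) F) V) (c : ℕ) : Prop :=
  ∀ (B : Type u) [AddCommGroup B] [Module k B] (σ : Representation k (_root_.Matrix.SpecialLinearGroup (Fin 2) F) B), IsV ι 3 σ c →
    ∀ f : V →ₗ[k] B, (∀ g x, f (ρ g x) = σ g (f x)) → f = 0

variable (k F) in
/-- the covers of `V_5`, `V_7` -/
structure Cov (b : ℕ) (s : Multiset ℕ) {P : Type u} [AddCommGroup P] [Module k P]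
    (π : Representation k (_root_.Matrix.SpecialLinearGroup (Fin 2) F) P) (ι : F →+* k) : Prop where
  hig : ∀ [Fintype (_root_.Matrix.SpecialLinearGroup (Fin 2) F)], ∃ θ : P →ₗ[k] P, Hig π θ
  cf : cf (Sy.{u, u, 0} ι 3) π = s
  neg : ∀ x, π (h (-1)) x = -x
  sub : ∀ c, InSoc ι 3 π c → c = b
  quot : ∀ c, c ≠ b → NoQ ι π c

theorem isV_RB {b : ℕ} (hb : b ≤ Fintype.card F - 1) : IsV ι 3 (RB ι 3 hb) b :=
  ⟨hb, LinearEquiv.refl k _, fun _ _ => rfl⟩

/-- the action of `-1` on `V_b` -/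
theorem IsV.neg_one {V : Type*} [AddCommGroup V] [Module k V] {ρ : Representation k (_root_.Matrix.SpecialLinearGroup (Fin 2) F) V}
    {b : ℕ} (hV : IsV ι 3 ρ b) (x : V) : ρ (h (-1)) x = (-1 : k) ^ b • x := by
  obtain ⟨m, hm0, -, hmh, -⟩ := hV.hw
  have hcen : ∀ g : _root_.Matrix.SpecialLinearGroup (Fin 2) F, g * h (-1) = h (-1) * g := by
    intro g
    have h1 : (h (-1) : _root_.Matrix.SpecialLinearGroup (Fin 2) F) = -1 := by
      apply Subtype.ext
      show !![((-1 : Fˣ) : F), 0; 0, ((-1 : Fˣ) : F)⁻¹] = -1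
      rw [Matrix.one_fin_two]
      ext i j
      (revert i j; simp only [inv_neg, _root_.Fin.forall_fin_succ, _root_.Units.val_neg, _root_.Units.val_one, _root_.inv_one, _root_.Matrix.of_apply, _root_.Matrix.cons_val', _root_.Matrix.cons_val_fin_one, _root_.Matrix.neg_apply, Fin.isValue, _root_.Matrix.cons_val_zero, _root_.Matrix.cons_val_succ, _root_.forall_const, _root_.neg_zero, _root_.and_self, _root_.implies_true])
    rw [h1, mul_neg, neg_mul, mul_one, one_mul]
  let N : Submodule k V := LinearMap.ker (ρ (h (-1)) - (-1 : k) ^ b • LinearMap.id)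
  have hN : ∀ x, x ∈ N ↔ ρ (h (-1)) x = (-1 : k) ^ b • x := by
    intro x
    rw [LinearMap.mem_ker, LinearMap.sub_apply, sub_eq_zero]
    rfl
  have hNi : ∀ g, ∀ x ∈ N, ρ g x ∈ N := by
    intro g x hx
    rw [hN] at hx ⊢
    rw [← Module.End.mul_apply, ← map_mul, ← hcen, map_mul, Module.End.mul_apply, hx, map_smul]
  rcases hV.irr.2 N hNi with h1 | h1
  · have h2 : m ∈ N := by
      rw [hN, hmh, Units.val_neg, Units.val_one, map_neg, map_one]
    rw [h1, Submodule.mem_bot] at h2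
    exact absurd h2 hm0
  · have h2 : x ∈ N := by rw [h1]; trivial
    exact (hN x).1 h2

/-- `V_8` in a tensor product -/
theorem mem_tens {A B P : Type u} [AddCommGroup A] [Module k A] [AddCommGroup B] [Module k B] [AddCommGroup P] [Module k P]
    [FiniteDimensional k A] [FiniteDimensional k B] {α : Representation k (_root_.Matrix.SpecialLinearGroup (Fin 2) F) A}
    {β : Representation k (_root_.Matrix.SpecialLinearGroup (Fin 2) F) B} {π : Representation k (_root_.Matrix.SpecialLinearGroup (Fin 2) F) P} {e : ℕ}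
    (hP : IsV ι 3 π e) (f : A →ₗ[k] B →ₗ[k] P) (hf : ∀ g x y, f (α g x) (β g y) = π g (f x y)) (hf0 : f ≠ 0) :
    e ∈ cf (Sy.{u, u, 0} ι 3) (α.tprod β) := by
  have hfin := hP.finite
  let F' : A ⊗[k] B →ₗ[k] P := TensorProduct.lift f
  have hF' : ∀ g x, F' ((α.tprod β) g x) = π g (F' x) := by
    intro g x
    have h1 : F' ∘ₗ ((α.tprod β) g) = π g ∘ₗ F' := by
      refine TensorProduct.ext' fun x y => ?_
      rw [LinearMap.comp_apply, LinearMap.comp_apply, Representation.tprod_apply, TensorProduct.map_tmul]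
      show TensorProduct.lift f (α g x ⊗ₜ[k] β g y) = π g (TensorProduct.lift f (x ⊗ₜ[k] y))
      rw [TensorProduct.lift.tmul, TensorProduct.lift.tmul, hf]
    exact LinearMap.congr_fun h1 x
  have hr : LinearMap.range F' = ⊤ := by
    rcases hP.irr.2 (LinearMap.range F') (by
      rintro g _ ⟨x, rfl⟩
      exact ⟨_, hF' g x⟩) with h1 | h1
    · exfalso
      apply hf0
      refine LinearMap.ext fun x => LinearMap.ext fun y => ?_
      have h2 : F' (x ⊗ₜ[k] y) ∈ LinearMap.range F' := ⟨_, rfl⟩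
      rw [h1, Submodule.mem_bot] at h2
      exact h2
    · exact h1
  obtain ⟨hk, hr', hcf, -⟩ := cf_exact (Sy.{u, u, 0} ι 3) (α.tprod β) π F' hF'
  rw [hcf, Multiset.mem_add]
  right
  have h3 : Eqv (subRep π _ hr') π := by
    refine ⟨(LinearEquiv.ofTop (LinearMap.range F') hr), fun g x => rfl⟩
  rw [cf_iso (Sy.{u, u, 0} ι 3) h3, cf_irr (Sy.{u, u, 0} ι 3) hP]
  exact Multiset.mem_singleton_self e

end Cfsg.Agent.R2.T1.N6B
end

-- part: R2/T1/N6B/Cov
section
/-!
# The modules `Hom(V_3, V_8)`, `Hom(V_1, V_8)` (helper22)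
-/

set_option autoImplicit false
set_option linter.unusedSectionVars false
set_option linter.unusedSimpArgs false

namespace Cfsg.Agent.R2.T1.N6B

open Matrix (SpecialLinearGroup)
open Cfsg.Agent.H943.SL2Rel Cfsg.Agent.H943.SL2Mod Cfsg.Agent.H943.RepAdd Cfsg.Agent.R2.H28.SL2
open scoped TensorProduct

universe u v w

variable {k : Type u} [Field k] [DecidableEq k] {F : Type} [Field F] [Fintype F] [DecidableEq F] (ι : F →+* k)
variable [CharP k 3] [CharP F 3] [IsAlgClosed k]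

theorem no_eight_tab (hF : Fintype.card F = 3 ^ 2) {c d : ℕ}
    (hc : (c = 3 ∧ (d = 1 ∨ d = 3 ∨ d = 7)) ∨ (c = 1 ∧ (d = 1 ∨ d = 3 ∨ d = 5)))
    {V : Type u} [AddCommGroup V] [Module k V] [FiniteDimensional k V]
    {ρ : Representation k (_root_.Matrix.SpecialLinearGroup (Fin 2) F) V}
    (h : ∀ z, Zs (3 ^ 2) z → cs k (cf (Sy.{u, u, 0} ι 3) ρ) z = chB k c z * chB k d z) {e : ℕ} (he : e = 8) :
    e ∉ cf (Sy.{u, u, 0} ι 3) ρ := by
  rw [he]
  have key : ∀ s : Multiset ℕ, (∀ b ∈ s, b < 3 ^ 2) → 8 ∉ s →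
      (∀ z, Zs (3 ^ 2) z → chB k c z * chB k d z = cs k s z) → 8 ∉ cf (Sy.{u, u, 0} ι 3) ρ := by
    intro s hs h8 hz
    rw [cf_of_cs ι 3 hF hs fun z hz' => (h z hz').trans (hz z hz')]
    exact h8
  rcases hc with ⟨rfl, rfl | rfl | rfl⟩ | ⟨rfl, rfl | rfl | rfl⟩
  · refine key {4} (by simp) (by simp) fun z hz => ?_
    obtain ⟨a, b, h1, h3, h0, h2, h4, h5, h6, h7, h8, e1, e2⟩ := chs k hz
    simp only [Multiset.insert_eq_cons, cs_cons, cs_singleton, h0, h1, h2, h3, h4, h5, h6, h7, h8]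
    linear_combination (0 : ℂ) * e1
  · refine key {6, 0} (by simp) (by simp) fun z hz => ?_
    obtain ⟨a, b, h1, h3, h0, h2, h4, h5, h6, h7, h8, e1, e2⟩ := chs k hz
    simp only [Multiset.insert_eq_cons, cs_cons, cs_singleton, h0, h1, h2, h3, h4, h5, h6, h7, h8]
    linear_combination (0 : ℂ) * e1
  · refine key {2, 0, 4, 4} (by simp) (by simp) fun z hz => ?_
    obtain ⟨a, b, h1, h3, h0, h2, h4, h5, h6, h7, h8, e1, e2⟩ := chs k hz
    simp only [Multiset.insert_eq_cons, cs_cons, cs_singleton, h0, h1, h2, h3, h4, h5, h6, h7, h8]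
    linear_combination (-a) * e2
  · refine key {2, 0} (by simp) (by simp) fun z hz => ?_
    obtain ⟨a, b, h1, h3, h0, h2, h4, h5, h6, h7, h8, e1, e2⟩ := chs k hz
    simp only [Multiset.insert_eq_cons, cs_cons, cs_singleton, h0, h1, h2, h3, h4, h5, h6, h7, h8]
    linear_combination (0 : ℂ) * e1
  · refine key {4} (by simp) (by simp) fun z hz => ?_
    obtain ⟨a, b, h1, h3, h0, h2, h4, h5, h6, h7, h8, e1, e2⟩ := chs k hz
    simp only [Multiset.insert_eq_cons, cs_cons, cs_singleton, h0, h1, h2, h3, h4, h5, h6, h7, h8]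
  · refine key {6, 0, 4, 4} (by simp) (by simp) fun z hz => ?_
    obtain ⟨a, b, h1, h3, h0, h2, h4, h5, h6, h7, h8, e1, e2⟩ := chs k hz
    simp only [Multiset.insert_eq_cons, cs_cons, cs_singleton, h0, h1, h2, h3, h4, h5, h6, h7, h8]
    linear_combination (-b) * e1

/-- **the covers** -/
theorem exists_cov (hF : Fintype.card F = 3 ^ 2) {c b : ℕ} {s : Multiset ℕ}
    (hc : (c = 3 ∧ b = 5 ∧ s = {5, 5, 1, 1, 3}) ∨ (c = 1 ∧ b = 7 ∧ s = {7, 7, 3, 3, 1})) :
    ∃ (P : Type u) (_ : AddCommGroup P) (_ : Module k P) (_ : FiniteDimensional k P)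
      (π : Representation k (_root_.Matrix.SpecialLinearGroup (Fin 2) F) P), Cov k F b s π ι := by
  have h9 : Fintype.card F = 9 := by rw [hF]; norm_num
  have hcb : c ≤ Fintype.card F - 1 := by omega
  have hc3 : Odd c := by
    rcases hc with ⟨rfl, -⟩ | ⟨rfl, -⟩ <;> decide
  have hA := isV_RB ι hcb
  have hE := isV_RB ι (le_refl (Fintype.card F - 1))
  have hfA := hA.finite
  have hfE := hE.finite
  have he : Fintype.card F - 1 = 8 := by omega
  have hev : Even (Fintype.card F - 1) := by rw [he]; decide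
  have hneg : ∀ x, Representation.linHom (RB ι 3 hcb) (RB ι 3 (le_refl (Fintype.card F - 1))) (h (-1)) x = -x := by
    intro φ
    ext1 x
    rw [Representation.linHom_apply, LinearMap.comp_apply, LinearMap.comp_apply]
    have h1 : (h (-1) : _root_.Matrix.SpecialLinearGroup (Fin 2) F)⁻¹ = h (-1) := by
      rw [← h_inv, inv_neg, inv_one]
    rw [h1, IsV.neg_one ι hE, IsV.neg_one ι hA, hev.neg_one_pow, hc3.neg_one_pow, neg_one_smul, map_neg, one_smul]
    rfl
  have hlt : ∀ {V : Type u} [AddCommGroup V] [Module k V] {ρ : Representation k (_root_.Matrix.SpecialLinearGroup (Fin 2) F) V} {d : ℕ},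
      IsV ι 3 ρ d → (∀ x, ρ (h (-1)) x = -x) → d ≠ b →
      ((c = 3 ∧ (d = 1 ∨ d = 3 ∨ d = 7)) ∨ (c = 1 ∧ (d = 1 ∨ d = 3 ∨ d = 5))) := by
    intro V _ _ ρ d hd hm hdb
    have h1 := IsV.odd ι hd hm
    have h2 := hd.choose
    obtain ⟨r, rfl⟩ := h1
    rcases hc with ⟨rfl, rfl, -⟩ | ⟨rfl, rfl, -⟩
    · left
      exact ⟨rfl, by omega⟩
    · right
      exact ⟨rfl, by omega⟩
  refine ⟨Vb ι c →ₗ[k] Vb ι (Fintype.card F - 1), inferInstance, inferInstance, inferInstance,
    Representation.linHom (RB ι 3 hcb) (RB ι 3 (le_refl (Fintype.card F - 1))),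
    ⟨?_, ?_, hneg, ?_, ?_⟩⟩
  · intro _
    obtain ⟨θ, hθ⟩ := hig_st ι 3 hE
    exact ⟨_, hθ.hom (RB ι 3 hcb)⟩
  · refine cf_of_cs ι 3 hF ?_ fun z hz => ?_
    · rcases hc with ⟨-, -, rfl⟩ | ⟨-, -, rfl⟩ <;> simp only [_root_.Multiset.insert_eq_cons, _root_.Multiset.mem_cons, _root_.Multiset.mem_singleton, _root_.or_self_left, _root_.Nat.reducePow, _root_.forall_eq_or_imp, _root_.Nat.reduceLT, _root_.Nat.one_lt_ofNat, _root_.forall_eq, _root_.and_self]
    · rw [cs_hom ι 3 hF _ _ hz, cf_irr (Sy.{u, u, 0} ι 3) hA, cf_irr (Sy.{u, u, 0} ι 3) hE, cs_singleton, cs_singleton, he]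
      obtain ⟨a, b', h1, h3, h0, h2, h4, h5, h6, h7, h8, e1, e2⟩ := chs k hz
      rcases hc with ⟨rfl, -, rfl⟩ | ⟨rfl, -, rfl⟩
      · simp only [Multiset.insert_eq_cons, cs_cons, cs_singleton, h0, h1, h2, h3, h4, h5, h6, h7, h8]
        linear_combination (-(a ^ 2 - 1)) * e2 - e1
      · simp only [Multiset.insert_eq_cons, cs_cons, cs_singleton, h0, h1, h2, h3, h4, h5, h6, h7, h8]
        linear_combination (-(b' ^ 2 - 1)) * e1 - e2
  · intro d hd
    by_contra hdb
    obtain ⟨X, hX, hXd⟩ := hd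
    have h1 := hlt hXd (fun x => Subtype.ext ((hneg x :))) hdb
    have hfX := hXd.finite
    have h2 := mem_tens ι hE (α := subRep _ (X :) hX) (β := RB ι 3 hcb) X.subtype (fun g x y => by
      show (Representation.linHom (RB ι 3 hcb) (RB ι 3 (le_refl (Fintype.card F - 1))) g x.1) (RB ι 3 hcb g y) = _
      rw [Representation.linHom_apply, LinearMap.comp_apply, LinearMap.comp_apply, rep_inv_apply]
      rfl) (fun h0 => by
      have := hXd.irr.1
      obtain ⟨x, hx⟩ := exists_ne (0 : X)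
      exact hx (Subtype.ext (LinearMap.congr_fun h0 x)))
    refine no_eight_tab ι hF h1 (fun z hz => ?_) he h2
    rw [cs_tens ι 3 hF _ _ hz, cf_irr (Sy.{u, u, 0} ι 3) hA, cf_irr (Sy.{u, u, 0} ι 3) hXd, cs_singleton, cs_singleton,
      mul_comm]
  · intro d hdb B _ _ σ hσ f hf
    by_contra hf0
    have hfB := hσ.finite
    have hs : LinearMap.range f = ⊤ := by
      rcases hσ.irr.2 (LinearMap.range f) (by
        rintro g _ ⟨x, rfl⟩
        exact ⟨_, hf g x⟩) with h1 | h1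
      · exact absurd (LinearMap.range_eq_bot.1 h1) hf0
      · exact h1
    have h1 := hlt hσ (fun x => by
      obtain ⟨y, rfl⟩ := LinearMap.range_eq_top.1 hs x
      rw [← hf, hneg]
      exact (f.map_neg y :)) hdb
    obtain ⟨α', β, D⟩ := exists_dul (RB ι 3 hcb)
    have hA' : IsV ι 3 α' c := IsV.dual ι 3 hA D
    -- the map
    let L : Vb ι (Fintype.card F - 1) →ₗ[k] (Vb ι c →ₗ[k] B) :=
      LinearMap.mk₂ k (fun v y => f ((β.flip y).smulRight v))
        (fun v v' y => by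
          rw [← map_add]
          congr 1
          ext1 x
          exact smul_add _ _ _)
        (fun a v y => by
          rw [← map_smul]
          congr 1
          ext1 x
          exact smul_comm _ _ _)
        (fun v y y' => by
          rw [← map_add]
          congr 1
          ext1 x
          show (β.flip (y + y') x) • v = β.flip y x • v + β.flip y' x • v
          rw [map_add, LinearMap.add_apply, add_smul])
        (fun a v y => by
          rw [← map_smul]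
          congr 1
          ext1 x
          show (β.flip (a • y) x) • v = a • (β.flip y x • v)
          rw [map_smul, LinearMap.smul_apply, smul_assoc])
    have hL : ∀ v y, L v y = f ((β.flip y).smulRight v) := fun _ _ => rfl
    have hL0 : L ≠ 0 := by
      intro h0
      apply hf0
      refine LinearMap.ext fun φ => ?_
      let e := Module.finBasis k (Vb ι c)
      have h2 : φ = ∑ i, (e.coord i).smulRight (φ (e i)) := by
        refine e.ext fun j => ?_
        rw [LinearMap.sum_apply, Finset.sum_eq_single j]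
        · rw [LinearMap.smulRight_apply, Module.Basis.coord_apply, Module.Basis.repr_self, Finsupp.single_eq_same, one_smul]
        · intro i _ hij
          rw [LinearMap.smulRight_apply, Module.Basis.coord_apply, Module.Basis.repr_self, Finsupp.single_eq_of_ne, zero_smul]
          exact hij
        · intro h3
          exact absurd (Finset.mem_univ _) h3
      rw [h2, map_sum, LinearMap.zero_apply]
      refine Finset.sum_eq_zero fun i _ => ?_
      obtain ⟨y, hy⟩ := D.surj (e.coord i)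
      have h3 : β.flip y = e.coord i := LinearMap.ext hy
      rw [← h3, ← hL, h0]
      rfl
    have hLe : ∀ g v, L (RB ι 3 (le_refl (Fintype.card F - 1)) g v) = Representation.linHom α' σ g (L v) := by
      intro g v
      refine LinearMap.ext fun y => ?_
      rw [Representation.linHom_apply, LinearMap.comp_apply, LinearMap.comp_apply, hL, hL, ← hf]
      congr 1
      refine LinearMap.ext fun x => ?_
      rw [Representation.linHom_apply, LinearMap.comp_apply, LinearMap.comp_apply]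
      rw [LinearMap.smulRight_apply, LinearMap.smulRight_apply, map_smul, LinearMap.flip_apply, LinearMap.flip_apply, D.inv]
    have h2 : Fintype.card F - 1 ∈ cf (Sy.{u, u, 0} ι 3) ((Representation.linHom α' σ :)) :=
      InSoc.mem_cf ι 3 (inSoc_of_hom ι 3 hE L hLe hL0)
    refine no_eight_tab ι hF h1 (fun z hz => ?_) he h2
    rw [cs_hom ι 3 hF _ _ hz, cf_irr (Sy.{u, u, 0} ι 3) hA', cf_irr (Sy.{u, u, 0} ι 3) hσ, cs_singleton, cs_singleton]

end Cfsg.Agent.R2.T1.N6B
end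
end

-- part: R2/T1/N6B/Small
section
prune_inst 0x4010000
set_option linter.all false
open scoped Cfsg.Agent.FastGrp

-- part: R2/T1/N6B/Dvd
section
/-!
# The faithful modules of `SL(2, 9)` without submodules and quotients `V_1`, `V_3` (helper22)
-/

set_option autoImplicit false
set_option linter.unusedSectionVars false

namespace Cfsg.Agent.R2.T1.N6B

open Matrix (SpecialLinearGroup)
open Cfsg.Agent.H943.SL2Rel Cfsg.Agent.H943.SL2Mod Cfsg.Agent.H943.RepAdd Cfsg.Agent.R2.H28.SL2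

universe u v w

variable {k : Type u} [Field k] [DecidableEq k] {F : Type} [Field F] [Fintype F] [DecidableEq F] (ι : F →+* k)
variable [CharP k 3] [CharP F 3] [IsAlgClosed k]

/-- quotients -/
theorem mem_cf_of_surj {V B : Type u} [AddCommGroup V] [Module k V] [FiniteDimensional k V] [AddCommGroup B] [Module k B]
    {ρ : Representation k (SpecialLinearGroup (Fin 2) F) V} {σ : Representation k (SpecialLinearGroup (Fin 2) F) B} {c : ℕ}
    (hσ : IsV ι 3 σ c) (f : V →ₗ[k] B) (hf : ∀ g x, f (ρ g x) = σ g (f x)) (hs : Function.Surjective f) :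
    c ∈ cf (Sy.{u, u, 0} ι 3) ρ := by
  have hfin := hσ.finite
  obtain ⟨hk, hr', hcf, -⟩ := cf_exact (Sy.{u, u, 0} ι 3) ρ σ f hf
  rw [hcf, Multiset.mem_add]
  right
  have h3 : Eqv (subRep σ _ hr') σ := ⟨LinearEquiv.ofTop (LinearMap.range f) (LinearMap.range_eq_top.2 hs), fun g x => rfl⟩
  rw [cf_iso (Sy.{u, u, 0} ι 3) h3, cf_irr (Sy.{u, u, 0} ι 3) hσ]
  exact Multiset.mem_singleton_self c

/-- the kernel of a map with a retraction -/
theorem noQ_ker {V P : Type u} [AddCommGroup V] [Module k V] [AddCommGroup P] [Module k P]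
    {ρ : Representation k (SpecialLinearGroup (Fin 2) F) V}
    (f : V →ₗ[k] P) (hk : ∀ g, ∀ x ∈ LinearMap.ker f, ρ g x ∈ LinearMap.ker f)
    (r : V →ₗ[k] V) (hr : ∀ g x, r (ρ g x) = ρ g (r x)) (hfr : ∀ x, f (r x) = f x) (hr0 : ∀ x, f x = 0 → r x = 0) {c : ℕ}
    (hq : NoQ ι ρ c) : NoQ ι (subRep ρ (LinearMap.ker f) hk) c := by
  intro B _ _ σ hσ g hg
  let d : V →ₗ[k] LinearMap.ker f := LinearMap.codRestrict (LinearMap.ker f) (LinearMap.id - r) fun x => by
    rw [LinearMap.mem_ker, LinearMap.sub_apply, LinearMap.id_apply, map_sub, hfr, sub_self]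
  have hd : ∀ x, (d x : V) = x - r x := fun _ => rfl
  have h1 := hq B σ hσ (g ∘ₗ d) fun s x => by
    rw [LinearMap.comp_apply, LinearMap.comp_apply, ← hg]
    congr 1
    apply Subtype.ext
    rw [hd]
    show ρ s x - r (ρ s x) = ρ s (d x)
    rw [hd, map_sub, hr]
  refine LinearMap.ext fun x => ?_
  have h2 := LinearMap.congr_fun h1 (x : V)
  rw [LinearMap.comp_apply] at h2
  have h3 : d (x : V) = x := by
    apply Subtype.ext
    rw [hd, hr0 _ x.2, sub_zero]
  rw [h3] at h2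
  exact h2

/-- **the count** -/
theorem three_dvd (hF : Fintype.card F = 3 ^ 2) (n : ℕ) : ∀ (V : Type u) [AddCommGroup V] [Module k V] [FiniteDimensional k V]
    (ρ : Representation k (SpecialLinearGroup (Fin 2) F) V), Module.finrank k V ≤ n → (∀ x, ρ (h (-1)) x = -x) →
    (∀ c, c = 1 ∨ c = 3 → ¬ InSoc ι 3 ρ c ∧ NoQ ι ρ c) →
    3 ∣ (cf (Sy.{u, u, 0} ι 3) ρ).count 1 + (cf (Sy.{u, u, 0} ι 3) ρ).count 3 := by
  classical
  have : Fintype (SpecialLinearGroup (Fin 2) F) := Fintype.ofFinite _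
  have h9 : Fintype.card F = 9 := by rw [hF]; norm_num
  induction n with
  | zero =>
    intro V _ _ _ ρ hn _ _
    have h1 : Subsingleton V := (Module.finrank_zero_iff (R := k)).1 (by omega)
    rw [cf_zero]
    simp
  | succ n ih =>
    intro V _ _ _ ρ hn hm hno
    by_cases hnt : Nontrivial V
    swap
    · have := not_nontrivial_iff_subsingleton.1 hnt
      rw [cf_zero]
      simp
    obtain ⟨b, X, hX, hb⟩ := exists_inSoc ι 3 ρ
    have hbo := IsV.odd ι hb fun x => Subtype.ext (hm x)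
    have hb8 := hb.choose
    have hb1 : b ≠ 1 := fun h0 => (hno 1 (Or.inl rfl)).1 ⟨X, hX, h0 ▸ hb⟩
    have hb3 : b ≠ 3 := fun h0 => (hno 3 (Or.inr rfl)).1 ⟨X, hX, h0 ▸ hb⟩
    obtain ⟨c, s, hc⟩ : ∃ c s, (c = 3 ∧ b = 5 ∧ s = ({5, 5, 1, 1, 3} : Multiset ℕ)) ∨
        (c = 1 ∧ b = 7 ∧ s = ({7, 7, 3, 3, 1} : Multiset ℕ)) := by
      obtain ⟨r, hr⟩ := hbo
      have h1 : b = 5 ∨ b = 7 := by omega
      rcases h1 with h1 | h1
      · exact ⟨3, _, Or.inl ⟨rfl, h1, rfl⟩⟩
      · exact ⟨1, _, Or.inr ⟨rfl, h1, rfl⟩⟩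
    have hs1 : s.count b = 2 := by
      rcases hc with ⟨-, rfl, rfl⟩ | ⟨-, rfl, rfl⟩ <;> decide
    have hs2 : s.count 1 + s.count 3 = 3 := by
      rcases hc with ⟨-, rfl, rfl⟩ | ⟨-, rfl, rfl⟩ <;> decide
    have hs3 : ∀ d ∈ s, d = b ∨ d = 1 ∨ d = 3 := by
      rcases hc with ⟨-, rfl, rfl⟩ | ⟨-, rfl, rfl⟩ <;> decide
    obtain ⟨P, _, _, _, π, C⟩ := exists_cov ι hF hc
    obtain ⟨θ, hθ⟩ := C.hig
    have hPn : Nontrivial P := by
      by_contra h0
      have h1 := not_nontrivial_iff_subsingleton.1 h0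
      have h2 := C.cf
      rw [cf_zero] at h2
      rw [← h2] at hs1
      simp at hs1
    obtain ⟨b', Y, hY, hYb⟩ := exists_inSoc ι 3 π
    obtain rfl : b' = b := C.sub b' ⟨Y, hY, hYb⟩
    -- the embedding of `X`
    obtain ⟨hb', φ₁, hφ₁⟩ := id hb
    obtain ⟨hb'', φ₂, hφ₂⟩ := hYb
    let f₀ : X →ₗ[k] P := Y.subtype ∘ₗ (φ₂ : Vb ι b' →ₗ[k] Y) ∘ₗ (φ₁.symm : X →ₗ[k] Vb ι b')
    have hf₀ : ∀ x, f₀ x = (φ₂ (φ₁.symm x) : P) := fun _ => rfl
    have hf₀i : Function.Injective f₀ := by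
      intro x y hxy
      rw [hf₀, hf₀] at hxy
      exact φ₁.symm.injective (φ₂.injective (Subtype.ext hxy))
    have hf₀e : ∀ g (x : X), f₀ ⟨ρ g x, hX g x x.2⟩ = π g (f₀ x) := by
      intro g x
      have h1 : φ₁.symm ⟨ρ g x, hX g x x.2⟩ = RB ι 3 hb' g (φ₁.symm x) := by
        apply φ₁.injective
        rw [φ₁.apply_symm_apply, hφ₁, φ₁.apply_symm_apply]
        rfl
      rw [hf₀, hf₀, h1, hφ₂]
      rfl
    obtain ⟨f, hf, hff⟩ := hθ.ext ρ X hX f₀ hf₀e
    obtain ⟨hk, hr, hcf, -⟩ := cf_exact (Sy.{u, u, 0} ι 3) ρ π f hf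
    have hXn := hb.irr.1
    have hrk : Module.finrank k (LinearMap.ker f) < Module.finrank k V := by
      have h1 := LinearMap.finrank_range_add_finrank_ker f
      have h2 : 0 < Module.finrank k (LinearMap.range f) := by
        rw [Nat.pos_iff_ne_zero, Ne, Submodule.finrank_eq_zero]
        intro h3
        obtain ⟨x, hx⟩ := exists_ne (0 : X)
        apply hx
        apply hf₀i
        have h4 : f x ∈ LinearMap.range f := ⟨_, rfl⟩
        rw [h3, Submodule.mem_bot] at h4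
        rw [← hff, h4, map_zero]
      omega
    -- the retraction
    suffices hS : ∃ r : V →ₗ[k] V, (∀ g x, r (ρ g x) = ρ g (r x)) ∧ (∀ x, f (r x) = f x) ∧ (∀ x, f x = 0 → r x = 0) ∧
        3 ∣ (cf (Sy.{u, u, 0} ι 3) (subRep π _ hr)).count 1 + (cf (Sy.{u, u, 0} ι 3) (subRep π _ hr)).count 3 by
      obtain ⟨r, hr1, hr2, hr3, hd⟩ := hS
      have h1 := ih (LinearMap.ker f) (subRep ρ (LinearMap.ker f) hk) (by omega) (fun x => Subtype.ext (hm x)) fun c hc' =>
        ⟨fun h2 => (hno c hc').1 (h2.iso ι 3 (LinearMap.ker f).subtype (fun _ _ => rfl) (LinearMap.ker f).injective_subtype),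
          noQ_ker ι f hk r hr1 hr2 hr3 (hno c hc').2⟩
      rw [hcf, Multiset.count_add, Multiset.count_add]
      have h2 := Nat.dvd_add h1 hd
      convert h2 using 1
      ring
    by_cases hT : LinearMap.range f = ⊤
    · obtain ⟨t, ht1, ht2⟩ := hθ.lift ρ f hf (LinearMap.range_eq_top.1 hT)
      refine ⟨t ∘ₗ f, fun g x => ?_, fun x => ?_, fun x hx => ?_, ?_⟩
      · rw [LinearMap.comp_apply, LinearMap.comp_apply, hf, ht1]
      · rw [LinearMap.comp_apply, ht2]
      · rw [LinearMap.comp_apply, hx, map_zero]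
      · have h3 : Eqv (subRep π _ hr) π := ⟨LinearEquiv.ofTop (LinearMap.range f) hT, fun g x => rfl⟩
        rw [cf_iso (Sy.{u, u, 0} ι 3) h3, C.cf, hs2]
    · -- the quotient of `P`
      have hPR : Nontrivial (P ⧸ LinearMap.range f) := Submodule.Quotient.nontrivial_iff.2 hT
      have q1 : b' ∈ cf (Sy.{u, u, 0} ι 3) (quotRep π _ hr) := by
        obtain ⟨d, B, _, _, σ, g, hσ, hg, hgs⟩ := exists_quot ι (quotRep π _ hr)
        have h1 := mem_cf_of_surj ι hσ g hg hgs
        by_cases hdb : d = b'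
        · rw [← hdb]
          exact h1
        · exfalso
          have h2 := C.quot d hdb B σ hσ (g ∘ₗ (LinearMap.range f).mkQ) fun s x => by
            rw [LinearMap.comp_apply, LinearMap.comp_apply, ← hg, quotRep_mk]
          have := hσ.irr.1
          obtain ⟨y, hy⟩ := exists_ne (0 : B)
          obtain ⟨x, rfl⟩ := hgs y
          obtain ⟨z, rfl⟩ := Submodule.mkQ_surjective _ x
          exact hy (LinearMap.congr_fun h2 z)
      -- the image of `X` is everything
      let f₁ : X →ₗ[k] LinearMap.range f := LinearMap.codRestrict _ f₀ fun x => ⟨x, hff x⟩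
      have hf₁ : ∀ x, (f₁ x : P) = f₀ x := fun _ => rfl
      have hf₁i : Function.Injective f₁ := fun x y hxy => by
        apply hf₀i
        rw [← hf₁, ← hf₁, hxy]
      have hf₁e : ∀ g (x : X), f₁ (subRep ρ X hX g x) = subRep π _ hr g (f₁ x) := fun g x => Subtype.ext (hf₀e g x)
      have hsurj : LinearMap.range f₁ = ⊤ := by
        by_contra hne
        obtain ⟨hk1, hr1, -, -⟩ := cf_exact (Sy.{u, u, 0} ι 3) (subRep ρ X hX) (subRep π _ hr) f₁ hf₁e
        have hRn : Nontrivial (LinearMap.range f ⧸ LinearMap.range f₁) := Submodule.Quotient.nontrivial_iff.2 hne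
        have e1 : cf (Sy.{u, u, 0} ι 3) (subRep (subRep π _ hr) _ hr1) = {b'} := by
          rw [← cf_irr (Sy.{u, u, 0} ι 3) hb]
          have h0 : Eqv (subRep ρ X hX) (subRep (subRep π _ hr) _ hr1) :=
            ⟨LinearEquiv.ofInjective f₁ hf₁i, fun g x => Subtype.ext (hf₁e g x)⟩
          exact (cf_iso (Sy.{u, u, 0} ι 3) h0).symm
        obtain ⟨d, B, _, _, σ, g, hσ, hg, hgs⟩ := exists_quot ι (quotRep (subRep π _ hr) _ hr1)
        have h1 := mem_cf_of_surj ι hσ g hg hgs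
        have hcR := cf_add (Sy.{u, u, 0} ι 3) (subRep π _ hr) _ hr1
        have hcP := cf_add (Sy.{u, u, 0} ι 3) π _ hr
        have hds : d ∈ s := by
          rw [← C.cf, hcP, Multiset.mem_add, hcR, Multiset.mem_add]
          exact Or.inl (Or.inr h1)
        have hnz : ¬ (d = 1 ∨ d = 3) := by
          intro h2
          have h3 := (hno d h2).2 B σ hσ (g ∘ₗ (LinearMap.range f₁).mkQ ∘ₗ f.rangeRestrict) fun s x => by
            rw [LinearMap.comp_apply, LinearMap.comp_apply, LinearMap.comp_apply, LinearMap.comp_apply, ← hg, quotRep_mk]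
            congr 2
            exact Subtype.ext (hf s x)
          have := hσ.irr.1
          obtain ⟨y, hy⟩ := exists_ne (0 : B)
          obtain ⟨x, rfl⟩ := hgs y
          obtain ⟨z, rfl⟩ := Submodule.mkQ_surjective _ x
          obtain ⟨v, rfl⟩ := f.surjective_rangeRestrict z
          exact hy (LinearMap.congr_fun h3 v)
        have hdb : d = b' := by
          rcases hs3 d hds with h2 | h2
          · exact h2
          · exact absurd h2 hnz
        rw [hdb] at h1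
        have h4 := Multiset.count_pos.2 h1
        have h5 := Multiset.count_pos.2 q1
        rw [← C.cf, hcP, hcR, Multiset.count_add, Multiset.count_add, e1, Multiset.count_singleton_self] at hs1
        omega
      let e : X ≃ₗ[k] LinearMap.range f := LinearEquiv.ofBijective f₁ ⟨hf₁i, LinearMap.range_eq_top.1 hsurj⟩
      have he : ∀ x, ((e x : LinearMap.range f) : P) = f (x : V) := fun x => (hff x).symm
      refine ⟨X.subtype ∘ₗ (e.symm : LinearMap.range f →ₗ[k] X) ∘ₗ f.rangeRestrict, fun g x => ?_, fun x => ?_, fun x hx => ?_, ?_⟩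
      · show ((e.symm (f.rangeRestrict (ρ g x)) : X) : V) = ρ g (e.symm (f.rangeRestrict x) : X)
        have h1 : e.symm (f.rangeRestrict (ρ g x)) = subRep ρ X hX g (e.symm (f.rangeRestrict x)) := by
          apply e.injective
          rw [e.apply_symm_apply]
          show _ = f₁ _
          rw [hf₁e]
          show _ = subRep π _ hr g (e (e.symm (f.rangeRestrict x)))
          rw [e.apply_symm_apply]
          exact Subtype.ext (hf g x)
        rw [h1]
        rfl
      · show f ((e.symm (f.rangeRestrict x) : X) : V) = f x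
        rw [← he, e.apply_symm_apply]
        rfl
      · show ((e.symm (f.rangeRestrict x) : X) : V) = 0
        have h1 : f.rangeRestrict x = 0 := Subtype.ext hx
        rw [h1, map_zero]
        rfl
      · have h3 : Eqv (subRep ρ X hX) (subRep π _ hr) := ⟨e, hf₁e⟩
        rw [← cf_iso (Sy.{u, u, 0} ι 3) h3, cf_irr (Sy.{u, u, 0} ι 3) hb, Multiset.count_singleton, Multiset.count_singleton,
          if_neg (Ne.symm hb1), if_neg (Ne.symm hb3)]
        exact dvd_zero 3

end Cfsg.Agent.R2.T1.N6B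
end

-- part: R2/T1/N6B/Small
section
/-!
# Small submodules of faithful self-dual modules of `SL(2, 9)` in characteristic three (helper22)
-/

set_option autoImplicit false
set_option linter.unusedSectionVars false

namespace Cfsg.Agent.R2.T1.N6B

open Matrix (SpecialLinearGroup)
open Cfsg.Agent.H943.SL2Rel Cfsg.Agent.H943.SL2Mod Cfsg.Agent.H943.RepAdd Cfsg.Agent.R2.H28.SL2

universe u v w

variable {k : Type u} [Field k] [DecidableEq k] {F : Type} [Field F] [Fintype F] [DecidableEq F] (ι : F →+* k)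
variable [CharP k 3] [CharP F 3] [IsAlgClosed k]

/-- **small submodules** -/
theorem exists_small (hF : Fintype.card F = 3 ^ 2) {V : Type u} [AddCommGroup V] [Module k V] [FiniteDimensional k V]
    {ρ : Representation k (SpecialLinearGroup (Fin 2) F) V} (hm : ∀ x, ρ (h (-1)) x = -x) {β : V →ₗ[k] V →ₗ[k] k}
    (D : Dul ρ ρ β) (h6 : ¬ 6 ∣ Module.finrank k V) : ∃ c, (c = 1 ∨ c = 3) ∧ InSoc ι 3 ρ c := by
  by_contra hcon
  push Not at hcon
  have h1 := three_dvd ι hF _ V ρ le_rfl hm fun c hc => ⟨hcon c hc, fun B _ _ σ hσ f hf => by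
    by_contra hf0
    exact hcon c hc (inSoc_of_hom' ι 3 D hσ f hf hf0)⟩
  have h2 := finrank_cf ι 3 _ V ρ le_rfl
  have h3 : ∀ b ∈ cf (Sy.{u, u, 0} ι 3) ρ, b = 1 ∨ b = 3 ∨ b = 5 ∨ b = 7 := by
    intro b hb
    obtain ⟨r, hr⟩ := odd_cf ι hm b hb
    have := cf_lt ι 3 hF ρ b hb
    omega
  have c0 : (Bf k 0).card = 1 := card_Bf_zero
  have c1 : (Bf k 1).card = 2 := by rw [card_Bf_low k 3]; simp [c0]
  have c2 : (Bf k 2).card = 3 := by rw [card_Bf_low k 3]; simp [c0]
  have c3 : (Bf k 3).card = 2 := by rw [card_Bf_low k 3]; simp [c1]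
  have c5 : (Bf k 5).card = 6 := by rw [card_Bf_low k 3]; simp [c1]
  have c7 : (Bf k 7).card = 6 := by rw [card_Bf_low k 3]; simp [c2]
  have key : ∀ s : Multiset ℕ, (∀ b ∈ s, b = 1 ∨ b = 3 ∨ b = 5 ∨ b = 7) →
      (s.map fun b => (Bf k b).card).sum = 2 * (s.count 1 + s.count 3) + 6 * (s.count 5 + s.count 7) := by
    intro s
    induction s using Multiset.induction with
    | empty => simp
    | cons a s ih =>
      intro hs
      have h4 := ih fun b hb => hs b (Multiset.mem_cons_of_mem hb)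
      rw [Multiset.map_cons, Multiset.sum_cons, h4]
      simp only [Multiset.count_cons]
      rcases hs a (Multiset.mem_cons_self a s) with rfl | rfl | rfl | rfl
      · rw [c1]; simp; ring
      · rw [c3]; simp; ring
      · rw [c5]; simp; ring
      · rw [c7]; simp; ring
  rw [key _ h3] at h2
  omega

end Cfsg.Agent.R2.T1.N6B
end
end
end

-- part: R2/T1/N6B/Hw
section
prune_inst 0x4010000
set_option linter.all false
open scoped Cfsg.Agent.FastGrp

/-!
# Highest weight vectors of submodules `V_1`, `V_3` of modules of `SL(2, 9)` (helper22)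

* `IsHw κ ρ c x` : `x` is a highest weight vector of a submodule `V_c`;
* `exists_hw`, `IsHw.map`, `IsHw.of_map`, `IsHw.plane`, `IsHw.of_plane`.
-/

set_option autoImplicit false
set_option linter.unusedSectionVars false

namespace Cfsg.Agent.R2.T1.N6B

open Matrix (SpecialLinearGroup)
open Cfsg.Agent.H943.SL2Rel Cfsg.Agent.H943.SL2Mod Cfsg.Agent.H943.RepAdd Cfsg.Agent.R2.H28.SL2

universe u v w

variable {F : Type} [Field F] [Fintype F] [DecidableEq F]

/-- highest weight vectors of submodules `V_c`, `c < q - 1` -/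
structure IsHw {k : Type*} [Field k] (κ : F →+* k) {V : Type*} [AddCommGroup V] [Module k V]
    (ρ : Representation k (SpecialLinearGroup (Fin 2) F) V) (c : ℕ) (x : V) : Prop where
  fu : ∀ t, ρ (u t) x = x
  fh : ∀ a, ρ (h a) x = κ a ^ c • x
  fs : SS ρ x = 0
  fd : ∀ i < 2, c / 3 ^ i % 3 + 1 < 3 → Dm κ ρ (en 3 c i) (ρ w x) = 0

section
variable {k : Type*} [Field k] {κ : F →+* k} {V : Type*} [AddCommGroup V] [Module k V]
  {ρ : Representation k (SpecialLinearGroup (Fin 2) F) V} {c : ℕ}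

theorem IsHw.add {x y : V} (hx : IsHw κ ρ c x) (hy : IsHw κ ρ c y) : IsHw κ ρ c (x + y) where
  fu t := by rw [map_add, hx.fu, hy.fu]
  fh a := by rw [map_add, hx.fh, hy.fh, smul_add]
  fs := by rw [map_add, hx.fs, hy.fs, add_zero]
  fd i hi h := by rw [map_add, map_add, hx.fd i hi h, hy.fd i hi h, add_zero]

theorem IsHw.smul {x : V} (hx : IsHw κ ρ c x) (b : k) : IsHw κ ρ c (b • x) where
  fu t := by rw [map_smul, hx.fu]
  fh a := by rw [map_smul, hx.fh, smul_comm]
  fs := by rw [map_smul, hx.fs, smul_zero]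
  fd i hi h := by rw [map_smul, map_smul, hx.fd i hi h, smul_zero]

variable {k' : Type*} [Field k'] {κ' : F →+* k'} {V' : Type*} [AddCommGroup V'] [Module k' V']
  {ρ' : Representation k' (SpecialLinearGroup (Fin 2) F) V'}

theorem map_SS (T : V →+ V') (hT : ∀ g x, T (ρ g x) = ρ' g (T x)) (x : V) : T (SS ρ x) = SS ρ' (T x) := by
  rw [SS_apply, SS_apply, map_sum]
  exact Finset.sum_congr rfl fun t _ => by rw [hT, hT]

theorem map_Dm (T : V →+ V') (hT : ∀ g x, T (ρ g x) = ρ' g (T x)) (hs : ∀ (a : F) x, T (κ a • x) = κ' a • T x)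
    (n : ℕ) (x : V) : T (Dm κ ρ n x) = Dm κ' ρ' n (T x) := by
  rw [Dm_apply, Dm_apply, map_neg, map_sum]
  congr 1
  refine Finset.sum_congr rfl fun t _ => ?_
  rw [← map_pow, ← map_pow, hs, hT]

/-- transport -/
theorem IsHw.map (T : V →+ V') (hT : ∀ g x, T (ρ g x) = ρ' g (T x)) (hs : ∀ (a : F) x, T (κ a • x) = κ' a • T x)
    {x : V} (hx : IsHw κ ρ c x) : IsHw κ' ρ' c (T x) where
  fu t := by rw [← hT, hx.fu]
  fh a := by rw [← hT, hx.fh, ← map_pow, hs, map_pow]
  fs := by rw [← map_SS T hT, hx.fs, map_zero]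
  fd i hi h := by rw [← hT, ← map_Dm T hT hs, hx.fd i hi h, map_zero]

/-- transport back -/
theorem IsHw.of_map (T : V →+ V') (hT : ∀ g x, T (ρ g x) = ρ' g (T x)) (hs : ∀ (a : F) x, T (κ a • x) = κ' a • T x)
    (hi : Function.Injective T) {x : V} (hx : IsHw κ' ρ' c (T x)) : IsHw κ ρ c x where
  fu t := by
    apply hi
    rw [hT, hx.fu]
  fh a := by
    apply hi
    rw [hT, hx.fh, ← map_pow, ← map_pow, hs]
  fs := by
    apply hi
    rw [map_SS T hT, hx.fs, map_zero]
  fd i hi' h := by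
    apply hi
    rw [map_Dm T hT hs, hT, hx.fd i hi' h, map_zero]

end

section
variable {k : Type u} [Field k] [DecidableEq k] (ι : F →+* k) [CharP k 3] [CharP F 3]

/-- highest weight vectors exist -/
theorem exists_hw (hF : Fintype.card F = 3 ^ 2) {V : Type*} [AddCommGroup V] [Module k V]
    {ρ : Representation k (SpecialLinearGroup (Fin 2) F) V} {c : ℕ} (hc : c = 1 ∨ c = 3) (hV : IsV ι 3 ρ c) :
    ∃ x : V, x ≠ 0 ∧ IsHw ι ρ c x := by
  have h9 : Fintype.card F = 9 := by rw [hF]; norm_num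
  obtain ⟨m, hm0, hmu, hmh, hms, hmd, -⟩ := hV.hw2
  refine ⟨m, hm0, hmu, hmh, ?_, fun i hi hd => ?_⟩
  · rw [hms]
    unfold cb
    rw [if_pos (by omega), zero_smul]
  · apply hmd
    · rcases hc with rfl | rfl <;> interval_cases i <;> decide
    · rw [h9]
      rcases hc with rfl | rfl <;> interval_cases i <;> decide
    · rcases hc with rfl | rfl <;> interval_cases i <;> decide

theorem exists_hw_soc (hF : Fintype.card F = 3 ^ 2) {V : Type*} [AddCommGroup V] [Module k V]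
    {ρ : Representation k (SpecialLinearGroup (Fin 2) F) V} {c : ℕ} (hc : c = 1 ∨ c = 3) (hV : InSoc ι 3 ρ c) :
    ∃ x : V, x ≠ 0 ∧ IsHw ι ρ c x := by
  obtain ⟨X, hX, hXc⟩ := hV
  obtain ⟨x, hx0, hx⟩ := exists_hw ι hF hc hXc
  exact ⟨x, fun h0 => hx0 (Subtype.ext h0), hx.map X.subtype.toAddMonoidHom (fun _ _ => rfl) fun _ _ => rfl⟩

/-- the plane generated by a highest weight vector -/
theorem IsHw.plane (hF : Fintype.card F = 3 ^ 2) {V : Type*} [AddCommGroup V] [Module k V]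
    {ρ : Representation k (SpecialLinearGroup (Fin 2) F) V} {c : ℕ} (hc : c = 1 ∨ c = 3) {x : V} (hx : IsHw ι ρ c x)
    (hx0 : x ≠ 0) : ∃ W : Submodule k V, (∀ g, ∀ y ∈ W, ρ g y ∈ W) ∧ x ∈ W ∧ Module.finrank k W = 2 ∧
      ∀ W' : Submodule k V, (∀ g, ∀ y ∈ W', ρ g y ∈ W') → x ∈ W' → W ≤ W' := by
  have h9 : Fintype.card F = 9 := by rw [hF]; norm_num
  have hcq : c ≤ Fintype.card F - 1 := by omega
  have hV : IsV ι 3 (RB ι 3 hcq) c := ⟨hcq, LinearEquiv.refl k _, fun _ _ => rfl⟩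
  obtain ⟨m, hm0, hmu, -, -, -, hfr, -⟩ := hV.hw2
  obtain ⟨f, hf, hfm⟩ := gen_hw ι 3 ρ hF hV hm0 hmu hx.fu hx.fh (by
    rw [hx.fs]
    unfold cb
    rw [if_pos (by omega), zero_smul]) hx.fd
  have hinj : LinearMap.ker f = ⊥ := by
    rcases hV.irr.2 (LinearMap.ker f) (fun g y hy => by
      rw [LinearMap.mem_ker] at hy ⊢
      rw [hf, hy, map_zero]) with h1 | h1
    · exact h1
    · exfalso
      apply hx0
      have h2 : m ∈ LinearMap.ker f := by rw [h1]; trivial
      rw [← hfm]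
      exact h2
  have c0 : (Bf k 0).card = 1 := card_Bf_zero
  have c1 : (Bf k 1).card = 2 := by rw [card_Bf_low k 3]; simp [c0]
  have c3 : (Bf k 3).card = 2 := by rw [card_Bf_low k 3]; simp [c1]
  refine ⟨LinearMap.range f, ?_, ⟨m, hfm⟩, ?_, fun W' hW' hxW => ?_⟩
  · rintro g _ ⟨y, rfl⟩
    exact ⟨_, hf g y⟩
  · rw [LinearMap.finrank_range_of_inj (LinearMap.ker_eq_bot.1 hinj), hfr]
    rcases hc with rfl | rfl
    · exact c1
    · exact c3
  · rcases hV.irr.2 (W'.comap f) (fun g y hy => by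
      show f (RB ι 3 hcq g y) ∈ W'
      rw [hf]
      exact hW' g _ hy) with h1 | h1
    · exfalso
      have h2 : m ∈ W'.comap f := by
        show f m ∈ W'
        rw [hfm]
        exact hxW
      rw [h1, Submodule.mem_bot] at h2
      exact hm0 h2
    · rintro _ ⟨y, rfl⟩
      have h2 : y ∈ W'.comap f := by rw [h1]; trivial
      exact h2

end

section
variable {k : Type u} [Field k] [DecidableEq k] (ι : F →+* k) [CharP k 3] [CharP F 3] [IsAlgClosed k]

/-- a vector of the correct weight in an invariant plane -/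
theorem IsHw.of_plane (hF : Fintype.card F = 3 ^ 2) {V : Type u} [AddCommGroup V] [Module k V] [FiniteDimensional k V]
    {ρ : Representation k (SpecialLinearGroup (Fin 2) F) V} {c : ℕ} (hc : c = 1 ∨ c = 3)
    (hm : ∀ x, ρ (h (-1)) x = -x) {W : Submodule k V} (hW : ∀ g, ∀ y ∈ W, ρ g y ∈ W) (h2 : Module.finrank k W = 2)
    {a₀ : Fˣ} (ha : ∀ a : Fˣ, a ∈ Subgroup.zpowers a₀) {x y : V} (hxW : x ∈ W) (hyW : y ∈ W) (hx0 : x ≠ 0) (hy0 : y ≠ 0)
    (hx : ρ (h a₀) x = ι a₀ ^ c • x) (hy : ρ (h a₀) y = (ι a₀ ^ c)⁻¹ • y) : IsHw ι ρ c x := by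
  have h9 : Fintype.card F = 9 := by rw [hF]; norm_num
  have hprim : IsPrimitiveRoot (ι (a₀ : F)) 8 := by
    have h1 := primitive ι ι.injective ha
    rwa [h9] at h1
  have c0 : (Bf k 0).card = 1 := card_Bf_zero
  have c1 : (Bf k 1).card = 2 := by rw [card_Bf_low k 3]; simp [c0]
  have c2 : (Bf k 2).card = 3 := by rw [card_Bf_low k 3]; simp [c0]
  have c3 : (Bf k 3).card = 2 := by rw [card_Bf_low k 3]; simp [c1]
  have c5 : (Bf k 5).card = 6 := by rw [card_Bf_low k 3]; simp [c1]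
  have c7 : (Bf k 7).card = 6 := by rw [card_Bf_low k 3]; simp [c2]
  -- the composition factors of `W`
  obtain ⟨b, hb, hWb⟩ : ∃ b, (b = 1 ∨ b = 3) ∧ IsV ι 3 (subRep ρ W hW) b := by
    have h3 := finrank_cf ι 3 _ W (subRep ρ W hW) le_rfl
    have h4 : ∀ b ∈ cf (Sy.{u, u, 0} ι 3) (subRep ρ W hW), b = 1 ∨ b = 3 ∨ b = 5 ∨ b = 7 := by
      intro b hb
      obtain ⟨r, hr⟩ := odd_cf ι (ρ := subRep ρ W hW) (fun x => Subtype.ext (hm x)) b hb
      have := cf_lt ι 3 hF (subRep ρ W hW) b hb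
      omega
    rw [h2] at h3
    rcases Multiset.empty_or_exists_mem (cf (Sy.{u, u, 0} ι 3) (subRep ρ W hW)) with h5 | ⟨b, hb⟩
    · rw [h5] at h3
      simp at h3
    · obtain ⟨s, hs⟩ := Multiset.exists_cons_of_mem hb
      rw [hs, Multiset.map_cons, Multiset.sum_cons] at h3
      have h6 : s = 0 := by
        by_contra hne
        obtain ⟨d, hd⟩ := Multiset.exists_mem_of_ne_zero hne
        obtain ⟨s', hs'⟩ := Multiset.exists_cons_of_mem hd
        rw [hs', Multiset.map_cons, Multiset.sum_cons] at h3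
        have h7 : 2 ≤ (Bf k b).card := by
          rcases h4 b hb with h | h | h | h <;> rw [h] <;> omega
        have h8 : 2 ≤ (Bf k d).card := by
          rcases h4 d (by rw [hs]; exact Multiset.mem_cons_of_mem hd) with h | h | h | h <;> rw [h] <;> omega
        omega
      rw [h6, Multiset.map_zero, Multiset.sum_zero] at h3
      have h7 : IsV ι 3 (subRep ρ W hW) b := irr_of_cf (Sy.{u, u, 0} ι 3) (by rw [hs, h6]; rfl)
      refine ⟨b, ?_, h7⟩
      rcases h4 b hb with h | h | h | h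
      · exact Or.inl h
      · exact Or.inr h
      · rw [h, c5] at h3; omega
      · rw [h, c7] at h3; omega
  -- its highest weight vector
  obtain ⟨m, hm0, hmw⟩ := exists_hw ι hF hb hWb
  have hmV : IsHw ι ρ b (m : V) := hmw.map W.subtype.toAddMonoidHom (fun _ _ => rfl) fun _ _ => rfl
  have hmV0 : (m : V) ≠ 0 := fun h0 => hm0 (Subtype.ext h0)
  have hζ0 : ι (a₀ : F) ≠ 0 := hprim.ne_zero (by norm_num)
  have hne : ι (a₀ : F) ^ c ≠ (ι (a₀ : F) ^ c)⁻¹ := by
    intro h3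
    have h4 : ι (a₀ : F) ^ (2 * c) = 1 := by
      rw [two_mul, pow_add]
      nth_rewrite 1 [h3]
      exact inv_mul_cancel₀ (pow_ne_zero _ hζ0)
    have h5 := (hprim.pow_eq_one_iff_dvd _).1 h4
    rcases hc with rfl | rfl <;> omega
  -- `x`, `y` are a basis of `W`
  have hli : LinearIndependent k ![(⟨x, hxW⟩ : W), ⟨y, hyW⟩] := by
    rw [LinearIndependent.pair_iff]
    intro s t hst
    have e1 : s • x + t • y = 0 := congrArg Subtype.val hst
    have e2 := congrArg (ρ (h a₀)) e1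
    rw [map_add, map_smul, map_smul, hx, hy, map_zero] at e2
    have e3 : (t * (ι (a₀ : F) ^ c - (ι (a₀ : F) ^ c)⁻¹)) • y = 0 := by
      have e4 : ι (a₀ : F) ^ c • (s • x + t • y) - (s • ι (a₀ : F) ^ c • x + t • (ι (a₀ : F) ^ c)⁻¹ • y) = 0 := by
        rw [e1, e2, smul_zero, sub_zero]
      rw [← e4, smul_add, smul_smul, smul_smul, smul_smul, smul_smul, mul_sub, sub_smul]
      rw [mul_comm (ι (a₀ : F) ^ c) s, mul_comm (ι (a₀ : F) ^ c) t]
      abel
    have ht : t = 0 := by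
      rcases smul_eq_zero.1 e3 with h | h
      · exact (mul_eq_zero.1 h).resolve_right (sub_ne_zero.2 hne)
      · exact absurd h hy0
    rw [ht, zero_smul, add_zero] at e1
    exact ⟨(smul_eq_zero.1 e1).resolve_right hx0, ht⟩
  have hspan : ∃ s t : k, (m : V) = s • x + t • y := by
    have h3 : Submodule.span k (Set.range ![(⟨x, hxW⟩ : W), ⟨y, hyW⟩]) = ⊤ :=
      hli.span_eq_top_of_card_eq_finrank (by rw [h2]; rfl)
    have h4 : m ∈ Submodule.span k (Set.range ![(⟨x, hxW⟩ : W), ⟨y, hyW⟩]) := by rw [h3]; trivial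
    rw [Matrix.range_cons, Matrix.range_cons, Matrix.range_empty, Set.union_empty, Set.singleton_union,
      Submodule.mem_span_pair] at h4
    obtain ⟨s, t, h5⟩ := h4
    exact ⟨s, t, (congrArg Subtype.val h5).symm⟩
  obtain ⟨s, t, hst⟩ := hspan
  have hma := hmV.fh a₀
  rw [hst, map_add, map_smul, map_smul, hx, hy] at hma
  -- compare coefficients
  have hco := (LinearIndependent.pair_iff.1 hli) (s * (ι (a₀ : F) ^ c - ι (a₀ : F) ^ b))
    (t * ((ι (a₀ : F) ^ c)⁻¹ - ι (a₀ : F) ^ b)) (Subtype.ext (by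
      show (s * (ι (a₀ : F) ^ c - ι (a₀ : F) ^ b)) • x + (t * ((ι (a₀ : F) ^ c)⁻¹ - ι (a₀ : F) ^ b)) • y = 0
      rw [← sub_eq_zero] at hma
      rw [← hma]
      module))
  obtain ⟨f1, f2⟩ := hco
  have hbc : b = c := by
    by_contra hbc
    have g1 : ι (a₀ : F) ^ c - ι (a₀ : F) ^ b ≠ 0 := by
      rw [sub_ne_zero]
      intro h3
      have h4 := hprim.pow_inj (by omega) (by omega) h3
      exact hbc h4.symm
    have g2 : (ι (a₀ : F) ^ c)⁻¹ - ι (a₀ : F) ^ b ≠ 0 := by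
      rw [sub_ne_zero]
      intro h3
      have h4 : ι (a₀ : F) ^ (b + c) = 1 := by
        rw [pow_add, ← h3]
        exact inv_mul_cancel₀ (pow_ne_zero _ hζ0)
      have h5 := (hprim.pow_eq_one_iff_dvd _).1 h4
      rcases hc with rfl | rfl <;> rcases hb with rfl | rfl <;> omega
    have hs0 := (mul_eq_zero.1 f1).resolve_right g1
    have ht0 := (mul_eq_zero.1 f2).resolve_right g2
    rw [hs0, ht0, zero_smul, zero_smul, add_zero] at hst
    exact hmV0 hst
  subst hbc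
  have ht0 : t = 0 := by
    rcases mul_eq_zero.1 f2 with h3 | h3
    · exact h3
    · exact absurd (sub_eq_zero.1 h3).symm hne
  rw [ht0, zero_smul, add_zero] at hst
  have hs0 : s ≠ 0 := by
    rintro rfl
    rw [zero_smul] at hst
    exact hmV0 hst
  have h3 : x = s⁻¹ • (m : V) := by rw [hst, inv_smul_smul₀ hs0]
  rw [h3]
  exact hmV.smul s⁻¹

end

end Cfsg.Agent.R2.T1.N6B
end

section
prune_inst 0xfdf9f9bbbcf9dfffff7e3fa79ecffdf9abbfffe6dff9cbffe069ffab9f3b80c9e56bad8fe812fe1ed7e21410b87b53fb7eeeffea6bd87ffffd1ff41ffbee4ff5f7b50851dc8cb40fbc2fff83f0778e7f000000000000000000000000000000000204010000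

-- part: R2/T1/N6L/Ev
section
prune_inst 0x2060644430620000001c0586130000614000010200400000884004060c41e060094120013a901412009e9c446800004811100010426000000e000400011900a0808152023300a104240007800000000000000000000000000000000000000000000000000
set_option linter.all false
open scoped Cfsg.Agent.FastGrp

/-!
# S5929: symplectic modules for `PSL(2, q)` (helper11)

`even_cf` : the composition factors of a module of `SL(2, q)`, `q` odd, with trivial action of `-1` and with an invariant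
nondegenerate alternating form have even multiplicities.
-/

set_option autoImplicit false
set_option linter.unusedSectionVars false

namespace Cfsg.Agent.R2.T1.N6L

open Matrix Cfsg.Agent.H943.SL2Rel Cfsg.Agent.H943.SL2Mod Cfsg.Agent.H943.RepAdd Cfsg.Agent.R2.H28.SL2

universe u v w

variable {k : Type u} [Field k] [DecidableEq k] {F : Type w} [Field F] [Fintype F] [DecidableEq F] (ι : F →+* k)
variable (p : ℕ) [Fact p.Prime] [CharP k p] [CharP F p] [IsAlgClosed k]

section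
variable {V : Type v} [AddCommGroup V] [Module k V] [FiniteDimensional k V]
  {ρ : Representation k (SpecialLinearGroup (Fin 2) F) V} {B : V →ₗ[k] V →ₗ[k] k}

/-- invariant submodules between `W` and `Y`, `Y / W` irreducible -/
theorem between {W : Submodule k V} (hW : ∀ g, ∀ x ∈ W, ρ g x ∈ W) {Z : Submodule k (V ⧸ W)}
    (hZ : ∀ g, ∀ x ∈ Z, quotRep ρ W hW g x ∈ Z) (hirr : Irrd (subRep (quotRep ρ W hW) Z hZ)) {S : Submodule k V}
    (hS : ∀ g, ∀ x ∈ S, ρ g x ∈ S) (hWS : W ≤ S) (hne : ∃ x ∈ S, x ∉ W ∧ W.mkQ x ∈ Z) : Z.comap W.mkQ ≤ S := by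
  rcases hirr.2 ((S.map W.mkQ).comap Z.subtype) (by
    rintro g x ⟨y, hy, hxy⟩
    refine ⟨ρ g y, hS g y hy, ?_⟩
    rw [← quotRep_mk ρ W hW, hxy]
    rfl) with h | h
  · exfalso
    obtain ⟨x, hx, hxW, hxZ⟩ := hne
    have h1 : (⟨W.mkQ x, hxZ⟩ : Z) ∈ (S.map W.mkQ).comap Z.subtype := ⟨x, hx, rfl⟩
    rw [h, Submodule.mem_bot] at h1
    exact hxW ((Submodule.Quotient.mk_eq_zero W).1 (congrArg Subtype.val h1))
  · intro y hy
    have h1 : (⟨W.mkQ y, hy⟩ : Z) ∈ (S.map W.mkQ).comap Z.subtype := by rw [h]; trivial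
    obtain ⟨z, hz, hzy⟩ := h1
    have h2 : y - z ∈ W := by
      apply (Submodule.Quotient.mk_eq_zero W).1
      rw [← Submodule.mkQ_apply, map_sub, sub_eq_zero]
      exact hzy.symm
    have h3 : y = z + (y - z) := by abel
    rw [h3]
    exact S.add_mem hz (hWS h2)

include ι p in
/-- a totally isotropic submodule which is not its own orthogonal is not maximal -/
theorem step_iso (h2 : (2 : k) ≠ 0) (hcen : ρ (h (-1)) = 1) (D : Dul ρ ρ B) (halt : ∀ x, B x x = 0) {W : Submodule k V}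
    (hW : ∀ g, ∀ x ∈ W, ρ g x ∈ W) (hiso : W ≤ orth B W) (hne : ¬ orth B W ≤ W) :
    ∃ Y : Submodule k V, (∀ g, ∀ x ∈ Y, ρ g x ∈ Y) ∧ Y ≤ orth B Y ∧ W < Y := by
  have hsw : ∀ x y, B x y = - B y x := by
    intro x y
    have h1 := halt (x + y)
    rw [map_add, map_add, LinearMap.add_apply, LinearMap.add_apply, halt, halt, zero_add, add_zero] at h1
    exact eq_neg_of_add_eq_zero_right h1
  obtain ⟨N, hN⟩ : ∃ N, N = (orth B W).map W.mkQ := ⟨_, rfl⟩
  have hNi : ∀ g, ∀ x ∈ N, quotRep ρ W hW g x ∈ N := by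
    rw [hN]
    rintro g _ ⟨x, hx, rfl⟩
    exact ⟨_, D.orth_inv hW g x hx, rfl⟩
  have hN0 : N ≠ ⊥ := by
    intro h0
    apply hne
    intro x hx
    have h1 : W.mkQ x ∈ N := by rw [hN]; exact ⟨x, hx, rfl⟩
    rw [h0, Submodule.mem_bot] at h1
    exact (Submodule.Quotient.mk_eq_zero W).1 h1
  obtain ⟨c, ⟨X, hX, hc⟩, -⟩ := exists_inSoc_sub ι p hNi hN0
  obtain ⟨hZ, e, he⟩ := eqv_map (subRep (quotRep ρ W hW) N hNi) (quotRep ρ W hW) N.subtype (fun g x => rfl)
    N.injective_subtype X hX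
  obtain ⟨Z, hZdef⟩ : ∃ Z, Z = X.map N.subtype := ⟨_, rfl⟩
  have hZc : IsV ι p (subRep (quotRep ρ W hW) (X.map N.subtype) hZ) c := IsV.iso ι p e he hc
  have hZN : X.map N.subtype ≤ N := Submodule.map_subtype_le _ _
  obtain ⟨mb, hm0, hmu, hmh, -, -⟩ := IsV.hw ι p hZc
  obtain ⟨⟨m, hmZ⟩, rfl⟩ : ∃ y : X.map N.subtype, y = mb := ⟨mb, rfl⟩
  have hmN := hZN hmZ
  rw [hN] at hmN
  obtain ⟨m', hm'W, rfl⟩ := hmN
  have hmW : m' ∉ W := by
    intro h0
    apply hm0
    apply Subtype.ext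
    exact (Submodule.Quotient.mk_eq_zero W).2 h0
  -- the submodule `Y`
  set Y := (X.map N.subtype).comap W.mkQ with hY
  have hYi : ∀ g, ∀ x ∈ Y, ρ g x ∈ Y := by
    intro g x hx
    show W.mkQ (ρ g x) ∈ X.map N.subtype
    rw [← quotRep_mk ρ W hW]
    exact hZ g _ hx
  have hYW : Y ≤ orth B W := by
    intro y hy
    have h1 := hZN hy
    rw [hN] at h1
    obtain ⟨z, hz, hzy⟩ := h1
    have h2 : y - z ∈ W := by
      apply (Submodule.Quotient.mk_eq_zero W).1
      rw [← Submodule.mkQ_apply, map_sub, sub_eq_zero]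
      exact hzy.symm
    have h3 : y = z + (y - z) := by abel
    rw [h3]
    exact (orth B W).add_mem hz (hiso h2)
  have hWY : W ≤ Y := by
    intro x hx
    show W.mkQ x ∈ X.map N.subtype
    rw [(Submodule.Quotient.mk_eq_zero W).2 hx |> fun h => (show W.mkQ x = 0 from h)]
    exact Submodule.zero_mem _
  have hmod : ∀ y ∈ orth B W, ∀ x x', x' - x ∈ W → B x' y = B x y := by
    intro y hy x x' h1
    have h3 := hy _ h1
    rw [map_sub, LinearMap.sub_apply, sub_eq_zero] at h3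
    exact h3
  have hmod' : ∀ y ∈ orth B W, ∀ x x', x' - x ∈ W → B y x' = B y x := by
    intro y hy x x' h1
    rw [hsw, hmod y hy x x' h1, ← hsw]
  have hu : ∀ t, ρ (u t) m' - m' ∈ W := by
    intro t
    apply (Submodule.Quotient.mk_eq_zero W).1
    have h1 : quotRep ρ W hW (u t) (W.mkQ m') = W.mkQ m' := congrArg Subtype.val (hmu t)
    rw [← Submodule.mkQ_apply, map_sub, ← quotRep_mk ρ W hW, h1, sub_self]
  have hh : ∀ a : Fˣ, ρ (h a) m' - ι a ^ c • m' ∈ W := by
    intro a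
    apply (Submodule.Quotient.mk_eq_zero W).1
    have h1 : quotRep ρ W hW (h a) (W.mkQ m') = ι a ^ c • W.mkQ m' := congrArg Subtype.val (hmh a)
    rw [← Submodule.mkQ_apply, map_sub, map_smul, ← quotRep_mk ρ W hW, h1, sub_self]
  -- `B(m, w m) = 0`
  have hww : ρ w (ρ w m') = m' := by rw [apply_mul, w_w, hcen]; rfl
  have hw0 : B m' (ρ w m') = 0 := by
    have h1 := D.inv w m' (ρ w m')
    rw [hww, hsw] at h1
    have h3 : (2 : k) * B m' (ρ w m') = 0 := by linear_combination (-1 : k) * h1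
    exact (mul_eq_zero.1 h3).resolve_left h2
  have hwm : ρ w m' ∈ orth B W := D.orth_inv hW _ _ hm'W
  have hu0 : ∀ s, B m' (ρ (u s) (ρ w m')) = 0 := by
    intro s
    have h1 := D.inv (u s)⁻¹ m' (ρ (u s) (ρ w m'))
    rw [← Module.End.mul_apply, ← map_mul, inv_mul_cancel, map_one, Module.End.one_apply] at h1
    rw [← h1, ← u_neg, hmod _ hwm _ _ (hu (-s)), hw0]
  have hg0 : ∀ g, B m' (ρ g m') = 0 := by
    intro g
    rcases bruhat g with ⟨a, t, rfl⟩ | ⟨s, a, t, rfl⟩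
    · rw [map_mul]
      show B m' (ρ (h a) (ρ (u t) m')) = 0
      have h1 : ρ (h a) (ρ (u t) m') - ι a ^ c • m' ∈ W := by
        have h3 : ρ (h a) (ρ (u t) m') - ι a ^ c • m' =
            ρ (h a) (ρ (u t) m' - m') + (ρ (h a) m' - ι a ^ c • m') := by rw [map_sub]; abel
        rw [h3]
        exact W.add_mem (hW _ _ (hu t)) (hh a)
      rw [hmod' m' hm'W _ _ h1, map_smul, halt, smul_zero]
    · rw [map_mul, map_mul, map_mul]
      show B m' (ρ (u s) (ρ (h a) (ρ w (ρ (u t) m')))) = 0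
      have h1 : ρ (u s) (ρ (h a) (ρ w (ρ (u t) m'))) - ι ((a⁻¹ : Fˣ) : F) ^ c • ρ (u s) (ρ w m') ∈ W := by
        have h3 : ρ (h a) (ρ w m') = ρ w (ρ (h a⁻¹) m') := by rw [apply_mul, h_w, ← apply_mul]
        have h4 : ρ (u s) (ρ (h a) (ρ w (ρ (u t) m'))) - ι ((a⁻¹ : Fˣ) : F) ^ c • ρ (u s) (ρ w m') =
            ρ (u s) (ρ (h a) (ρ w (ρ (u t) m' - m'))) +
              ρ (u s) (ρ w (ρ (h a⁻¹) m' - ι ((a⁻¹ : Fˣ) : F) ^ c • m')) := by
          simp only [map_sub, map_smul, h3]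
          abel
        rw [h4]
        exact W.add_mem (hW _ _ (hW _ _ (hW _ _ (hu t)))) (hW _ _ (hW _ _ (hh _)))
      rw [hmod' m' hm'W _ _ h1, map_smul, hu0, smul_zero]
  have hg1 : ∀ g, B (ρ g m') m' = 0 := fun g => by rw [hsw, hg0, neg_zero]
  -- the first application
  let S₁ : Submodule k V :=
    { carrier := {y | y ∈ orth B W ∧ ∀ g, B (ρ g m') y = 0}
      zero_mem' := ⟨(orth B W).zero_mem, fun g => map_zero _⟩
      add_mem' := fun {x y} hx hy => ⟨(orth B W).add_mem hx.1 hy.1, fun g => by rw [map_add, hx.2, hy.2, add_zero]⟩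
      smul_mem' := fun c x hx => ⟨(orth B W).smul_mem c hx.1, fun g => by rw [map_smul, hx.2, smul_zero]⟩ }
  have hS₁ : Y ≤ S₁ := by
    refine between hW hZ (IsV.irr ι p hZc) (S := S₁) (fun g x hx => ⟨D.orth_inv hW g x hx.1, fun g' => ?_⟩)
      (fun x hx => ⟨hiso hx, fun g => ?_⟩) ⟨m', ⟨hm'W, hg1⟩, hmW, hmZ⟩
    · rw [D.inv', ← Module.End.mul_apply, ← map_mul]
      exact hx.2 _
    · rw [hsw, D.orth_inv hW g m' hm'W x hx, neg_zero]
  let S₂ : Submodule k V :=
    { carrier := {y | ∀ x ∈ Y, B x y = 0}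
      zero_mem' := fun x _ => map_zero _
      add_mem' := fun {x y} hx hy z hz => by rw [map_add, hx z hz, hy z hz, add_zero]
      smul_mem' := fun c x hx z hz => by rw [map_smul, hx z hz, smul_zero] }
  have hS₂ : Y ≤ S₂ := by
    refine between hW hZ (IsV.irr ι p hZc) (S := S₂) (fun g x hx y hy => ?_)
      (fun x hx y hy => ?_) ⟨m', fun y hy => ?_, hmW, hmZ⟩
    · rw [D.inv']
      exact hx _ (hYi _ _ hy)
    · rw [hsw, hYW hy x hx, neg_zero]
    · have h1 := (hS₁ hy).2 1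
      rw [map_one, Module.End.one_apply] at h1
      rw [hsw, h1, neg_zero]
  refine ⟨Y, hYi, hS₂, lt_of_le_of_ne hWY ?_⟩
  intro h0
  apply hmW
  rw [h0]
  exact hmZ

/-- **evenness** -/
theorem even_cf (h2 : (2 : k) ≠ 0) (hcen : ρ (h (-1)) = 1) (D : Dul ρ ρ B) (halt : ∀ x, B x x = 0) :
    ∃ s : Multiset ℕ, cf (Sy.{u, v, w} ι p) ρ = s + s := by
  have key : ∀ (n : ℕ) (W : Submodule k V), (∀ g, ∀ x ∈ W, ρ g x ∈ W) → W ≤ orth B W →
      Module.finrank k V ≤ Module.finrank k W + n →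
      ∃ Y : Submodule k V, (∀ g, ∀ x ∈ Y, ρ g x ∈ Y) ∧ Y = orth B Y := by
    intro n
    induction n with
    | zero =>
      intro W hW hiso hn
      have hWt : W = ⊤ := Submodule.eq_top_of_finrank_eq (le_antisymm (Submodule.finrank_le W) (by omega))
      refine ⟨W, hW, le_antisymm hiso ?_⟩
      rw [hWt]
      exact le_top
    | succ n ih =>
      intro W hW hiso hn
      by_cases hne : orth B W ≤ W
      · exact ⟨W, hW, le_antisymm hiso hne⟩
      · obtain ⟨Y, hY, hYo, hWY⟩ := step_iso ι p h2 hcen D halt hW hiso hne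
        have h3 := Submodule.finrank_lt_finrank_of_lt hWY
        exact ih Y hY hYo (by omega)
  obtain ⟨Y, hY, hYo⟩ := key (Module.finrank k V) ⊥ (fun g x hx => by
    rw [(Submodule.mem_bot k).1 hx, map_zero]
    exact Submodule.zero_mem _) bot_le (by omega)
  obtain ⟨B', D', -⟩ := D.sub hY
  have h3 : ∀ (Y' : Submodule k V) (hY' : ∀ g, ∀ x ∈ Y', ρ g x ∈ Y'), Y' = Y →
      cf (Sy.{u, v, w} ι p) (quotRep ρ Y' hY') = cf (Sy.{u, v, w} ι p) (quotRep ρ Y hY) := by
    rintro Y' hY' rfl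
    rfl
  refine ⟨cf (Sy.{u, v, w} ι p) (subRep ρ Y hY), ?_⟩
  rw [cf_add (Sy.{u, v, w} ι p) ρ Y hY, ← h3 (orth B Y) (D.orth_inv hY) hYo.symm, cf_dual ι p D']

end

end Cfsg.Agent.R2.T1.N6L
end

-- part: R2/T1/N6L/Pr2
section
prune_inst 0x2060244430620000001c0084130000654000000200030000884005060401a220294106013ed00612809210444808804811100110427000000e008400011a00800482100230000000040006001884000000000000000000000000000000000000000000000
set_option linter.all false
open scoped Cfsg.Agent.FastGrp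

-- part: R2/T1/N6L/Pr
section
/-!
# S5929, n = 6, p = 3: `SL(2, 9)` in characteristic 3 (helper11)

* `Aw ι ρ c e` : the vectors fixed by `U` of weight `c` with `D_e w x = 0`; for `(c, e) = (6, 1), (2, 3)` it is
  `Hom(V_c, M)`;
* `w_Dm` : `w D_m w x = (-1) ^ m D_(c - m) w x`;
* `press6` : `[M : V_6] ≤ dim Aw + [M : V_4]` if all factors of `M` are `V_0`, `V_2`, `V_4`, `V_6`.
-/

set_option autoImplicit false
set_option linter.unusedSectionVars false

namespace Cfsg.Agent.R2.T1.N6L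

open Matrix Cfsg.Agent.H943.SL2Rel Cfsg.Agent.H943.SL2Mod Cfsg.Agent.H943.RepAdd Cfsg.Agent.R2.H28.SL2

universe u v w

section Gen

variable {k : Type u} [Field k] {F : Type w} [Field F] [Fintype F] [DecidableEq F] (ι : F →+* k)
variable {V : Type*} [AddCommGroup V] [Module k V] (ρ : Representation k (SpecialLinearGroup (Fin 2) F) V)

/-- vectors fixed by `U` of weight `c` -/
def Fw (c : ℕ) : Submodule k V where
  carrier := {x | (∀ t, ρ (u t) x = x) ∧ ∀ a : Fˣ, ρ (h a) x = ι a ^ c • x}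
  zero_mem' := ⟨fun t => map_zero _, fun a => by rw [map_zero, smul_zero]⟩
  add_mem' := by
    rintro x y ⟨h1, h2⟩ ⟨h4, h5⟩
    exact ⟨fun t => by rw [map_add, h1, h4], fun a => by rw [map_add, h2, h5, smul_add]⟩
  smul_mem' := by
    rintro r x ⟨h1, h2⟩
    exact ⟨fun t => by rw [map_smul, h1], fun a => by rw [map_smul, h2, smul_comm]⟩

/-- highest weight vectors killed by `D_e w` -/
def Aw (c e : ℕ) : Submodule k V := Fw ι ρ c ⊓ LinearMap.ker ((Dm ι ρ e) ∘ₗ (ρ w))

theorem mem_Aw {c e : ℕ} {x : V} : x ∈ Aw ι ρ c e ↔ x ∈ Fw ι ρ c ∧ Dm ι ρ e (ρ w x) = 0 := Iff.rfl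

/-- equivariant maps -/
theorem Fw_map {V' : Type*} [AddCommGroup V'] [Module k V'] (ρ' : Representation k (SpecialLinearGroup (Fin 2) F) V')
    (f : V →ₗ[k] V') (hf : ∀ g x, f (ρ g x) = ρ' g (f x)) {c : ℕ} {x : V} (hx : x ∈ Fw ι ρ c) : f x ∈ Fw ι ρ' c :=
  ⟨fun t => by rw [← hf, hx.1], fun a => by rw [← hf, hx.2, map_smul]⟩

theorem Aw_map {V' : Type*} [AddCommGroup V'] [Module k V'] (ρ' : Representation k (SpecialLinearGroup (Fin 2) F) V')
    (f : V →ₗ[k] V') (hf : ∀ g x, f (ρ g x) = ρ' g (f x)) {c e : ℕ} {x : V} (hx : x ∈ Aw ι ρ c e) :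
    f x ∈ Aw ι ρ' c e := by
  refine ⟨Fw_map ι ρ ρ' f hf hx.1, ?_⟩
  show Dm ι ρ' e (ρ' w (f x)) = 0
  rw [← hf, ← Dm_comm ι ρ ρ' f hf, ((mem_Aw ι ρ).1 hx).2, map_zero]

/-- `w D_m w x = (-1) ^ m D_(c - m) w x` -/
theorem w_Dm {c m : ℕ} (hm : 1 ≤ m) (hmc : m < c) (hc : c ≤ Fintype.card F - 1) (hev : Even (Fintype.card F - 1)) {x : V}
    (hx : x ∈ Fw ι ρ c) : ρ w (Dm ι ρ m (ρ w x)) = (-1 : k) ^ m • Dm ι ρ (c - m) (ρ w x) := by
  classical
  have hq := one_lt (F := F)
  obtain ⟨Q, hQ⟩ : ∃ Q, Q = Fintype.card F - 1 := ⟨_, rfl⟩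
  rw [Dm_apply, Dm_apply, map_neg, map_sum, smul_neg, Finset.smul_sum]
  congr 1
  rw [← hQ] at hc hev ⊢
  -- the terms
  have hterm : ∀ t : F, t ≠ 0 → ρ w (ι t ^ (Q - m) • ρ (u t) (ρ w x)) =
      (-1 : k) ^ m • ι (-t⁻¹) ^ (Q - (c - m)) • ρ (u (-t⁻¹)) (ρ w x) := by
    intro t ht
    have hs : (-t⁻¹ : F) ≠ 0 := neg_ne_zero.2 (inv_ne_zero ht)
    have hιs : ι (-t⁻¹) ≠ 0 := (map_ne_zero ι).2 hs
    have e1 : ρ w (ρ (u t) (ρ w x)) = ρ (u (-t⁻¹)) (ρ (h (mi t ht)) (ρ w x)) := by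
      rw [apply_mul3, w_u_w t ht, map_mul, map_mul, map_mul]
      show ρ (u (-t⁻¹)) (ρ (h (mi t ht)) (ρ w (ρ (u (-t⁻¹)) x))) = _
      rw [hx.1]
    have e2 : ρ (h (mi t ht)) (ρ w x) = ι (-t⁻¹) ^ (Q - c) • ρ w x := by
      rw [apply_mul, h_w, ← apply_mul, hx.2, map_smul]
      congr 1
      have e3 : ι (((mi t ht)⁻¹ : Fˣ) : F) = (ι (-t⁻¹))⁻¹ := by
        rw [Units.val_inv_eq_inv_val, map_inv₀]
        rfl
      rw [e3, inv_pow]
      apply inv_eq_of_mul_eq_one_left
      rw [← pow_add, show Q - c + c = Q by omega, hQ, powQ ι hs]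
    rw [map_smul, e1, e2, map_smul, smul_smul, smul_smul]
    congr 1
    have e4 : ι t = -(ι (-t⁻¹))⁻¹ := by
      rw [map_neg, map_inv₀, neg_inv, neg_neg, inv_inv]
    have e5 : ι t ^ (Q - m) = (-1) ^ (Q - m) * ι (-t⁻¹) ^ m := by
      rw [e4, neg_pow, inv_pow]
      congr 1
      apply inv_eq_of_mul_eq_one_left
      rw [← pow_add, show m + (Q - m) = Q by omega, hQ, powQ ι hs]
    rw [e5, mul_assoc, ← pow_add]
    have e6 : (-1 : k) ^ (Q - m) = (-1) ^ m := by
      have h1 : (-1 : k) ^ (Q - m) * (-1) ^ m = 1 := by rw [← pow_add, Nat.sub_add_cancel (by omega), hev.neg_one_pow]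
      have h2 : (-1 : k) ^ m * (-1) ^ m = 1 := by rw [← mul_pow]; norm_num
      calc (-1 : k) ^ (Q - m) = (-1 : k) ^ (Q - m) * ((-1) ^ m * (-1) ^ m) := by rw [h2, mul_one]
        _ = (-1) ^ m := by rw [← mul_assoc, h1, one_mul]
    rw [e6, show m + (Q - c) = Q - (c - m) by omega]
  -- the sums
  have hsum : ∀ f : F → V, f 0 = 0 → ∑ t : F, f t = ∑ t ∈ Finset.univ.erase (0 : F), f t := fun f h0 => by
    rw [← Finset.add_sum_erase _ f (Finset.mem_univ 0), h0, zero_add]
  rw [hsum _ (by rw [map_zero, zero_pow (by omega), zero_smul, map_zero]),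
    hsum (fun t => (-1 : k) ^ m • ι t ^ (Q - (c - m)) • ρ (u t) (ρ w x))
      (by show (-1 : k) ^ m • ι (0 : F) ^ (Q - (c - m)) • ρ (u 0) (ρ w x) = 0
          rw [map_zero, zero_pow (by omega), zero_smul, smul_zero])]
  refine Finset.sum_nbij' (fun t => -t⁻¹) (fun t => -t⁻¹) ?_ ?_ ?_ ?_ ?_
  · intro t ht
    rw [Finset.mem_erase] at ht ⊢
    exact ⟨neg_ne_zero.2 (inv_ne_zero ht.1), Finset.mem_univ _⟩
  · intro t ht
    rw [Finset.mem_erase] at ht ⊢
    exact ⟨neg_ne_zero.2 (inv_ne_zero ht.1), Finset.mem_univ _⟩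
  · intro t _
    simp
  · intro t _
    simp
  · intro t ht
    exact hterm t (Finset.mem_erase.1 ht).1

end Gen

end Cfsg.Agent.R2.T1.N6L
end

-- part: R2/T1/N6L/Pr2
section
/-!
# S5929, n = 6, p = 3: the pressure inequality for `V_6` (helper11)

`press6` : `[M : V_6] ≤ dim Aw + [M : V_4]` if all factors of `M` are `V_0`, `V_2`, `V_4`, `V_6`.
-/

set_option autoImplicit false
set_option linter.unusedSectionVars false

namespace Cfsg.Agent.R2.T1.N6L

open Matrix Cfsg.Agent.H943.SL2Rel Cfsg.Agent.H943.SL2Mod Cfsg.Agent.H943.RepAdd Cfsg.Agent.R2.H28.SL2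

universe u v w

variable {k : Type u} [Field k] [DecidableEq k] {F : Type w} [Field F] [Fintype F] [DecidableEq F] (ι : F →+* k)
variable [CharP k 3] [CharP F 3] (hF : Fintype.card F = 3 ^ 2)

/-- the arithmetic of a label with one digit `2` -/
def Ce (c e : ℕ) : Prop := c < 8 ∧ 1 ≤ e ∧ e ≤ 8 ∧ 3 ∣ c.choose e ∧ ∀ i < 2, c / 3 ^ i % 3 + 1 < 3 → en 3 c i = e

instance (c e : ℕ) : Decidable (Ce c e) := by unfold Ce; infer_instance

theorem ce6 : Ce 6 1 := by decide
theorem ce2 : Ce 2 3 := by decide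

include hF in
theorem cardQ : Fintype.card F - 1 = 8 := by rw [hF]; rfl

section
variable {V : Type*} [AddCommGroup V] [Module k V] (ρ : Representation k (SpecialLinearGroup (Fin 2) F) V)

include hF in
theorem SS_zero {c e : ℕ} (hce : Ce c e) {x : V} (hx : x ∈ Aw ι ρ c e) : SS ρ x = 0 := by
  have hQ := cardQ hF
  have h1 : Dm ι ρ 8 (ρ w x) = 0 := by
    refine Dm_zero_of ι 3 ρ hF (c := c) (y := ρ w x) (fun i hi hlt => ?_) (n := 8) (by rw [hQ]) ?_
    · rw [hce.2.2.2.2 i hi hlt]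
      exact ((mem_Aw ι ρ).1 hx).2
    · rw [Nat.choose_eq_zero_of_lt hce.1]
      exact dvd_zero 3
  rw [Dm_apply, neg_eq_zero] at h1
  rw [SS_apply, ← h1]
  refine Finset.sum_congr rfl fun t _ => ?_
  rw [hQ, Nat.sub_self, pow_zero, one_smul]

include hF in
theorem cb_zero {c : ℕ} (hc : c < 8) : cb k F c = 0 := by
  have hQ := cardQ hF
  unfold cb
  rw [if_pos (by omega)]

include hF in
/-- elements of `Aw` are images of highest weight vectors -/
theorem gen_Aw {V₁ : Type*} [AddCommGroup V₁] [Module k V₁] {σ : Representation k (SpecialLinearGroup (Fin 2) F) V₁}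
    {c e : ℕ} (hce : Ce c e) (hσ : IsV ι 3 σ c) {m : V₁} (hm0 : m ≠ 0)
    (hmu : ∀ t, σ (u t) m = m) {x : V} (hx : x ∈ Aw ι ρ c e) :
    ∃ f : V₁ →ₗ[k] V, (∀ g y, f (σ g y) = ρ g (f y)) ∧ f m = x := by
  refine gen_hw ι 3 ρ hF hσ hm0 hmu hx.1.1 hx.1.2 ?_ fun i hi hlt => ?_
  · rw [SS_zero ι hF ρ hce hx, cb_zero hF hce.1, zero_smul]
  · rw [hce.2.2.2.2 i hi hlt]
    exact ((mem_Aw ι ρ).1 hx).2

include hF in
/-- the highest weight vector belongs to `Aw` -/
theorem hw_Aw {c e : ℕ} (hce : Ce c e) (h : IsV ι 3 ρ c) :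
    ∃ m : V, m ≠ 0 ∧ m ∈ Aw ι ρ c e := by
  obtain ⟨m, hm0, hmu, hmh, -, hmD, -, -⟩ := h.hw2
  exact ⟨m, hm0, ⟨hmu, hmh⟩, hmD e hce.2.1 (by rw [cardQ hF]; exact hce.2.2.1) hce.2.2.2.1⟩

include hF in
/-- nonzero elements of `Aw` generate submodules `V_c` -/
theorem inSoc_of_Aw {c e : ℕ} (hce : Ce c e) {x : V} (hx : x ∈ Aw ι ρ c e) (hx0 : x ≠ 0) :
    ∃ (Z : Submodule k V) (hZ : ∀ g, ∀ y ∈ Z, ρ g y ∈ Z), IsV ι 3 (subRep ρ Z hZ) c ∧ x ∈ Z := by
  have hQ := cardQ hF
  have hb : c ≤ Fintype.card F - 1 := by rw [hQ]; exact hce.1.le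
  have hσ : IsV ι 3 (RB ι 3 hb) c := ⟨hb, LinearEquiv.refl k _, fun _ _ => rfl⟩
  obtain ⟨m, hm0, hmu, -, -⟩ := hσ.hw2
  obtain ⟨f, hf, hfm⟩ := gen_Aw ι hF ρ hce hσ hm0 hmu hx
  have hker : LinearMap.ker f = ⊥ := by
    rcases hσ.irr.2 (LinearMap.ker f) (fun g x hx => by
      rw [LinearMap.mem_ker] at hx ⊢
      rw [hf, hx, map_zero]) with h1 | h1
    · exact h1
    · exfalso
      apply hx0
      rw [← hfm]
      have : m ∈ LinearMap.ker f := by rw [h1]; trivial
      exact this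
  have hX : ∀ g, ∀ x ∈ LinearMap.range f, ρ g x ∈ LinearMap.range f := by
    rintro g _ ⟨y, rfl⟩
    exact ⟨_, hf g y⟩
  exact ⟨LinearMap.range f, hX, IsV.iso ι 3 (LinearEquiv.ofInjective f (LinearMap.ker_eq_bot.1 hker))
    (fun g y => Subtype.ext (hf g y)) hσ, m, hfm⟩

end

end Cfsg.Agent.R2.T1.N6L
end
end

-- part: R2/T1/N6L/Pr4
section
prune_inst 0x206064443062000000000504020020604000010000000000280005060c01a000804000003a900002008210844808004811100000424000000e000400011a00800080100020000000000000000000000000000000000000000000000000000000000000000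
set_option linter.all false
open scoped Cfsg.Agent.FastGrp

-- part: R2/T1/N6L/Pr3
section
/-!
# S5929, n = 6, p = 3: the pressure inequality for `V_6` (helper11)

`press6` : `[M : V_6] ≤ dim Aw + [M : V_4]` if all factors of `M` are `V_0`, `V_2`, `V_4`, `V_6`.
-/

set_option autoImplicit false
set_option linter.unusedSectionVars false

namespace Cfsg.Agent.R2.T1.N6L

open Matrix Cfsg.Agent.H943.SL2Rel Cfsg.Agent.H943.SL2Mod Cfsg.Agent.H943.RepAdd Cfsg.Agent.R2.H28.SL2

universe u v w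

section Lin
variable {k V V' : Type*} [Field k] [AddCommGroup V] [Module k V] [FiniteDimensional k V] [AddCommGroup V'] [Module k V']
  [FiniteDimensional k V']

theorem lin1 {f : V →ₗ[k] V'} {B : Submodule k V} {A' : Submodule k V'} (h : A' ≤ B.map f) :
    Module.finrank k A' ≤ Module.finrank k B :=
  (Submodule.finrank_mono h).trans (Submodule.finrank_map_le f B)

theorem lin0 (f : V →ₗ[k] V') (B : Submodule k V) :
    Module.finrank k (B.map f) + Module.finrank k ↥(B ⊓ LinearMap.ker f) = Module.finrank k B := by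
  have h1 := LinearMap.finrank_range_add_finrank_ker (f ∘ₗ B.subtype)
  have h2 : LinearMap.range (f ∘ₗ B.subtype) = B.map f := by
    rw [LinearMap.range_comp, Submodule.range_subtype]
  have h3 : Module.finrank k (LinearMap.ker (f ∘ₗ B.subtype)) = Module.finrank k ↥(B ⊓ LinearMap.ker f) := by
    have h4 : (LinearMap.ker (f ∘ₗ B.subtype)).map B.subtype = B ⊓ LinearMap.ker f := by
      rw [LinearMap.ker_comp, Submodule.map_comap_subtype]
    rw [← h4]
    exact (Submodule.equivMapOfInjective B.subtype B.injective_subtype _).finrank_eq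
  rw [h2, h3] at h1
  exact h1

theorem lin2 {f : V →ₗ[k] V'} {B : Submodule k V} {A' : Submodule k V'} (h : A' ≤ B.map f) {m : V} (hm : m ∈ B)
    (hm0 : m ≠ 0) (hfm : f m = 0) : Module.finrank k A' + 1 ≤ Module.finrank k B := by
  rw [← lin0 f B]
  refine Nat.add_le_add (Submodule.finrank_mono h) ?_
  have h1 : Nontrivial ↥(B ⊓ LinearMap.ker f) := ⟨⟨⟨m, hm, hfm⟩, 0, fun h => hm0 (congrArg Subtype.val h)⟩⟩
  exact Module.finrank_pos

theorem lin3 (θ : V →ₗ[k] V') {B A : Submodule k V} (h1 : B ⊓ LinearMap.ker θ ≤ A) {v : V'}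
    (h2 : B.map θ ≤ Submodule.span k {v}) : Module.finrank k B ≤ Module.finrank k A + 1 := by
  rw [← lin0 θ B, add_comm]
  refine Nat.add_le_add (Submodule.finrank_mono h1) ((Submodule.finrank_mono h2).trans ?_)
  exact (finrank_span_le_card ({v} : Set V')).trans (by simp)

end Lin

variable {k : Type u} [Field k] [DecidableEq k] {F : Type w} [Field F] [Fintype F] [DecidableEq F] (ι : F →+* k)
variable [CharP k 3] [CharP F 3] (hF : Fintype.card F = 3 ^ 2)

section step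
variable {V : Type*} [AddCommGroup V] [Module k V] (ρ : Representation k (_root_.Matrix.SpecialLinearGroup (Fin 2) F) V)
  {W : Submodule k V} (hW : ∀ g, ∀ x ∈ W, ρ g x ∈ W)

theorem A_le_B {c e : ℕ} : Aw ι ρ c e ≤ Fw ι ρ c ⊓ (Aw ι (quotRep ρ W hW) c e).comap W.mkQ := fun x hx =>
  ⟨hx.1, Aw_map ι ρ (quotRep ρ W hW) W.mkQ (fun g y => (quotRep_mk ρ W hW g y).symm) hx⟩

include hF in
/-- lifting -/
theorem lift_B {b c e : ℕ} (hb : IsV ι 3 (subRep ρ W hW) b)
    (hc : ∀ i < 2, b / 3 ^ i % 3 + 1 < 3 → (c + 2 * en 3 b i) % (3 ^ 2 - 1) ≠ b % (3 ^ 2 - 1)) :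
    Aw ι (quotRep ρ W hW) c e ≤ (Fw ι ρ c ⊓ (Aw ι (quotRep ρ W hW) c e).comap W.mkQ).map W.mkQ := by
  intro y hy
  obtain ⟨x, rfl⟩ := W.mkQ_surjective y
  have hmem : ∀ z : V, W.mkQ z = 0 → z ∈ W := fun z hz => (Submodule.Quotient.mk_eq_zero W).1 hz
  obtain ⟨x', h1, h2, h3⟩ := lift_one ι 3 ρ W hW hF hb hc (x := x)
    (fun t => hmem _ (by rw [map_sub, ← quotRep_mk ρ W hW, hy.1.1, sub_self]))
    (fun a => hmem _ (by rw [map_sub, ← quotRep_mk ρ W hW, hy.1.2, map_smul, sub_self]))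
  have h4 : W.mkQ x' = W.mkQ x := by
    rw [← sub_eq_zero, ← map_sub]
    exact (Submodule.Quotient.mk_eq_zero W).2 h1
  refine ⟨x', ⟨⟨h2, h3⟩, ?_⟩, h4⟩
  show W.mkQ x' ∈ Aw ι (quotRep ρ W hW) c e
  rw [h4]
  exact hy

theorem D_mem {c e : ℕ} {x : V} (hx : W.mkQ x ∈ Aw ι (quotRep ρ W hW) c e) : Dm ι ρ e (ρ w x) ∈ W := by
  apply (Submodule.Quotient.mk_eq_zero W).1
  have h1 := ((mem_Aw ι (quotRep ρ W hW)).1 hx).2
  rw [quotRep_mk, ← Dm_comm ι ρ (quotRep ρ W hW) W.mkQ (fun g y => (quotRep_mk ρ W hW g y).symm)] at h1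
  exact h1

include hF in
/-- the weight of `D_e w x` -/
theorem D_wt {c e n : ℕ} (he : e ≤ 8) (hn : (n + c) % 8 = 2 * e % 8) {x : V} (hx : x ∈ Fw ι ρ c) (a : Fˣ) :
    ρ (h a) (Dm ι ρ e (ρ w x)) = ι a ^ n • Dm ι ρ e (ρ w x) := by
  have hQ := cardQ hF
  have hιa : ι (a : F) ≠ 0 := (map_ne_zero ι).2 a.ne_zero
  rw [h_Dm ι ρ (by omega), apply_mul, h_w, ← apply_mul, hx.2, map_smul, map_smul, smul_smul]
  congr 1
  have h8 : ι (a : F) ^ 8 = 1 := by rw [← hQ]; exact powQ ι a.ne_zero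
  have h3 : ι ((a⁻¹ : Fˣ) : F) * ι (a : F) = 1 := by
    rw [← map_mul, Units.val_inv_eq_inv_val, inv_mul_cancel₀ a.ne_zero, map_one]
  have hp : ∀ m : ℕ, ι (a : F) ^ m = ι (a : F) ^ (m % 8) := fun m => by
    conv_lhs => rw [← Nat.div_add_mod m 8, pow_add, pow_mul, h8, one_pow, one_mul]
  have h4 : ι (a : F) ^ n * ι (a : F) ^ c = ι (a : F) ^ (2 * e) := by
    rw [← pow_add, hp (n + c), hn, ← hp]
  rw [← h4, mul_assoc, ← mul_pow, mul_comm (ι (a : F)), h3, one_pow, mul_one]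

/-- the basis -/
noncomputable def bs {M : Type*} [AddCommGroup M] [Module k M] {σ : Representation k (_root_.Matrix.SpecialLinearGroup (Fin 2) F) M}
    {b : ℕ} {v : ℕ → M} (hv : Bas ι σ b v) : Module.Basis (Bf k b) k M := Module.Basis.mk hv.li hv.sp

theorem bs_apply {M : Type*} [AddCommGroup M] [Module k M] {σ : Representation k (_root_.Matrix.SpecialLinearGroup (Fin 2) F) M}
    {b : ℕ} {v : ℕ → M} (hv : Bas ι σ b v) (m : Bf k b) : bs ι hv m = v m := Module.Basis.mk_apply _ _ _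

include hF in
/-- the coordinates of a weight vector -/
theorem coord_zero {M : Type*} [AddCommGroup M] [Module k M] {σ : Representation k (_root_.Matrix.SpecialLinearGroup (Fin 2) F) M}
    {b n : ℕ} {v : ℕ → M} (hv : Bas ι σ b v) {z : M} (hz : ∀ a, σ (h a) z = ι a ^ n • z) (m : Bf k b)
    (hm : 2 * (m : ℕ) % 8 ≠ (b + n) % 8) : (bs ι hv).repr z m = 0 := by
  have hQ := cardQ hF
  obtain ⟨lam, hlam⟩ := IsCyclic.exists_generator (α := Fˣ)
  have hprim := primitive ι ι.injective hlam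
  rw [hQ] at hprim
  by_contra hne
  have h5 : ((bs ι hv).coord m) ∘ₗ (σ (h lam)) =
      (ι (lam : F) ^ (m : ℕ) * (ι (lam : F))⁻¹ ^ (b - m)) • (bs ι hv).coord m := by
    refine (bs ι hv).ext fun j => ?_
    rw [LinearMap.comp_apply, LinearMap.smul_apply, Module.Basis.coord_apply, Module.Basis.coord_apply]
    rw [bs_apply, hv.h j j.2, ← bs_apply ι hv, map_smul, Finsupp.smul_apply, Module.Basis.repr_self, smul_eq_mul,
      smul_eq_mul]
    by_cases hjm : j = m
    · rw [hjm]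
    · rw [Finsupp.single_apply, if_neg hjm, mul_zero, mul_zero]
  have h7 : ((bs ι hv).coord m) (σ (h lam) z) = (ι (lam : F) ^ (m : ℕ) * (ι (lam : F))⁻¹ ^ (b - m)) * (bs ι hv).coord m z :=
    LinearMap.congr_fun h5 z
  rw [hz, map_smul, smul_eq_mul] at h7
  have h8 := mul_right_cancel₀ (b := (bs ι hv).coord m z) hne h7
  obtain ⟨hmb, hmc⟩ := mem_Bf.1 m.2
  have hιa : ι (lam : F) ≠ 0 := (map_ne_zero ι).2 lam.ne_zero
  have h9 : ι (lam : F) ^ (b + n) = ι (lam : F) ^ (2 * (m : ℕ)) := by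
    rw [pow_add, h8, two_mul, pow_add]
    have h10 : ι (lam : F) ^ (b - m) * (ι (lam : F))⁻¹ ^ (b - (m : ℕ)) = 1 := by
      rw [← mul_pow, mul_inv_cancel₀ hιa, one_pow]
    calc ι (lam : F) ^ b * (ι (lam : F) ^ (m : ℕ) * (ι (lam : F))⁻¹ ^ (b - (m : ℕ)))
        = ι (lam : F) ^ ((m : ℕ) + (b - m)) * (ι (lam : F) ^ (m : ℕ) * (ι (lam : F))⁻¹ ^ (b - (m : ℕ))) := by
          rw [Nat.add_sub_cancel' hmb]
      _ = ι (lam : F) ^ (m : ℕ) * ι (lam : F) ^ (m : ℕ) * (ι (lam : F) ^ (b - m) * (ι (lam : F))⁻¹ ^ (b - (m : ℕ))) := by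
          rw [pow_add]; ring
      _ = _ := by rw [h10, mul_one]
  have h11 := (hprim.isOfFinOrder (by omega)).pow_eq_pow_iff_modEq.1 h9
  rw [← hprim.eq_orderOf] at h11
  exact hm h11.symm

/-- no vectors of weight `n` -/
theorem no_wt {b n : ℕ} (hb : IsV ι 3 (subRep ρ W hW) b) (hF : Fintype.card F = 3 ^ 2)
    (hn : ∀ m ≤ b, ¬ 3 ∣ b.choose m → 2 * m % 8 ≠ (b + n) % 8) {y : V} (hy : y ∈ W)
    (hh : ∀ a, ρ (h a) y = ι a ^ n • y) : y = 0 := by
  obtain ⟨v, hv⟩ := hb.bas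
  have h2 : (⟨y, hy⟩ : W) = 0 := by
    apply (bs ι hv).repr.injective
    ext m
    obtain ⟨hmb, hmc⟩ := mem_Bf.1 m.2
    rw [coord_zero ι hF hv (z := ⟨y, hy⟩) (n := n) (fun a => Subtype.ext (hh a)) m
      (hn m hmb fun h12 => hmc ((CharP.cast_eq_zero_iff k 3 _).2 h12)), map_zero, Finsupp.zero_apply]
  exact congrArg Subtype.val h2

include hF in
/-- the labels without the weight of `D_e w x` -/
theorem B_le_A {b c e n : ℕ} (hb : IsV ι 3 (subRep ρ W hW) b) (he : e ≤ 8) (hn : (n + c) % 8 = 2 * e % 8)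
    (hn2 : ∀ m ≤ b, ¬ 3 ∣ b.choose m → 2 * m % 8 ≠ (b + n) % 8) :
    Fw ι ρ c ⊓ (Aw ι (quotRep ρ W hW) c e).comap W.mkQ ≤ Aw ι ρ c e := by
  rintro x ⟨hx1, hx2⟩
  exact ⟨hx1, no_wt ι ρ hW hb hF hn2 (D_mem ι ρ hW hx2) (D_wt ι hF ρ he hn hx1)⟩

theorem zero_mem_Bf (b : ℕ) : 0 ∈ Bf k b := by
  rw [mem_Bf]
  exact ⟨Nat.zero_le _, by rw [Nat.choose_zero_right, Nat.cast_one]; exact one_ne_zero⟩

theorem self_mem_Bf (b : ℕ) : b ∈ Bf k b := by
  rw [mem_Bf]
  exact ⟨le_rfl, by rw [Nat.choose_self, Nat.cast_one]; exact one_ne_zero⟩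

/-- the lowest coordinate is invariant under `U` -/
theorem coord_u {M : Type*} [AddCommGroup M] [Module k M] {σ : Representation k (_root_.Matrix.SpecialLinearGroup (Fin 2) F) M}
    {b : ℕ} {v : ℕ → M} (hv : Bas ι σ b v) (t : F) (z : M) :
    (bs ι hv).coord ⟨0, zero_mem_Bf b⟩ (σ (u t) z) = (bs ι hv).coord ⟨0, zero_mem_Bf b⟩ z := by
  have h1 : ((bs ι hv).coord ⟨0, zero_mem_Bf b⟩) ∘ₗ (σ (u t)) = (bs ι hv).coord ⟨0, zero_mem_Bf b⟩ := by
    refine (bs ι hv).ext fun j => ?_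
    rw [LinearMap.comp_apply, bs_apply, hv.u j j.2, map_sum, Finset.sum_eq_single 0]
    · rw [Nat.choose_zero_right, pow_zero, Nat.cast_one, one_mul, one_smul, add_zero]
    · intro i hi hi0
      rw [map_smul]
      by_cases hmem : (j : ℕ) + i ∈ Bf k b
      · have h2 : v ((j : ℕ) + i) = bs ι hv ⟨(j : ℕ) + i, hmem⟩ := (bs_apply ι hv ⟨(j : ℕ) + i, hmem⟩).symm
        rw [h2, Module.Basis.coord_apply, Module.Basis.repr_self, Finsupp.single_apply, if_neg, smul_zero]
        intro h3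
        have h4 : (j : ℕ) + i = 0 := congrArg Subtype.val h3
        omega
      · rw [hv.zero _ hmem, map_zero, smul_zero]
    · intro hi
      exact absurd (Finset.mem_range.2 (Nat.succ_pos _)) hi
  exact LinearMap.congr_fun h1 z

theorem coord_D {M : Type*} [AddCommGroup M] [Module k M] {σ : Representation k (_root_.Matrix.SpecialLinearGroup (Fin 2) F) M}
    {b : ℕ} {v : ℕ → M} (hv : Bas ι σ b v) {n : ℕ} (hn : 1 ≤ n) (z : M) :
    (bs ι hv).coord ⟨0, zero_mem_Bf b⟩ (Dm ι σ n z) = 0 := by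
  have hq := one_lt (F := F)
  rw [Dm_apply, map_neg, map_sum]
  have h1 : ∀ t : F, (bs ι hv).coord ⟨0, zero_mem_Bf b⟩ (ι t ^ (Fintype.card F - 1 - n) • σ (u t) z) =
      ι t ^ (Fintype.card F - 1 - n) * (bs ι hv).coord ⟨0, zero_mem_Bf b⟩ z := by
    intro t
    rw [map_smul, coord_u, smul_eq_mul]
  rw [Finset.sum_congr rfl fun t _ => h1 t, ← Finset.sum_mul, psum ι (by omega), if_neg (by omega), zero_mul, neg_zero]

/-- the coordinates of `w z` -/
theorem coord_w {M : Type*} [AddCommGroup M] [Module k M] {σ : Representation k (_root_.Matrix.SpecialLinearGroup (Fin 2) F) M}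
    {b : ℕ} {v : ℕ → M} (hv : Bas ι σ b v) (z : M) :
    (bs ι hv).coord ⟨0, zero_mem_Bf b⟩ (σ w z) = (-1) ^ b * (bs ι hv).coord ⟨b, self_mem_Bf b⟩ z := by
  have h1 : ((bs ι hv).coord ⟨0, zero_mem_Bf b⟩) ∘ₗ (σ w) = ((-1 : k) ^ b) • (bs ι hv).coord ⟨b, self_mem_Bf b⟩ := by
    refine (bs ι hv).ext fun j => ?_
    rw [LinearMap.comp_apply, LinearMap.smul_apply, bs_apply, hv.w j j.2, map_smul, ← bs_apply ι hv]
    obtain ⟨hjb, -⟩ := mem_Bf.1 j.2
    by_cases hj : (j : ℕ) = b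
    · have h2 : v (b - (j : ℕ)) = bs ι hv ⟨0, zero_mem_Bf b⟩ := by rw [bs_apply, hj, Nat.sub_self]
      have h3 : j = ⟨b, self_mem_Bf b⟩ := Subtype.ext hj
      rw [h2, Module.Basis.coord_apply, Module.Basis.coord_apply, Module.Basis.repr_self, Finsupp.single_eq_same, h3,
        Module.Basis.repr_self, Finsupp.single_eq_same]
    · have h3 : (bs ι hv).coord ⟨b, self_mem_Bf b⟩ (bs ι hv j) = 0 := by
        rw [Module.Basis.coord_apply, Module.Basis.repr_self, Finsupp.single_apply, if_neg]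
        intro h4
        exact hj (congrArg Subtype.val h4)
      rw [h3, smul_zero]
      by_cases hmem : b - (j : ℕ) ∈ Bf k b
      · have h2 : v (b - (j : ℕ)) = bs ι hv ⟨b - (j : ℕ), hmem⟩ := (bs_apply ι hv ⟨b - (j : ℕ), hmem⟩).symm
        rw [h2, Module.Basis.coord_apply, Module.Basis.repr_self, Finsupp.single_apply, if_neg, smul_zero]
        intro h4
        have h5 : b - (j : ℕ) = 0 := congrArg Subtype.val h4
        omega
      · rw [hv.zero _ hmem, map_zero, smul_zero]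
  exact LinearMap.congr_fun h1 z

end step

end Cfsg.Agent.R2.T1.N6L
end

-- part: R2/T1/N6L/Pr4
section
/-!
# S5929, n = 6, p = 3: the pressure inequality for `V_6` (helper11)

`press6` : `[M : V_6] ≤ dim Aw + [M : V_4]` if all factors of `M` are `V_0`, `V_2`, `V_4`, `V_6`.
-/

set_option autoImplicit false
set_option linter.unusedSectionVars false

namespace Cfsg.Agent.R2.T1.N6L

open Matrix Cfsg.Agent.H943.SL2Rel Cfsg.Agent.H943.SL2Mod Cfsg.Agent.H943.RepAdd Cfsg.Agent.R2.H28.SL2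

universe u v w

variable {k : Type u} [Field k] [DecidableEq k] {F : Type w} [Field F] [Fintype F] [DecidableEq F] (ι : F →+* k)
variable [CharP k 3] [CharP F 3] (hF : Fintype.card F = 3 ^ 2)

section
variable {V : Type*} [AddCommGroup V] [Module k V] (ρ : Representation k (_root_.Matrix.SpecialLinearGroup (Fin 2) F) V)
  {W : Submodule k V} (hW : ∀ g, ∀ x ∈ W, ρ g x ∈ W)

include hF in
/-- the relation -/
theorem rel6 {x : V} (hx : x ∈ Fw ι ρ 6) : ρ w (Dm ι ρ 1 (ρ w x)) = Dm ι ρ 4 (Dm ι ρ 1 (ρ w x)) := by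
  have hQ := cardQ hF
  have h1 := w_Dm ι ρ (m := 1) (c := 6) le_rfl (by norm_num) (by omega) (by rw [hQ]; exact ⟨4, rfl⟩) hx
  have h2 := Dm_mul' ι ρ 3 hF (m := 4) (n := 1) (by norm_num) le_rfl (by omega) (ρ w x)
  rw [h1, h2]
  congr 1
  have h3 : ((3 : ℕ) : k) = 0 := CharP.cast_eq_zero k 3
  have h4 : ((Nat.choose (4 + 1) 4 : ℕ) : k) = 5 := by
    have h5 : Nat.choose (4 + 1) 4 = 5 := by decide
    rw [h5]; norm_num
  rw [h4]
  push_cast at h3
  linear_combination (-2 : k) * h3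

include hF in
/-- `D_1 w x` for `W ≅ V_4` -/
theorem theta_le (hb : IsV ι 3 (subRep ρ W hW) 4) : ∃ v0 : V,
    (Fw ι ρ 6 ⊓ (Aw ι (quotRep ρ W hW) 6 1).comap W.mkQ).map ((Dm ι ρ 1) ∘ₗ (ρ w)) ≤ Submodule.span k {v0} := by
  have hQ := cardQ hF
  obtain ⟨v, hv⟩ := hb.bas
  refine ⟨v 0, ?_⟩
  rintro _ ⟨x, ⟨hx1, hx2⟩, rfl⟩
  have hy := D_mem ι ρ hW hx2
  have hwt := D_wt ι hF ρ (c := 6) (e := 1) (n := 4) (by norm_num) (by norm_num) hx1
  set y := Dm ι ρ 1 (ρ w x) with hydef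
  -- the coordinates
  set z : W := ⟨y, hy⟩ with hz
  have hzw : ∀ a, subRep ρ W hW (h a) z = ι a ^ 4 • z := fun a => Subtype.ext (hwt a)
  have hrel : subRep ρ W hW w z = Dm ι (subRep ρ W hW) 4 z := by
    apply Subtype.ext
    have h1 := Dm_comm ι (subRep ρ W hW) ρ W.subtype (fun g x => rfl) 4 z
    have h2 : ((Dm ι (subRep ρ W hW) 4 z : W) : V) = Dm ι ρ 4 y := h1
    rw [h2]
    exact rel6 ι hF ρ hx1
  have h4 : (bs ι hv).repr z ⟨4, self_mem_Bf 4⟩ = 0 := by
    have h5 := coord_w ι hv z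
    rw [hrel, coord_D ι hv (by norm_num), show (-1 : k) ^ 4 = 1 by norm_num, one_mul] at h5
    exact h5.symm
  have hzv : z = (bs ι hv).repr z ⟨0, zero_mem_Bf 4⟩ • v 0 := by
    apply (bs ι hv).repr.injective
    ext m
    have h6 : v 0 = bs ι hv ⟨0, zero_mem_Bf 4⟩ := (bs_apply ι hv ⟨0, zero_mem_Bf 4⟩).symm
    rw [map_smul, h6, Module.Basis.repr_self, Finsupp.smul_apply, Finsupp.single_apply]
    by_cases h0 : (⟨0, zero_mem_Bf 4⟩ : Bf k 4) = m
    · rw [if_pos h0, smul_eq_mul, mul_one, h0]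
    · rw [if_neg h0, smul_zero]
      by_cases hm4 : m = ⟨4, self_mem_Bf 4⟩
      · rw [hm4, h4]
      · apply coord_zero ι hF hv hzw
        obtain ⟨hmb, hmc⟩ := mem_Bf.1 m.2
        have h7 : (m : ℕ) ≠ 0 := fun h => h0 (Subtype.ext h.symm)
        have h8 : (m : ℕ) ≠ 4 := fun h => hm4 (Subtype.ext h)
        omega
  show y ∈ Submodule.span k {((v 0 : W) : V)}
  rw [Submodule.mem_span_singleton]
  exact ⟨_, (congrArg Subtype.val hzv).symm⟩

include hF in
theorem step4 [FiniteDimensional k V] (hb : IsV ι 3 (subRep ρ W hW) 4) :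
    Module.finrank k (Aw ι (quotRep ρ W hW) 6 1) ≤ Module.finrank k (Aw ι ρ 6 1) + 1 := by
  refine (lin1 (lift_B ι hF ρ hW (b := 4) hb (by decide))).trans ?_
  obtain ⟨v0, hv0⟩ := theta_le ι hF ρ hW hb
  exact lin3 ((Dm ι ρ 1) ∘ₗ (ρ w)) (fun x hx => ⟨hx.1.1, hx.2⟩) hv0

include hF in
theorem step2 [FiniteDimensional k V] (hb : IsV ι 3 (subRep ρ W hW) 2) :
    Module.finrank k (Aw ι (quotRep ρ W hW) 6 1) ≤ Module.finrank k (Aw ι ρ 6 1) := by
  refine (lin1 (lift_B ι hF ρ hW (b := 2) hb (by decide))).trans (Submodule.finrank_mono ?_)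
  exact B_le_A ι hF ρ hW (n := 4) hb (by norm_num) (by norm_num) (by decide)

include hF in
theorem step6 [FiniteDimensional k V] (hb : IsV ι 3 (subRep ρ W hW) 6) :
    Module.finrank k (Aw ι (quotRep ρ W hW) 6 1) + 1 ≤ Module.finrank k (Aw ι ρ 6 1) := by
  obtain ⟨m, hm0, hm⟩ := hw_Aw ι hF (subRep ρ W hW) ce6 hb
  have hm' : ((m : W) : V) ∈ Aw ι ρ 6 1 := Aw_map ι (subRep ρ W hW) ρ W.subtype (fun g x => rfl) hm
  refine (lin2 (lift_B ι hF ρ hW (b := 6) hb (by decide)) (m := (m : V)) (A_le_B ι ρ hW hm')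
    (fun h => hm0 (Subtype.ext h)) ((Submodule.Quotient.mk_eq_zero W).2 m.2)).trans (Submodule.finrank_mono ?_)
  exact B_le_A ι hF ρ hW (n := 4) hb (by norm_num) (by norm_num) (by decide)

end

variable [IsAlgClosed k]

include hF in
theorem ext60 : Ext0 (Sy.{u, v, w} ι 3) 6 0 := by
  refine ext0_of_Hs ι 3 hF {6} (fun d hd => ?_) (fun z hz => ?_) ?_
  · rw [Multiset.mem_singleton] at hd
    rw [hd]
    norm_num
  · rw [cs_singleton, chB_zero, mul_one]
  · exact Hs_eq_zero (by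
      intro b hb
      rw [Multiset.mem_singleton] at hb
      rw [hb]
      decide)

include hF in
theorem step0 {V : Type v} [AddCommGroup V] [Module k V] [FiniteDimensional k V]
    (ρ : Representation k (_root_.Matrix.SpecialLinearGroup (Fin 2) F) V) {W : Submodule k V} (hW : ∀ g, ∀ x ∈ W, ρ g x ∈ W)
    (hb : IsV ι 3 (subRep ρ W hW) 0) :
    Module.finrank k (Aw ι (quotRep ρ W hW) 6 1) ≤ Module.finrank k (Aw ι ρ 6 1) := by
  refine lin1 (f := W.mkQ) fun y hy => ?_
  by_cases hy0 : y = 0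
  · rw [hy0]
    exact Submodule.zero_mem _
  obtain ⟨Z, hZ, hZ6, hyZ⟩ := inSoc_of_Aw ι hF (quotRep ρ W hW) ce6 hy hy0
  obtain ⟨X, hX, -, hXZ, hXW⟩ := lift0 (S := Sy.{u, v, w} ι 3) W hW (c := 6) (fun b hb' => by
    rw [cf_irr (Sy.{u, v, w} ι 3) hb, Multiset.mem_singleton] at hb'
    rw [hb']
    exact ext60 ι hF) Z hZ hZ6
  rw [← hXZ] at hyZ
  obtain ⟨x, hx, rfl⟩ := hyZ
  have key : ∀ z ∈ X, W.mkQ z = 0 → z = 0 := fun z hz h0 => by
    have h1 : z ∈ X ⊓ W := ⟨hz, (Submodule.Quotient.mk_eq_zero W).1 h0⟩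
    rw [hXW] at h1
    exact (Submodule.mem_bot k).1 h1
  refine ⟨x, ⟨⟨fun t => ?_, fun a => ?_⟩, ?_⟩, rfl⟩
  · rw [← sub_eq_zero]
    exact key _ (X.sub_mem (hX _ _ hx) hx) (by rw [map_sub, ← quotRep_mk ρ W hW, hy.1.1, sub_self])
  · rw [← sub_eq_zero]
    exact key _ (X.sub_mem (hX _ _ hx) (X.smul_mem _ hx))
      (by rw [map_sub, ← quotRep_mk ρ W hW, hy.1.2, map_smul, sub_self])
  · exact key _ (Dm_mem_inv ι ρ hX 1 (hX _ _ hx)) ((Submodule.Quotient.mk_eq_zero W).2 (D_mem ι ρ hW hy))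

include hF in
/-- **the pressure inequality for `V_6`** -/
theorem press6' (n : ℕ) : ∀ {V : Type v} [AddCommGroup V] [Module k V] [FiniteDimensional k V]
    {ρ : Representation k (_root_.Matrix.SpecialLinearGroup (Fin 2) F) V} {s : Multiset ℕ}, JHn (Sy.{u, v, w} ι 3) n ρ s →
    (∀ b ∈ s, b = 0 ∨ b = 2 ∨ b = 4 ∨ b = 6) → s.count 6 ≤ Module.finrank k (Aw ι ρ 6 1) + s.count 4 := by
  induction n with
  | zero =>
    intro V _ _ _ ρ s hs _
    rw [hs.2]
    exact Nat.zero_le _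
  | succ n ih =>
    intro V _ _ _ ρ s hs hall
    obtain ⟨W, hW, b, t, hb, rfl, ht⟩ := hs
    have h1 := ih ht fun c hc => hall c (Multiset.mem_cons_of_mem hc)
    have h2 := hall b (Multiset.mem_cons_self b t)
    rw [Multiset.count_cons, Multiset.count_cons]
    rcases h2 with rfl | rfl | rfl | rfl
    · have h3 := step0 ι hF ρ hW hb
      simp only [OfNat.ofNat_ne_zero, if_false, add_zero]
      omega
    · have h3 := step2 ι hF ρ hW hb
      rw [if_neg (by norm_num), if_neg (by norm_num)]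
      omega
    · have h3 := step4 ι hF ρ hW hb
      rw [if_neg (by norm_num), if_pos rfl]
      omega
    · have h3 := step6 ι hF ρ hW hb
      rw [if_pos rfl, if_neg (by norm_num)]
      omega

include hF in
theorem press6 {V : Type v} [AddCommGroup V] [Module k V] [FiniteDimensional k V]
    (ρ : Representation k (_root_.Matrix.SpecialLinearGroup (Fin 2) F) V)
    (hall : ∀ b ∈ cf (Sy.{u, v, w} ι 3) ρ, b = 0 ∨ b = 2 ∨ b = 4 ∨ b = 6) :
    (cf (Sy.{u, v, w} ι 3) ρ).count 6 ≤ Module.finrank k (Aw ι ρ 6 1) + (cf (Sy.{u, v, w} ι 3) ρ).count 4 := by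
  obtain ⟨n, hn⟩ := cf_spec (Sy.{u, v, w} ι 3) ρ
  exact press6' ι hF n hn hall

end Cfsg.Agent.R2.T1.N6L
end
end

-- part: R2/T1/N6L/Pr5
section
set_option linter.all false
open scoped Cfsg.Agent.FastGrp

/-!
# S5929, n = 6, p = 3: C3, over an algebraically closed field (helper11)

`no_self` : a self-dual module with factors `V_0`, `V_2`, `V_4`, `V_6` and socle of type `V_4` has more factors `V_4` than
`V_6`.
-/

set_option autoImplicit false
set_option linter.unusedSectionVars false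

namespace Cfsg.Agent.R2.T1.N6L

open Matrix Cfsg.Agent.H943.SL2Rel Cfsg.Agent.H943.SL2Mod Cfsg.Agent.H943.RepAdd Cfsg.Agent.R2.H28.SL2

universe u v w

variable {k : Type u} [Field k] [DecidableEq k] {F : Type w} [Field F] [Fintype F] [DecidableEq F] (ι : F →+* k)
variable [CharP k 3] [CharP F 3] (hF : Fintype.card F = 3 ^ 2) [IsAlgClosed k]

include hF in
/-- **C3** -/
theorem no_self {V : Type v} [AddCommGroup V] [Module k V] [FiniteDimensional k V] [Nontrivial V]
    {ρ : Representation k (SpecialLinearGroup (Fin 2) F) V} {B : V →ₗ[k] V →ₗ[k] k} (D : Dul ρ ρ B)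
    (hall : ∀ b ∈ cf (Sy.{u, v, w} ι 3) ρ, b = 0 ∨ b = 2 ∨ b = 4 ∨ b = 6)
    (h0 : ¬ InSoc ι 3 ρ 0) (h2 : ¬ InSoc ι 3 ρ 2) (h6 : ∀ x ∈ Aw ι ρ 6 1, x = 0)
    (hle : (cf (Sy.{u, v, w} ι 3) ρ).count 4 ≤ (cf (Sy.{u, v, w} ι 3) ρ).count 6) : False := by
  obtain ⟨c, hc⟩ := exists_inSoc ι 3 ρ
  have hcm := InSoc.mem_cf ι 3 hc
  have hc4 : c = 4 := by
    rcases hall c hcm with rfl | rfl | rfl | rfl
    · exact absurd hc h0
    · exact absurd hc h2
    · rfl
    · exfalso
      obtain ⟨X, hX, hb⟩ := hc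
      obtain ⟨m, hm0, hm⟩ := hw_Aw ι hF (subRep ρ X hX) ce6 hb
      exact hm0 (Subtype.ext (h6 _ (Aw_map ι (subRep ρ X hX) ρ X.subtype (fun g x => rfl) hm)))
  subst hc4
  obtain ⟨X, hX, hb⟩ := hc
  obtain ⟨B', D', -⟩ := D.sub hX
  have hq : IsV ι 3 (quotRep ρ (orth B X) (D.orth_inv hX)) 4 := IsV.dual ι 3 hb D'
  have hadd := cf_add (Sy.{u, v, w} ι 3) ρ (orth B X) (D.orth_inv hX)
  rw [cf_irr (Sy.{u, v, w} ι 3) hq] at hadd
  have hp := press6 ι hF (subRep ρ (orth B X) (D.orth_inv hX)) fun b hb' => hall b (by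
    rw [hadd]
    exact Multiset.mem_add.2 (Or.inl hb'))
  have hA : Aw ι (subRep ρ (orth B X) (D.orth_inv hX)) 6 1 = ⊥ := by
    rw [eq_bot_iff]
    intro x hx
    rw [Submodule.mem_bot]
    exact Subtype.ext (h6 _ (Aw_map ι (subRep ρ (orth B X) (D.orth_inv hX)) ρ (orth B X).subtype (fun g x => rfl) hx))
  rw [hA, finrank_bot, zero_add] at hp
  rw [hadd, Multiset.count_add, Multiset.count_add, Multiset.count_singleton, Multiset.count_singleton,
    if_pos rfl, if_neg (by norm_num)] at hle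
  omega

end Cfsg.Agent.R2.T1.N6L
end

-- part: R2/T1/N7/PB/Cls
section
prune_inst 0x2020200420000000001c0082010000614000000200400000006004000c416060290120013200041200009c4440080048111000000200000000000400011900a0808052003300a104040007000000000000000000000000000000000000000004000000000
set_option linter.all false
open scoped Cfsg.Agent.FastGrp

-- part: R2/T1/N7/PB/Iso
section
/-!
# S5929, `n = 7`, `p = 3`, lift, pattern B: the isotropic subspace (helper7)

* `form_const` : the form is constant on the translates of two fixed vectors;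
* `count` : `24 + 24 + dim W^{a7} ≤ dim W` if the `L₂(7)`-fixed space has dimension at least two.
-/

set_option autoImplicit false

namespace Cfsg.Agent.R2.T1.N7.PB

open Module
open Cfsg.Agent.H952.F4 (ev)

universe u v

section perp
variable {F : Type u} [Field F] {W : Type v} [AddCommGroup W] [Module F W] [FiniteDimensional F W]

theorem perp_le {B : W →ₗ[F] W →ₗ[F] F} (hB : ∀ x, (∀ y, B x y = 0) → x = 0) {U U' : Submodule F W}
    (h : ∀ x ∈ U, ∀ y ∈ U', B x y = 0) : finrank F ↥U + finrank F ↥U' ≤ finrank F W := by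
  have h1 : Function.Injective B := by
    rw [← LinearMap.ker_eq_bot, LinearMap.ker_eq_bot']
    intro x hx
    exact hB x fun y => by rw [hx]; rfl
  have h2 : U.map B ≤ U'.dualAnnihilator := by
    rintro _ ⟨x, hx, rfl⟩
    rw [Submodule.mem_dualAnnihilator]
    intro y hy
    exact h x hx y hy
  have h3 := Submodule.finrank_mono h2
  have h4 := Subspace.finrank_add_finrank_dualAnnihilator_eq U'
  have h5 : finrank F ↥U = finrank F ↥(U.map B) := (Submodule.equivMapOfInjective B h1 U).finrank_eq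
  have h6 : finrank F ↥U ≤ finrank F ↥U'.dualAnnihilator := by
    rw [h5]
    exact h3
  calc finrank F ↥U + finrank F ↥U' ≤ finrank F ↥U'.dualAnnihilator + finrank F ↥U' := Nat.add_le_add_right h6 _
    _ = finrank F W := by rw [add_comm]; exact h4

end perp

/-- the orbits of `a7` -/
def idx (a : Fin 3) (b : Fin 5) : Fin 15 := ⟨5 * a.1 + b.1, by omega⟩

theorem idx_bij : Function.Bijective (fun p : Fin 3 × Fin 5 => idx p.1 p.2) := by decide +kernel

theorem sum_idx {M : Type v} [AddCommMonoid M] (f : Fin 15 → M) : ∑ i, f i = ∑ a, ∑ b, f (idx a b) := by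
  rw [← Fintype.sum_prod_type' (fun a b => f (idx a b))]
  exact (idx_bij.sum_comp f).symm

theorem ft_idx : ∀ a b, ft 0 (idx a b) = idx a (b + 1) := by decide +kernel

theorem pow_tt : ∀ (a : Fin 3) (b t : Fin 5), a7 ^ t.1 * tt (idx a b) = tt (idx a (b + t)) := by (set_option synthInstance.maxSize 9000 in open scoped Cfsg.Agent.Lib.FastPerm in decide +kernel)

section form
variable {F : Type u} [Field F] {W : Type v} [AddCommGroup W] [Module F W] {ρ : Representation F A7 W}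
  {B : W →ₗ[F] W →ₗ[F] F}

theorem sum_zero (h0 : Representation.invariants ρ = ⊥) {m : W} (h : Fx ρ m) : ∑ i, ρ (tt i) m = 0 := by
  refine zero_of_fix h0 ?_ ?_
  · rw [map_sum, ← sum_pw [0] fun i => ρ (tt i) m]
    exact Finset.sum_congr rfl fun i _ => act1 h 0 i
  · rw [map_sum, ← sum_pw [2] fun i => ρ (tt i) m]
    exact Finset.sum_congr rfl fun i _ => act1 h 2 i

/-- **the form is constant on the translates** -/
theorem form_const (h3 : (3 : F) = 0) (h0 : Representation.invariants ρ = ⊥)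
    (hG : ∀ g x y, B (ρ g x) (ρ g y) = B x y) {m m' : W} (h : Fx ρ m) (h' : Fx ρ m') (i j : Fin 15) :
    B (ρ (tt i) m) (ρ (tt j) m') = B (ρ (tt 0) m) (ρ (tt 1) m') := by
  have e1 : ∀ i j, i ≠ j → B (ρ (tt i) m) (ρ (tt j) m') = B (ρ (tt 0) m) (ρ (tt 1) m') := by
    intro i j hij
    obtain ⟨h1, h2⟩ := tab_pw i j hij
    have h5 := hG (PB.evw a7 b7 (tab i j)) (ρ (tt 0) m) (ρ (tt 1) m')
    rw [act h, act h', h1, h2] at h5
    exact h5
  by_cases hij : i = j
  · subst hij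
    have e2 : ∑ j, (B (ρ (tt i) m) (ρ (tt j) m') - B (ρ (tt 0) m) (ρ (tt 1) m')) =
        B (ρ (tt i) m) (ρ (tt i) m') - B (ρ (tt 0) m) (ρ (tt 1) m') := by
      refine Finset.sum_eq_single i (fun j _ hj => ?_) (fun h => absurd (Finset.mem_univ _) h)
      rw [e1 i j hj.symm, sub_self]
    rw [Finset.sum_sub_distrib, ← map_sum, sum_zero h0 h', map_zero, Finset.sum_const, Finset.card_univ,
      Fintype.card_fin, nsmul_eq_mul] at e2
    push_cast at e2
    linear_combination -e2 - 5 * B (ρ (tt 0) m) (ρ (tt 1) m') * h3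
  · exact e1 i j hij

theorem iso (h3 : (3 : F) = 0) (h0 : Representation.invariants ρ = ⊥)
    (hG : ∀ g x y, B (ρ g x) (ρ g y) = B x y) {m m' : W} (h : Fx ρ m) (h' : Fx ρ m') {f g : Fin 15 → F}
    (hf : ∑ i, f i = 0) : B (∑ i, f i • ρ (tt i) m) (∑ i, g i • ρ (tt i) m') = 0 := by
  rw [map_sum, map_sum]
  refine Finset.sum_eq_zero fun j _ => ?_
  rw [LinearMap.sum_apply]
  have e : ∀ i, B (f i • ρ (tt i) m) (g j • ρ (tt j) m') = f i * (g j * B (ρ (tt 0) m) (ρ (tt 1) m')) := by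
    intro i
    rw [map_smul, map_smul, LinearMap.smul_apply, form_const h3 h0 hG h h', smul_eq_mul, smul_eq_mul]
    ring
  rw [Finset.sum_congr rfl fun i _ => e i, ← Finset.sum_mul, hf, zero_mul]

variable (F) in
/-- the orbit sums -/
def O : (Fin 15 → F) →ₗ[F] (Fin 3 → F) where
  toFun f := fun a => ∑ b, f (idx a b)
  map_add' f g := by
    funext a
    exact Finset.sum_add_distrib
  map_smul' c f := by
    funext a
    show ∑ b, c * f (idx a b) = c * ∑ b, f (idx a b)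
    rw [Finset.mul_sum]

theorem O_apply (f : Fin 15 → F) (a : Fin 3) : O F f a = ∑ b, f (idx a b) := rfl

theorem sum_of_O {f : Fin 15 → F} (h : O F f = 0) : ∑ i, f i = 0 := by
  rw [sum_idx]
  exact Finset.sum_eq_zero fun a _ => congrFun h a

/-- orthogonal to the fixed vectors of `a7` -/
theorem iso_fix (hG : ∀ g x y, B (ρ g x) (ρ g y) = B x y) {m v : W} (h : Fx ρ m) (hv : ρ a7 v = v)
    {f : Fin 15 → F} (hf : O F f = 0) : B (∑ i, f i • ρ (tt i) m) v = 0 := by
  have e1 : ∀ a b, B (ρ (tt (idx a (b + 1))) m) v = B (ρ (tt (idx a b)) m) v := by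
    intro a b
    have h1 := hG a7 (ρ (tt (idx a b)) m) v
    have h2 : ρ a7 (ρ (tt (idx a b)) m) = ρ (tt (ft 0 (idx a b))) m := act1 h 0 _
    rw [h2, hv, ft_idx] at h1
    exact h1
  have e2 : ∀ a b, B (ρ (tt (idx a b)) m) v = B (ρ (tt (idx a 0)) m) v := by
    intro a b
    fin_cases b
    · rfl
    · exact e1 a 0
    · exact (e1 a 1).trans (e1 a 0)
    · exact (e1 a 2).trans ((e1 a 1).trans (e1 a 0))
    · exact (e1 a 3).trans ((e1 a 2).trans ((e1 a 1).trans (e1 a 0)))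
  rw [map_sum, LinearMap.sum_apply, sum_idx]
  refine Finset.sum_eq_zero fun a _ => ?_
  have e3 : ∀ b, B (f (idx a b) • ρ (tt (idx a b)) m) v = f (idx a b) * B (ρ (tt (idx a 0)) m) v := by
    intro b
    rw [map_smul, LinearMap.smul_apply, e2, smul_eq_mul]
  rw [Finset.sum_congr rfl fun b _ => e3 b, ← Finset.sum_mul, ← O_apply, hf, Pi.zero_apply, zero_mul]

/-- the trace of `a7` kills the combinations with vanishing orbit sums -/
theorem tr_zero {m : W} {f : Fin 15 → F} (hf : O F f = 0) :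
    ∑ t : Fin 5, ρ (a7 ^ t.1) (∑ i, f i • ρ (tt i) m) = 0 := by
  have e1 : ∀ t : Fin 5, ρ (a7 ^ t.1) (∑ i, f i • ρ (tt i) m) = ∑ a, ∑ b, f (idx a b) • ρ (tt (idx a (b + t))) m := by
    intro t
    rw [map_sum, sum_idx]
    refine Finset.sum_congr rfl fun a _ => Finset.sum_congr rfl fun b _ => ?_
    rw [map_smul, ← rho_mul, pow_tt]
  rw [Finset.sum_congr rfl fun t _ => e1 t, Finset.sum_comm]
  refine Finset.sum_eq_zero fun a _ => ?_
  rw [Finset.sum_comm]
  have e2 : ∀ b, ∑ t, f (idx a b) • ρ (tt (idx a (b + t))) m = f (idx a b) • ∑ t, ρ (tt (idx a t)) m := by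
    intro b
    rw [← Finset.smul_sum]
    congr 1
    exact Fintype.sum_equiv (Equiv.addLeft b) _ _ fun t => rfl
  rw [Finset.sum_congr rfl fun b _ => e2 b, ← Finset.sum_smul, ← O_apply, hf, Pi.zero_apply, zero_smul]

theorem five_ne (h3 : (3 : F) = 0) : (5 : F) ≠ 0 := by
  intro h5
  have : (1 : F) = 0 := by linear_combination 2 * h3 - h5
  exact one_ne_zero this

variable (ρ) in
/-- the map on pairs -/
noncomputable def Ph (m m' : W) : (Fin 15 → F) × (Fin 15 → F) →ₗ[F] W :=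
  (Fintype.linearCombination F fun i => ρ (tt i) m).coprod (Fintype.linearCombination F fun i => ρ (tt i) m')

theorem Ph_apply (m m' : W) (f : (Fin 15 → F) × (Fin 15 → F)) :
    Ph ρ m m' f = ∑ i, f.1 i • ρ (tt i) m + ∑ i, f.2 i • ρ (tt i) m' := by
  unfold Ph
  rw [LinearMap.coprod_apply, Fintype.linearCombination_apply, Fintype.linearCombination_apply]

theorem zero_of_const (h3 : (3 : F) = 0) {f : Fin 15 → F} (hc : ∀ j, f j = f 0) (hf : O F f = 0) : f = 0 := by
  have h1 := congrFun hf 0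
  rw [O_apply, Finset.sum_congr rfl fun b _ => hc _, Finset.sum_const, Finset.card_univ, Fintype.card_fin,
    nsmul_eq_mul] at h1
  have h2 : f 0 = 0 := (mul_eq_zero.1 h1).resolve_left (by exact_mod_cast five_ne h3)
  funext j
  rw [hc j, h2]
  rfl

variable (F) in
/-- the pairs with vanishing orbit sums -/
def KO : Submodule F ((Fin 15 → F) × (Fin 15 → F)) := LinearMap.ker ((O F).prodMap (O F))

theorem mem_KO {f : (Fin 15 → F) × (Fin 15 → F)} : f ∈ KO F ↔ O F f.1 = 0 ∧ O F f.2 = 0 := by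
  unfold KO
  rw [LinearMap.mem_ker]
  exact Prod.ext_iff

theorem finrank_KO : 24 ≤ finrank F ↥(KO F) := by
  have h1 := LinearMap.finrank_range_add_finrank_ker ((O F).prodMap (O F))
  have h2 := Submodule.finrank_le (LinearMap.range ((O F).prodMap (O F)))
  rw [Module.finrank_prod, Module.finrank_fin_fun] at h1 h2
  unfold KO
  omega

variable [FiniteDimensional F W]

/-- **the count** -/
theorem count (h3 : (3 : F) = 0) (h0 : Representation.invariants ρ = ⊥) (hB : ∀ x, (∀ y, B x y = 0) → x = 0)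
    (hG : ∀ g x y, B (ρ g x) (ρ g y) = B x y) {m m' : W} (h : Fx ρ m) (h' : Fx ρ m')
    (hi : ∀ a b : F, a • m + b • m' = 0 → a = 0 ∧ b = 0) : 24 + 24 + ev (ρ a7) 1 ≤ finrank F W := by
  set Ψ := (Ph ρ m m').comp (KO F).subtype with hΨ
  have hΨa : ∀ f : ↥(KO F), Ψ f = ∑ i, f.1.1 i • ρ (tt i) m + ∑ i, f.1.2 i • ρ (tt i) m' := fun f => Ph_apply _ _ _
  have e1 : Function.Injective Ψ := by
    rw [← LinearMap.ker_eq_bot, LinearMap.ker_eq_bot']
    intro f hf
    rw [hΨa] at hf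
    obtain ⟨k1, k2⟩ := mem_KO.1 f.2
    obtain ⟨c1, c2⟩ := rel_const h3 h0 h h' hi hf
    exact Subtype.ext (Prod.ext (zero_of_const h3 c1 k1) (zero_of_const h3 c2 k2))
  have e2 : finrank F ↥(LinearMap.range Ψ) = finrank F ↥(KO F) := LinearMap.finrank_range_of_inj e1
  have e3 := finrank_KO (F := F)
  -- the intersection with the fixed space
  have e4 : LinearMap.range Ψ ⊓ Module.End.eigenspace (ρ a7) 1 = ⊥ := by
    rw [eq_bot_iff]
    rintro v ⟨⟨f, rfl⟩, hv⟩
    have hv' : ρ a7 (Ψ f) = Ψ f := by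
      have := Module.End.mem_eigenspace_iff.1 hv
      rwa [one_smul] at this
    have h1 : ∀ t : ℕ, ρ (a7 ^ t) (Ψ f) = Ψ f := by
      intro t
      induction t with
      | zero => rw [pow_zero, map_one]; rfl
      | succ t ih => rw [pow_succ, rho_mul, hv', ih]
    have h2 : ∑ t : Fin 5, ρ (a7 ^ t.1) (Ψ f) = 0 := by
      have h5 : ∀ t : Fin 5, ρ (a7 ^ t.1) (Ψ f) = ρ (a7 ^ t.1) (∑ i, f.1.1 i • ρ (tt i) m) +
          ρ (a7 ^ t.1) (∑ i, f.1.2 i • ρ (tt i) m') := fun t => by rw [hΨa, map_add]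
      rw [Finset.sum_congr rfl fun t _ => h5 t, Finset.sum_add_distrib, tr_zero (mem_KO.1 f.2).1,
        tr_zero (mem_KO.1 f.2).2, add_zero]
    rw [Finset.sum_congr rfl fun t _ => h1 _, Finset.sum_const, Finset.card_univ, Fintype.card_fin] at h2
    have h6 : (5 : F) • Ψ f = 0 := by
      rw [← h2, ← Nat.cast_smul_eq_nsmul F]
      norm_num
    exact (Submodule.mem_bot F).2 ((smul_eq_zero.1 h6).resolve_left (five_ne h3))
  have e5 := Submodule.finrank_sup_add_finrank_inf_eq (LinearMap.range Ψ) (Module.End.eigenspace (ρ a7) 1)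
  rw [e4, finrank_bot, add_zero] at e5
  have e6 : ∀ x ∈ LinearMap.range Ψ, ∀ y ∈ LinearMap.range Ψ ⊔ Module.End.eigenspace (ρ a7) 1, B x y = 0 := by
    rintro x ⟨f, rfl⟩ y hy
    obtain ⟨y1, ⟨g, rfl⟩, y2, hy2, rfl⟩ := Submodule.mem_sup.1 hy
    have hv : ρ a7 y2 = y2 := by
      have := Module.End.mem_eigenspace_iff.1 hy2
      rwa [one_smul] at this
    have k := mem_KO.1 f.2
    rw [map_add, hΨa, hΨa]
    simp only [map_add, LinearMap.add_apply]
    rw [iso h3 h0 hG h h (sum_of_O k.1), iso h3 h0 hG h h' (sum_of_O k.1), iso h3 h0 hG h' h (sum_of_O k.2),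
      iso h3 h0 hG h' h' (sum_of_O k.2), iso_fix hG h hv k.1, iso_fix hG h' hv k.2]
    ring
  have e7 := perp_le hB e6
  have e8 : ev (ρ a7) 1 = finrank F ↥(Module.End.eigenspace (ρ a7) 1) := rfl
  rw [e5, e2] at e7
  omega

end form

end Cfsg.Agent.R2.T1.N7.PB
end

-- part: R2/T1/N7/PB/Cls
section
/-!
# S5929, `n = 7`, `p = 3`, lift, pattern B: classes and the fixed space of `L₂(7)` (helper7)

* `cls2`, `cls5`, `cls7` : the elements of order 2, 5, 7;
* `fx_ge` : Scott's lemma for the Hurwitz triple of `L₂(7)`.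
-/

set_option autoImplicit false
set_option maxRecDepth 100000

namespace Cfsg.Agent.R2.T1.N7.PB

open Module Equiv Equiv.Perm
open Cfsg.Agent.H952.F4 (ev)

universe u v

/-- conjugacy in `A₇`, the general case -/
theorem conj7' {r s g : A7} (hct : (r : Perm (Fin 7)).cycleType = (g : Perm (Fin 7)).cycleType)
    {κ : Perm (Fin 7)} (hκ : sign κ = -1) (hc : κ * s = r * κ) : IsConj r g ∨ IsConj s g := by
  obtain ⟨σ, hσ⟩ := isConj_iff.1 (isConj_iff_cycleType_eq.2 hct)
  rcases Int.units_eq_one_or (sign σ) with h3 | h3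
  · exact Or.inl (isConj_iff.2 ⟨⟨σ, h3⟩, Subtype.ext hσ⟩)
  · refine Or.inr (isConj_iff.2 ⟨⟨σ * κ, ?_⟩, Subtype.ext ?_⟩)
    · rw [mem_alternatingGroup, map_mul, h3, hκ]; rfl
    · change σ * κ * (s : Perm (Fin 7)) * (σ * κ)⁻¹ = g
      rw [← hσ]
      calc σ * κ * (s : Perm (Fin 7)) * (σ * κ)⁻¹ = σ * (κ * s) * κ⁻¹ * σ⁻¹ := by group
        _ = σ * (r * κ) * κ⁻¹ * σ⁻¹ := by rw [hc]
        _ = _ := by group

theorem ord7 (t : A7) : orderOf t = (t : Perm (Fin 7)).cycleType.lcm := by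
  rw [lcm_cycleType, Subgroup.orderOf_coe]

theorem ty (t : A7) : (orderOf t = 2 → (t : Perm (Fin 7)).cycleType = {2, 2}) ∧
    (orderOf t = 5 → (t : Perm (Fin 7)).cycleType = {5}) ∧ (orderOf t = 7 → (t : Perm (Fin 7)).cycleType = {7}) := by
  rw [ord7]
  have l0 : ((0 : Multiset ℕ)).lcm = 1 := by decide
  have l3 : (({3} : Multiset ℕ)).lcm = 3 := by decide
  have l5 : (({5} : Multiset ℕ)).lcm = 5 := by decide
  have l7 : (({7} : Multiset ℕ)).lcm = 7 := by decide
  have l2 : (({2, 2} : Multiset ℕ)).lcm = 2 := by decide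
  have l33 : (({3, 3} : Multiset ℕ)).lcm = 3 := by decide
  have l4 : (({4, 2} : Multiset ℕ)).lcm = 4 := by decide
  have l6 : (({3, 2, 2} : Multiset ℕ)).lcm = 6 := by decide
  rcases Cfsg.Agent.H525.AltK.mem_types le_rfl t with h | h | h | h | h | h | h | h <;> rw [h] <;>
    refine ⟨fun h' => ?_, fun h' => ?_, fun h' => ?_⟩ <;> first | rfl | (exfalso; omega)

theorem cls2 {t : A7} (h : orderOf t = 2) : IsConj s2 t := by
  rcases conj7' (r := s2) (s := s2) (κ := swap 1 2) (g := t) (by rw [(ty t).1 h]; decide +kernel) (by decide +kernel)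
    (by decide +kernel) with h | h <;> exact h

theorem cls5 {t : A7} (h : orderOf t = 5) : IsConj a7 t := by
  rcases conj7' (r := a7) (s := a7) (κ := swap 5 6) (g := t) (by rw [(ty t).2.1 h]; decide +kernel) (by decide +kernel)
    (by decide +kernel) with h | h <;> exact h

theorem cls7 {t : A7} (h : orderOf t = 7) : IsConj (s2 * s3) t ∨ IsConj (s2 * s3)⁻¹ t :=
  conj7' (r := s2 * s3) (s := (s2 * s3)⁻¹) (κ := swap 2 3 * swap 6 1 * swap 4 5) (g := t)
    (by rw [(ty t).2.2 h]; decide +kernel) (by decide +kernel) (by decide +kernel)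

theorem s3_pow : s3 ^ 3 = 1 := by decide +kernel

section
variable {F : Type u} [Field F] {W : Type v} [AddCommGroup W] [Module F W]

theorem ev_isConj {G : Type*} [Group G] (ρ : Representation F G W) {x y : G} (h : IsConj x y) :
    ev (ρ y) 1 = ev (ρ x) 1 := by
  obtain ⟨c, rfl⟩ := isConj_iff.1 h
  exact Cfsg.Agent.H952.F4.TabLin.ev_conj ρ c x 1

theorem ev_inv {G : Type*} [Group G] (ρ : Representation F G W) (x : G) : ev (ρ x⁻¹) 1 = ev (ρ x) 1 := by
  have h : ∀ x : G, Module.End.eigenspace (ρ x) 1 ≤ Module.End.eigenspace (ρ x⁻¹) 1 := by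
    intro x v hv
    rw [Module.End.mem_eigenspace_iff, one_smul] at hv ⊢
    calc ρ x⁻¹ v = ρ x⁻¹ (ρ x v) := by rw [hv]
      _ = v := by rw [← Module.End.mul_apply, ← map_mul, inv_mul_cancel, map_one, Module.End.one_apply]
  unfold Cfsg.Agent.H952.F4.ev
  rw [le_antisymm (h x) (by have := h x⁻¹; rwa [inv_inv] at this)]

variable (F W) in
/-- the vectors fixed by `L₂(7)` -/
def FS (ρ : Representation F A7 W) : Submodule F W where
  carrier := {m | Fx ρ m}
  zero_mem' := ⟨map_zero _, map_zero _⟩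
  add_mem' := fun {a b} ha hb => ⟨by rw [map_add, ha.1, hb.1], by rw [map_add, ha.2, hb.2]⟩
  smul_mem' := fun c a ha => ⟨by rw [map_smul, ha.1], by rw [map_smul, ha.2]⟩

variable [FiniteDimensional F W]

/-- **Scott's lemma for the Hurwitz triple of `L₂(7)`** -/
theorem fx_ge (ρ : Representation F A7 W) {B : W →ₗ[F] W →ₗ[F] F} (hB : ∀ x, (∀ y, B x y = 0) → x = 0)
    (hG : ∀ g x y, B (ρ g x) (ρ g y) = B x y) :
    ev (ρ s2) 1 + ev (ρ s3) 1 + ev (ρ (s2 * s3)) 1 ≤ finrank F W + 2 * finrank F ↥(FS F W ρ) := by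
  set S : Subgroup A7 := Subgroup.closure {s2, s3} with hS
  have m2 : s2 ∈ S := Subgroup.subset_closure (by simp)
  have m3 : s3 ∈ S := Subgroup.subset_closure (by simp)
  let x : ↥S := ⟨s2, m2⟩
  let y : ↥S := ⟨s3, m3⟩
  have hgen : Subgroup.closure {x, y} = ⊤ := by
    have h1 : (Subgroup.closure {x, y}).map S.subtype = S := by
      rw [MonoidHom.map_closure, Set.image_pair]
      rfl
    rw [eq_top_iff]
    intro z _
    have h2 : (z : A7) ∈ (Subgroup.closure {x, y}).map S.subtype := by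
      rw [h1]
      exact z.2
    obtain ⟨z', hz', e⟩ := h2
    rwa [← Subtype.ext e]
  have h := Cfsg.Agent.H952.F4.Scott.scott_form (MonoidHom.comp ρ S.subtype : Representation F ↥S W) (x := x) (y := y)
    hgen B hB (fun g v w => hG g v w)
  have h1 : Representation.invariants (MonoidHom.comp ρ S.subtype : Representation F ↥S W) ≤ FS F W ρ := by
    intro v hv
    exact ⟨hv x, hv y⟩
  have h2 := Submodule.finrank_mono h1
  have h3 : ev ((MonoidHom.comp ρ S.subtype : Representation F ↥S W) x) 1 = ev (ρ s2) 1 := rfl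
  have h4 : ev ((MonoidHom.comp ρ S.subtype : Representation F ↥S W) y) 1 = ev (ρ s3) 1 := rfl
  have h5 : ev ((MonoidHom.comp ρ S.subtype : Representation F ↥S W) (x * y)) 1 = ev (ρ (s2 * s3)) 1 := rfl
  rw [h3, h4, h5] at h
  omega

/-- **the contradiction** -/
theorem final (h3 : (3 : F) = 0) {ρ : Representation F A7 W} (h0 : Representation.invariants ρ = ⊥)
    {B : W →ₗ[F] W →ₗ[F] F} (hB : ∀ x, (∀ y, B x y = 0) → x = 0)
    (hG : ∀ g x y, B (ρ g x) (ρ g y) = B x y)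
    (hF : 2 ≤ finrank F ↥(FS F W ρ)) : 24 + 24 + ev (ρ a7) 1 ≤ finrank F W := by
  have hn : Nontrivial ↥(FS F W ρ) := Module.nontrivial_of_finrank_pos (R := F) (by omega)
  obtain ⟨m, hm⟩ := exists_ne (0 : ↥(FS F W ρ))
  obtain ⟨m', hi⟩ := exists_linearIndependent_pair_of_one_lt_finrank (R := F) (M := ↥(FS F W ρ)) (by omega) hm
  refine count h3 h0 hB hG m.2 m'.2 ?_
  intro a b hab
  exact LinearIndependent.pair_iff.1 hi a b (Subtype.ext hab)

end

end Cfsg.Agent.R2.T1.N7.PB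
end
end

-- part: R2/T1/N6B/Sl
section
prune_inst 0x4064440062000000040586110020454400009200200000c82001460440e320090021003c80101200cea2846008004811000050424000000e000400011900a0808142022300a104240007800084000000000000000000000000000000000004000000000
set_option linter.all false
open scoped Cfsg.Agent.FastGrp

/-!
# S5929, box B: the covering group of `A₆` is `SL(2, 9)` (helper25)

* `Rel2` : Carmichael's relations for `2·A₆`; `Rel2.card` : they define a group of order 720;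
* `rel_sl` : generators of `SL(2, 9)` with these relations;
* `exists_sl` : in the cover case, the preimage of the image of `φ` is the image of `SL(2, 9)`.
-/

set_option autoImplicit false

namespace Cfsg.Agent.R2.T1.N6B

open Cfsg Cfsg.Lie Module Subgroup
open Cfsg.Agent.H943.E7V.Block (D1 rho)
open Cfsg.Agent.Lib.AltCarmichael
open Cfsg.Agent.R2.T1

universe u v w

section abs
variable {G : Type u} {H : Type v} [Group G] [Group H]

/-- the relations of the covering group `2·A₆` -/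
structure Rel2 (y : ℕ → G) (z : G) : Prop where
  comm : ∀ g, g * z = z * g
  sq : z * z = 1
  cube : ∀ i < 4, y i ^ 3 = 1
  prod : ∀ i < 4, ∀ j < 4, i ≠ j → (y i * y j) ^ 2 = z

theorem card_range_ker {A : Type*} {B : Type*} [Group A] [Group B] (f : A →* B) :
    Nat.card A = Nat.card f.ker * Nat.card f.range := by
  rw [← Subgroup.index_ker, Subgroup.card_mul_index]

theorem map_gen (f : G →* H) (y : ℕ → G) : (gen 4 y).map f = gen 4 fun i => f (y i) := by
  rw [gen_def, gen_def, MonoidHom.map_closure]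
  congr 1
  ext g
  constructor
  · rintro ⟨_, ⟨i, hi, rfl⟩, rfl⟩
    exact ⟨i, hi, rfl⟩
  · rintro ⟨i, hi, rfl⟩
    exact ⟨_, ⟨i, hi, rfl⟩, rfl⟩

theorem Rel2.mem {y : ℕ → G} {z : G} (h : Rel2 y z) : z ∈ gen 4 y := by
  rw [← h.prod 0 (by norm_num) 1 (by norm_num) (by norm_num)]
  exact pow_mem (mul_mem (mem_gen (by norm_num)) (mem_gen (by norm_num))) 2

theorem Rel2.card {y : ℕ → G} {z : G} (h : Rel2 y z) (hz : z ≠ 1) : Nat.card (gen 4 y) = 720 := by
  have hc : z ∈ center G := Subgroup.mem_center_iff.2 h.comm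
  have hN : (zpowers z).Normal := ⟨fun a ha g => by
    have h1 : a ∈ center G := (zpowers_le.2 hc) ha
    rw [Subgroup.mem_center_iff.1 h1 g, mul_inv_cancel_right]
    exact ha⟩
  have hcard : Nat.card (zpowers z) = 2 := by
    rw [Nat.card_zpowers]
    exact orderOf_eq_prime (by rw [pow_two, h.sq]) hz
  have hsq : ∀ w ∈ zpowers z, w ^ 2 = 1 := by
    rintro w ⟨k, rfl⟩
    show (z ^ k) ^ 2 = 1
    rw [← zpow_natCast, ← zpow_mul, mul_comm, zpow_mul, zpow_natCast, pow_two, h.sq, one_zpow]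
  set q := QuotientGroup.mk' (zpowers z) with hq
  have hqz : q z = 1 := (QuotientGroup.eq_one_iff z).2 (mem_zpowers z)
  have hrel : Rel 4 fun i => q (y i) := by
    refine ⟨fun i hi => ?_, fun i hi j hj hij => ?_⟩
    · rw [← map_pow, h.cube i hi, map_one]
    · rw [← map_mul, ← map_pow, h.prod i hi j hj hij, hqz]
  have hne : ∃ i < 4, q (y i) ≠ 1 := by
    by_contra hall
    push Not at hall
    have h1 : q (y 0 * y 1) = 1 := by rw [map_mul, hall 0 (by norm_num), hall 1 (by norm_num), mul_one]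
    have h2 := hsq _ ((QuotientGroup.eq_one_iff _).1 h1)
    rw [h.prod 0 (by norm_num) 1 (by norm_num) (by norm_num)] at h2
    exact hz h2
  obtain ⟨e⟩ := nonempty_gen_equiv (by norm_num) hrel hne
  have hA : Nat.card ↥(alternatingGroup (Fin (4 + 2))) = 360 := by
    rw [nat_card_alternatingGroup, Nat.card_eq_fintype_card, Fintype.card_fin]
    rfl
  have h3 : Nat.card (gen 4 fun i => q (y i)) = 360 := by rw [Nat.card_congr e.toEquiv, hA]
  set D := gen 4 y with hD
  have h4 := card_range_ker (q.comp D.subtype)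
  have h5 : (q.comp D.subtype).range = gen 4 fun i => q (y i) := by
    rw [MonoidHom.range_comp, range_subtype, hD, map_gen]
  have h6 : (q.comp D.subtype).ker = (zpowers z).subgroupOf D := by
    ext g
    rw [MonoidHom.mem_ker, mem_subgroupOf]
    exact QuotientGroup.eq_one_iff _
  have h7 : Nat.card ((zpowers z).subgroupOf D) = 2 := by
    rw [← hcard]
    exact Nat.card_congr (subgroupOfEquivOfLe (by rw [zpowers_le]; exact h.mem)).toEquiv
  rw [h4, h5, h6, h3, h7]

theorem Rel2.prod_rel {y : ℕ → G} {z : G} {y' : ℕ → H} {z' : H} (h : Rel2 y z) (h' : Rel2 y' z') :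
    Rel2 (fun i => (y i, y' i)) (z, z') where
  comm _ := Prod.ext (h.comm _) (h'.comm _)
  sq := Prod.ext h.sq h'.sq
  cube i hi := Prod.ext (h.cube i hi) (h'.cube i hi)
  prod i hi j hj hij := Prod.ext (h.prod i hi j hj hij) (h'.prod i hi j hj hij)

theorem inj_of_card {A : Type*} {B : Type*} [Group A] [Group B] (f : A →* B) (h : Nat.card f.range = Nat.card A)
    (h0 : Nat.card A ≠ 0) : Function.Injective f := by
  rw [← MonoidHom.ker_eq_bot_iff]
  have h1 := card_range_ker f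
  rw [h] at h1
  have h2 : Nat.card f.ker = 1 := by
    have h3 : Nat.card f.ker * Nat.card A = 1 * Nat.card A := by rw [← h1, one_mul]
    exact Nat.eq_of_mul_eq_mul_right (Nat.pos_of_ne_zero h0) h3
  exact eq_bot_of_card_eq _ h2

/-- two groups with these relations -/
theorem Rel2.exists_hom {y : ℕ → G} {z : G} {y' : ℕ → H} {z' : H} (h : Rel2 y z) (h' : Rel2 y' z') (hz : z ≠ 1)
    (hz' : z' ≠ 1) (ht : gen 4 y = ⊤) :
    ∃ σ : G →* H, Function.Injective σ ∧ σ z = z' ∧ (∀ i < 4, σ (y i) = y' i) ∧ σ.range = gen 4 y' := by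
  have hp := h.prod_rel h'
  set D := gen 4 (fun i => (y i, y' i)) with hD
  have hcD : Nat.card D = 720 := hp.card fun h1 => hz (congrArg Prod.fst h1)
  have hcG : Nat.card G = 720 := by
    rw [← h.card hz, ht]
    exact (Nat.card_congr topEquiv.toEquiv).symm
  have hcH : Nat.card (gen 4 y') = 720 := h'.card hz'
  set p1 : D →* G := (MonoidHom.fst G H).comp D.subtype with hp1
  set p2 : D →* H := (MonoidHom.snd G H).comp D.subtype with hp2
  have hr1 : p1.range = ⊤ := by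
    rw [hp1, MonoidHom.range_comp, range_subtype, hD, map_gen, ← ht]
    rfl
  have hr2 : p2.range = gen 4 y' := by
    rw [hp2, MonoidHom.range_comp, range_subtype, hD, map_gen]
    rfl
  have hi1 : Function.Injective p1 := by
    refine inj_of_card p1 ?_ (by rw [hcD]; norm_num)
    rw [hr1, hcD, ← hcG]
    exact Nat.card_congr topEquiv.toEquiv
  have hs1 : Function.Surjective p1 := MonoidHom.range_eq_top.1 hr1
  set e : D ≃* G := MulEquiv.ofBijective p1 ⟨hi1, hs1⟩ with he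
  have hes : ∀ d : D, e.symm (p1 d) = d := fun d => e.symm_apply_apply d
  refine ⟨p2.comp e.symm.toMonoidHom, ?_, ?_, fun i hi => ?_, ?_⟩
  · rw [MonoidHom.coe_comp]
    refine (inj_of_card p2 (by rw [hr2, hcH, hcD]) (by rw [hcD]; norm_num)).comp e.symm.injective
  · have h1 := hes ⟨(z, z'), hp.mem⟩
    show p2 (e.symm z) = z'
    have h2 : p1 ⟨(z, z'), hp.mem⟩ = z := rfl
    rw [h2] at h1
    rw [h1]
    rfl
  · have hm : (y i, y' i) ∈ D := mem_gen (x := fun i => (y i, y' i)) hi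
    have h1 := hes ⟨(y i, y' i), hm⟩
    show p2 (e.symm (y i)) = y' i
    have h2 : p1 ⟨(y i, y' i), hm⟩ = y i := rfl
    rw [h2] at h1
    rw [h1]
    rfl
  · rw [MonoidHom.range_comp, ← hr2]
    have h1 : (e.symm.toMonoidHom).range = ⊤ := MonoidHom.range_eq_top.2 e.symm.surjective
    rw [h1, ← MonoidHom.range_eq_map]

end abs

section sl
variable {E : Type u} [Field E]

local notation "SL2" => Matrix.SpecialLinearGroup (Fin 2) E

theorem sq_of_trace {A : SL2} (h : A.1 0 0 + A.1 1 1 = 0) : A ^ 2 = -1 := by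
  have hd : A.1 0 0 * A.1 1 1 - A.1 0 1 * A.1 1 0 = 1 := by rw [← Matrix.det_fin_two]; exact A.2
  apply Subtype.ext
  rw [pow_two, Matrix.SpecialLinearGroup.coe_mul, Matrix.SpecialLinearGroup.coe_neg, Matrix.SpecialLinearGroup.coe_one]
  ext i j
  fin_cases i <;> fin_cases j
  · simp [Matrix.mul_apply, Fin.sum_univ_two]
    linear_combination (A.1 0 0) * h - hd
  · simp [Matrix.mul_apply, Fin.sum_univ_two]
    linear_combination (A.1 0 1) * h
  · simp [Matrix.mul_apply, Fin.sum_univ_two]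
    linear_combination (A.1 1 0) * h
  · simp [Matrix.mul_apply, Fin.sum_univ_two]
    linear_combination (A.1 1 1) * h - hd

theorem cube_of_trace (h3 : (3 : E) = 0) {A : SL2} (h : A.1 0 0 + A.1 1 1 = 2) : A ^ 3 = 1 := by
  have hd : A.1 0 0 * A.1 1 1 - A.1 0 1 * A.1 1 0 = 1 := by rw [← Matrix.det_fin_two]; exact A.2
  apply Subtype.ext
  rw [pow_succ, pow_two, Matrix.SpecialLinearGroup.coe_mul, Matrix.SpecialLinearGroup.coe_mul,
    Matrix.SpecialLinearGroup.coe_one]
  have hd1 : A.1 1 1 = 2 - A.1 0 0 := by linear_combination h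
  have hbc : A.1 0 1 * A.1 1 0 = A.1 0 0 * (2 - A.1 0 0) - 1 := by rw [← hd1]; linear_combination -hd
  ext i j
  fin_cases i <;> fin_cases j
  · simp [Matrix.mul_apply, Fin.sum_univ_two]
    rw [hd1]
    linear_combination (A.1 0 0 + 2) * hbc + (A.1 0 0 - 1) * h3
  · simp [Matrix.mul_apply, Fin.sum_univ_two]
    rw [hd1]
    linear_combination (A.1 0 1) * hbc + (A.1 0 1) * h3
  · simp [Matrix.mul_apply, Fin.sum_univ_two]
    rw [hd1]
    linear_combination (A.1 1 0) * hbc + (A.1 1 0) * h3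
  · simp [Matrix.mul_apply, Fin.sum_univ_two]
    rw [hd1]
    linear_combination (4 - A.1 0 0) * hbc + (1 - A.1 0 0) * h3

/-- the matrices of the generators -/
def gM (t : E) (n : ℕ) : Matrix (Fin 2) (Fin 2) E :=
  if n = 0 then !![1, 1; 0, 1] else if n = 1 then !![1, 0; 1, 1] else if n = 2 then !![1 - t, 1; 1, 1 + t] else
    !![1 + t, 1; 1, 1 - t]

theorem gM_det {t : E} (ht : t * t = -1) (n : ℕ) : (gM t n).det = 1 := by
  unfold gM
  split_ifs
  · rw [Matrix.det_fin_two_of]; ring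
  · rw [Matrix.det_fin_two_of]; ring
  · rw [Matrix.det_fin_two_of]; linear_combination -ht
  · rw [Matrix.det_fin_two_of]; linear_combination -ht

/-- the generators -/
def gX (t : E) (ht : t * t = -1) (n : ℕ) : SL2 := ⟨gM t n, gM_det ht n⟩

/-- the trace of a product -/
def tp (A B : Matrix (Fin 2) (Fin 2) E) : E :=
  A 0 0 * B 0 0 + A 0 1 * B 1 0 + (A 1 0 * B 0 1 + A 1 1 * B 1 1)

theorem tp_of (a b c d a' b' c' d' : E) : tp !![a, b; c, d] !![a', b'; c', d'] = a * a' + b * c' + (c * b' + d * d') := rfl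

theorem tp_gM (h3 : (3 : E) = 0) {t : E} (ht : t * t = -1) {i j : ℕ} (hi : i < 4) (hj : j < 4) (hij : i ≠ j) :
    tp (gM t i) (gM t j) = 0 := by
  have e0 : gM t 0 = !![1, 1; 0, 1] := rfl
  have e1 : gM t 1 = !![1, 0; 1, 1] := rfl
  have e2 : gM t 2 = !![1 - t, 1; 1, 1 + t] := rfl
  have e3 : gM t 3 = !![1 + t, 1; 1, 1 - t] := rfl
  have hc : ∀ a : ℕ, a < 4 → a = 0 ∨ a = 1 ∨ a = 2 ∨ a = 3 := fun a ha => by omega
  rcases hc i hi with rfl | rfl | rfl | rfl <;> rcases hc j hj with rfl | rfl | rfl | rfl <;>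
    first
    | exact absurd rfl hij
    | (simp only [e0, e1, e2, e3, tp_of]; first | linear_combination h3 | linear_combination 2 * h3 - 2 * ht)

theorem tr_gM {t : E} {i : ℕ} : (gM t i) 0 0 + (gM t i) 1 1 = 2 := by
  unfold gM
  split_ifs
  · show (1 : E) + 1 = 2; norm_num
  · show (1 : E) + 1 = 2; norm_num
  · show (1 - t : E) + (1 + t) = 2; ring
  · show (1 + t : E) + (1 - t) = 2; ring

theorem tr_mul (A B : SL2) : (A * B).1 0 0 + (A * B).1 1 1 = tp A.1 B.1 := by
  rw [show (A * B).1 = A.1 * B.1 from Matrix.SpecialLinearGroup.coe_mul A B, Matrix.mul_apply, Matrix.mul_apply,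
    Fin.sum_univ_two, Fin.sum_univ_two]
  rfl

theorem rel_sl (h3 : (3 : E) = 0) {t : E} (ht : t * t = -1) : Rel2 (gX t ht) (-1 : SL2) where
  comm g := by rw [mul_neg, mul_one, neg_mul, one_mul]
  sq := by rw [neg_mul_neg, mul_one]
  cube i _ := cube_of_trace h3 tr_gM
  prod i hi j hj hij := sq_of_trace ((tr_mul _ _).trans (tp_gM h3 ht hi hj hij))

variable [Fintype E]

theorem three_eq (h9 : Fintype.card E = 9) : (3 : E) = 0 := by
  have h1 : ((Fintype.card E : ℕ) : E) = 0 := Nat.cast_card_eq_zero E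
  rw [h9] at h1
  have h2 : (3 : E) * 3 = 0 := by
    have h3 : ((9 : ℕ) : E) = 3 * 3 := by norm_num
    rw [← h3, h1]
  rcases mul_eq_zero.1 h2 with h | h <;> exact h

theorem exists_i (h9 : Fintype.card E = 9) : ∃ t : E, t * t = -1 := by
  have h1 : IsSquare (-1 : E) := FiniteField.isSquare_neg_one_iff.2 (by rw [h9]; norm_num)
  obtain ⟨t, ht⟩ := h1
  exact ⟨t, ht.symm⟩

theorem neg_ne (h9 : Fintype.card E = 9) : (-1 : SL2) ≠ 1 := by
  intro h
  have h1 := congrArg (fun A : SL2 => A.1 0 0) h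
  have h2 : (-1 : E) = 1 := by
    have e1 : ((-1 : SL2) : Matrix (Fin 2) (Fin 2) E) 0 0 = -1 := by
      rw [Matrix.SpecialLinearGroup.coe_neg, Matrix.SpecialLinearGroup.coe_one]
      simp
    have e2 : ((1 : SL2) : Matrix (Fin 2) (Fin 2) E) 0 0 = 1 := by
      rw [Matrix.SpecialLinearGroup.coe_one]
      simp
    exact e1.symm.trans (h1.trans e2)
  have h3 := three_eq h9
  have h4 : (1 : E) = 0 := by linear_combination h3 + h2
  exact one_ne_zero h4

theorem card_SL2 (h9 : Fintype.card E = 9) : Nat.card SL2 = 720 := by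
  have h1 := Cfsg.Agent.S0242.result (F := E) h9 2 (by norm_num)
  rw [Fin.prod_univ_two] at h1
  simp only [Fin.val_zero, Fin.val_one, pow_zero, pow_one] at h1
  omega

theorem gen_top (h9 : Fintype.card E = 9) {t : E} (ht : t * t = -1) : gen 4 (gX t ht) = ⊤ := by
  have h1 := (rel_sl (three_eq h9) ht).card (neg_ne h9)
  have : Finite SL2 := inferInstance
  exact eq_top_of_card_eq _ (by rw [h1, card_SL2 h9])

end sl

section main
variable {F : Type u} [Field F]

theorem range_eq {m : ℕ} (hm : 1 ≤ m) (φ : ↥(alternatingGroup (Fin (m + 2))) →* ↥(chevE7.group F)) {g : ↥(chevE7.group F)}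
    (hg : g ∈ φ.range) {S : Subgroup ↥(chevE7.group F)} (hS : ∀ (i : ℕ) (hi : i < m), φ ⟨cyc m i, cyc_mem m i hi⟩ ∈ S) :
    g ∈ S := by
  obtain ⟨a, rfl⟩ := hg
  have h2 := gen_cyc m hm
  obtain ⟨t, ht⟩ := a
  have ht' := ht
  rw [← h2, gen_def] at ht'
  have hle : Subgroup.closure {g | ∃ i < m, g = cyc m i} ≤ alternatingGroup (Fin (m + 2)) := by
    rw [← gen_def, h2]
  suffices h3 : ∀ t (ht : t ∈ Subgroup.closure {g | ∃ i < m, g = cyc m i}), φ ⟨t, hle ht⟩ ∈ S from h3 t ht'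
  intro t ht
  induction ht using Subgroup.closure_induction with
  | mem u hu =>
    obtain ⟨i, hi, rfl⟩ := hu
    exact hS i hi
  | one =>
    have : (⟨1, hle (one_mem _)⟩ : ↥(alternatingGroup (Fin (m + 2)))) = 1 := rfl
    rw [this, map_one]
    exact one_mem _
  | mul u v hu hv ihu ihv =>
    have : (⟨u * v, hle (mul_mem hu hv)⟩ : ↥(alternatingGroup (Fin (m + 2)))) = ⟨u, hle hu⟩ * ⟨v, hle hv⟩ := rfl
    rw [this, map_mul]
    exact mul_mem ihu ihv
  | inv u hu ihu =>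
    have : (⟨u⁻¹, hle (inv_mem hu)⟩ : ↥(alternatingGroup (Fin (m + 2)))) = (⟨u, hle hu⟩)⁻¹ := rfl
    rw [this, map_inv]
    exact inv_mem ihu

theorem exists_sl_aux {E : Type v} [Field E] [Fintype E] (h9 : Fintype.card E = 9) {m : ℕ} (hm : m = 4)
    {φ : ↥(alternatingGroup (Fin (m + 2))) →* ↥(chevE7.group F)} (hφ : Function.Injective φ) (hc : Cover φ) :
    ∃ σ : Matrix.SpecialLinearGroup (Fin 2) E →* Gh F, Function.Injective σ ∧ V F (σ (-1)) = -1 ∧
      σ.range = φ.range.comap (ad F) := by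
  obtain ⟨t, ht⟩ := exists_i h9
  obtain ⟨z, hz1, hzn, hz, -⟩ := id hc
  have hzV : V F z = -1 := neg_of hzn
  have hrel := rel_cyc m
  -- the lifts of order 3
  have hex : ∀ i : ℕ, ∃ y : Gh F, y ^ 3 = 1 ∧ ∀ hi : i < m, ad F y = φ ⟨cyc m i, cyc_mem m i hi⟩ := by
    intro i
    by_cases hi : i < m
    · obtain ⟨y, hy, hy3⟩ := odd_lift (g := φ ⟨cyc m i, cyc_mem m i hi⟩) (k := 3) (by decide) (by
        rw [← map_pow]
        have : (⟨cyc m i, cyc_mem m i hi⟩ : ↥(alternatingGroup (Fin (m + 2)))) ^ 3 = 1 :=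
          Subtype.ext (hrel.cube i hi)
        rw [this, map_one])
      exact ⟨y, hy3, fun _ => hy⟩
    · exact ⟨1, one_pow 3, fun h => absurd h hi⟩
  choose y hy3 hy using hex
  have hR : Rel2 y z := by
    refine ⟨ker_comm hz, ker_sq hz, fun i _ => hy3 i, fun i hi j hj hij => ?_⟩
    rw [← hm] at hi hj
    have h1 : ad F (y i * y j) = φ (⟨cyc m i, cyc_mem m i hi⟩ * ⟨cyc m j, cyc_mem m j hj⟩) := by
      rw [map_mul, hy i hi, hy j hj, map_mul]
    have h2 := fun h => hc.sq (by omega) hφ h h1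
    replace h2 := h2 (by rw [Subgroup.coe_mul]; exact cyc_mul hi hj hij)
    rw [pow_two]
    exact V_injective (h2.trans hzV.symm)
  obtain ⟨σ, h1, h2, h3, h4⟩ := (rel_sl (three_eq h9) ht).exists_hom hR (neg_ne h9) hz1 (gen_top h9 ht)
  refine ⟨σ, h1, by rw [h2, hzV], ?_⟩
  rw [h4]
  apply le_antisymm
  · rw [gen_def, closure_le]
    rintro _ ⟨i, hi, rfl⟩
    rw [← hm] at hi
    exact ⟨_, (hy i hi).symm⟩
  · intro g hg
    have h5 : ad F g ∈ (gen 4 y).map (ad F) := by
      refine range_eq (by omega) φ hg fun i hi => ?_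
      rw [← hy i hi]
      exact mem_map_of_mem _ (mem_gen (by omega))
    obtain ⟨k, hk, hkg⟩ := h5
    have h6 : ad F (k⁻¹ * g) = 1 := by rw [map_mul, map_inv, hkg, inv_mul_cancel]
    have h7 : g = k * (k⁻¹ * g) := (mul_inv_cancel_left _ _).symm
    rw [h7]
    rcases ker_cases hzV h6 with h8 | h8
    · rw [h8, mul_one]; exact hk
    · rw [h8]; exact mul_mem hk hR.mem

/-- **the preimage is `SL(2, 9)`** -/
theorem exists_sl {F9 : Type v} [Field F9] [Fintype F9] (h9 : Fintype.card F9 = 9)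
    {φ : ↥(alternatingGroup (Fin 6)) →* ↥(chevE7.group F)} (hφ : Function.Injective φ) (hc : Cover φ) :
    ∃ σ : Matrix.SpecialLinearGroup (Fin 2) F9 →* Gh F, Function.Injective σ ∧ V F (σ (-1)) = -1 ∧
      σ.range = φ.range.comap (ad F) :=
  exists_sl_aux h9 (m := 4) rfl hφ hc

end main

end Cfsg.Agent.R2.T1.N6B
end

-- part: R2/T1/N6C/Num
section
set_option linter.all false
open scoped Cfsg.Agent.FastGrp

-- part: R2/T1/N6C/Ker
section
/-!
# S5929, `n = 6`, `p = 3`, box C2: the kernel of `DD e` (helper14)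

* `ker_small` : a vector which is not pure is conjugate to a vector `e` such that an element of `{f | DD e f = 0}` is
  determined by 12 coordinates;
* `ker_pure` : the same with 28 coordinates for a pure vector.
-/

set_option autoImplicit false
set_option maxRecDepth 100000

namespace Cfsg.Agent.R2.T1.N6C

open Cfsg Cfsg.Lie Matrix
open Cfsg.Agent.ChevalleyStructure.RootVec
open Cfsg.Agent.ChevalleyStructure.StEmbed
open Cfsg.Agent.R2.T1 Cfsg.Agent.R2.PX
open Cfsg.Agent.H943.E7V.Block (D1 rho)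

universe u
variable {F : Type u} [Field F]

/-! ### a generic linear order on the weights -/

/-- base 7 expansion -/
def odl (l : List ℤ) : ℤ := l.foldr (fun x s => x + 7 * s) 0

theorem odl_zip : ∀ {l m : List ℤ}, l.length = m.length → odl (List.zipWith (fun x y => x + y) l m) = odl l + odl m
  | [], [], _ => by simp [odl]
  | a :: l, [], h => by simp at h
  | [], b :: m, h => by simp at h
  | a :: l, b :: m, h => by
    have ih := odl_zip (l := l) (m := m) (by simpa using h)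
    unfold odl at ih ⊢
    rw [List.zipWith_cons_cons, List.foldr_cons, List.foldr_cons, List.foldr_cons, ih]
    ring

/-- a generic linear functional on the weights -/
def od (a : D1) : ℤ := odl (Comb.ent (nn a)).2.1

theorem CT_len8 : Comb.CT.all (fun e => Nat.beq e.2.1.length 8) = true := by decide +kernel

theorem ent_len (a : D1) : (Comb.ent (nn a)).2.1.length = 8 :=
  Nat.eq_of_beq_eq_true (List.all_eq_true.1 CT_len8 _ (Comb.ent_nn a).1)

theorem od_add {r : ℕ} (hr : r < 126) {a b : D1} {c : ℤ} (h : mv r (nn b) = some (nn a, c)) :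
    od a = od b + odl ((List.range 8).map fun i => rt chevE8 (ι78 r) i) := by
  unfold od
  rw [(Comb.row_spec hr h).1, odl_zip]
  rw [ent_len, List.length_map, List.length_range]

private noncomputable def _root_.Cfsg.Agent.LsF.f53de7c_0 : {f // @Cfsg.Agent.R2.T1.N6C.odl = f} := ⟨_, by first | (delta Cfsg.Agent.R2.T1.N6C.odl; rewrite [Cfsg.Agent.LsF.iadd_pat, Cfsg.Agent.LsF.imul_pat, Cfsg.Agent.LsF.foldr_eq]; exact rfl) | exact rfl⟩
theorem CT_nodup : (Comb.CT.map fun e => odl e.2.1).Nodup := by (refine of_decide_eq_true ?_; (try (rewrite [Cfsg.Agent.LsF.f53de7c_0.2, Cfsg.Agent.LsF.map_eq, Cfsg.Agent.LsF.instIDecEq_eq, Cfsg.Agent.LsF.dNodup_eq, Cfsg.Agent.LsF.decide_eq])); decide +kernel)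

theorem od_inj {a b : D1} (h : od a = od b) : a = b := by
  have h1 := List.inj_on_of_nodup_map CT_nodup (Comb.ent_nn a).1 (Comb.ent_nn b).1 h
  apply nn_inj
  rw [← (Comb.ent_nn a).2, ← (Comb.ent_nn b).2, h1]

theorem CT_op : Comb.CT.all (fun e => odl e.2.1 + odl (Comb.ent e.2.2.2.1).2.1 == odl [2, 3, 4, 6, 5, 4, 3, 2]) = true := by
  decide +kernel

theorem od_op (a : D1) : od a + od (op a) = odl [2, 3, 4, 6, 5, 4, 3, 2] := by
  have h1 := beq_iff_eq.1 (List.all_eq_true.1 CT_op _ (Comb.ent_nn a).1)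
  rw [Comb.op_mem (Comb.ent_nn a).1 (Comb.ent_nn a).2] at h1
  exact h1

/-! ### numbers of weights -/

theorem card_le_of (P : D1 → Prop) [DecidablePred P] (l : List (ℕ × List ℤ × List ℤ × ℕ × List ℕ))
    (h : ∀ a, P a → Comb.ent (nn a) ∈ l) : (Finset.univ.filter P).card ≤ l.length := by
  classical
  calc (Finset.univ.filter P).card = ((Finset.univ.filter P).image fun a => Comb.ent (nn a)).card := by
        rw [Finset.card_image_of_injective]
        intro a b hab
        apply nn_inj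
        rw [← (Comb.ent_nn a).2, ← (Comb.ent_nn b).2]
        exact congrArg Prod.fst hab
    _ ≤ l.toFinset.card := by
        apply Finset.card_le_card
        intro x hx
        obtain ⟨a, ha, rfl⟩ := Finset.mem_image.1 hx
        rw [List.mem_toFinset]
        exact h a (Finset.mem_filter.1 ha).2
    _ ≤ l.length := List.toFinset_card_le l

private noncomputable def _root_.Cfsg.Agent.LsF.f53de7c_1 : {f // @Cfsg.Agent.R2.PX.Comb.dot = f} := ⟨_, by first | (delta Cfsg.Agent.R2.PX.Comb.dot; rewrite [Cfsg.Agent.LsF.imul_pat, Cfsg.Agent.LsF.zipWith_eq, Cfsg.Agent.LsF.sum_eq, Cfsg.Agent.LsF.instIAdd_eq]; exact rfl) | exact rfl⟩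
private noncomputable def _root_.Cfsg.Agent.LsF.f53de7c_2 : {f // @Cfsg.Agent.R2.PX.Comb.vv = f} := ⟨_, by first | (delta Cfsg.Agent.R2.PX.Comb.vv; rewrite [Cfsg.Agent.LsF.f53de7c_1.2, Cfsg.Agent.LsF.imul_pat, Cfsg.Agent.LsF.isub_pat]; exact rfl) | exact rfl⟩
theorem chkN28 : Comb.CT.all (fun m => Nat.ble (Comb.CT.filter fun n => Comb.vv n m == 1 || Comb.vv n m == 3).length 28) = true := by
  ((try (rewrite [Cfsg.Agent.LsF.f53de7c_2.2, Cfsg.Agent.LsF.ibeq_pat, Cfsg.Agent.LsF.or_eq, Cfsg.Agent.LsF.all_eq, Cfsg.Agent.LsF.filter_eq, Cfsg.Agent.LsF.length_eq])); decide +kernel)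

theorem card28 (m : D1) : (Finset.univ.filter fun n : D1 => p2 n m = 1 ∨ p2 n m = 3).card ≤ 28 := by
  refine (card_le_of _ (Comb.CT.filter fun n => Comb.vv n (Comb.ent (nn m)) == 1 || Comb.vv n (Comb.ent (nn m)) == 3)
    fun a ha => ?_).trans (Nat.le_of_ble_eq_true (List.all_eq_true.1 chkN28 _ (Comb.ent_nn m).1))
  rw [List.mem_filter, Bool.or_eq_true, beq_iff_eq, beq_iff_eq, ← Comb.p2_vv]
  exact ⟨(Comb.ent_nn a).1, ha⟩

theorem chkN11 : Comb.CT.all (fun m => Comb.CT.all fun b => !(Comb.vv b m == -1) ||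
    Nat.ble (Comb.CT.filter fun n => Comb.vv n m == 1 && !(Comb.vv n b == -1)).length 11) = true := by
  ((try (rewrite [Cfsg.Agent.LsF.f53de7c_2.2, Cfsg.Agent.LsF.ineg_pat, Cfsg.Agent.LsF.ibeq_pat, Cfsg.Agent.LsF.and_eq, Cfsg.Agent.LsF.or_eq, Cfsg.Agent.LsF.not_eq, Cfsg.Agent.LsF.all_eq, Cfsg.Agent.LsF.filter_eq, Cfsg.Agent.LsF.length_eq])); decide +kernel)

theorem card11 {m b : D1} (hb : p2 b m = -1) : (Finset.univ.filter fun n : D1 => p2 n m = 1 ∧ ¬ p2 n b = -1).card ≤ 11 := by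
  have h1 := List.all_eq_true.1 (List.all_eq_true.1 chkN11 _ (Comb.ent_nn m).1) _ (Comb.ent_nn b).1
  rw [← Comb.p2_vv, hb, beq_self_eq_true, Bool.not_true, Bool.false_or] at h1
  refine (card_le_of _ (Comb.CT.filter fun n => Comb.vv n (Comb.ent (nn m)) == 1 && !(Comb.vv n (Comb.ent (nn b)) == -1))
    fun a ha => ?_).trans (Nat.le_of_ble_eq_true h1)
  rw [List.mem_filter, Bool.and_eq_true, beq_iff_eq, Bool.not_eq_true', beq_eq_false_iff_ne, ← Comb.p2_vv, ← Comb.p2_vv]
  exact ⟨(Comb.ent_nn a).1, ha⟩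

/-! ### the equations -/

/-- the equation of a root -/
theorem sf_zero (h2 : (2 : F) ≠ 0) {e f : D1 → F} (h : DD F e f = 0) {r : ℕ} (hr : r < 126) {a b : D1} {c : ℤ}
    (hm : mv r (nn b) = some (nn a, c)) : sf F (NM F r *ᵥ e) f = 0 := by
  obtain ⟨a', c', h3, h4, -, h5⟩ := (mv_spec hr b).resolve_left (by rw [hm]; simp)
  have hr' : 125 - r < 126 := by omega
  have e1 := Tr.DD_entry (F := F) hr' h5 e f
  rw [h, Matrix.zero_apply, sub_sub_r hr] at e1
  exact (mul_eq_zero.1 ((mul_eq_zero.1 e1.symm).resolve_left (neg_ne_zero.2 h2))).resolve_right (cast_ne h4)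

/-- the equation of a root with only one non-zero term -/
theorem one_term {e f : D1 → F} {r : ℕ} (hr : r < 126) {a b : D1} {c : ℤ} (hm : mv r (nn b) = some (nn a, c)) (hc : c * c = 1)
    (h : sf F (NM F r *ᵥ e) f = 0) (hb : e b ≠ 0)
    (ho : ∀ (a' b' : D1) (c' : ℤ), mv r (nn b') = some (nn a', c') → e b' ≠ 0 → b' ≠ b → f (op a') = 0) : f (op a) = 0 := by
  rw [sf_sum, Finset.sum_eq_single a] at h
  · rw [NM_mulVec hr hm] at h
    exact (mul_eq_zero.1 ((mul_eq_zero.1 h).resolve_left (mul_ne_zero (cast_ne hc) hb))).resolve_left (cast_ne (ep_sq a))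
  · intro a' _ ha
    by_contra hne
    obtain ⟨b', c', h4, h5⟩ := NM_mulVec_ne (left_ne_zero_of_mul hne)
    have h6 : b' ≠ b := by
      rintro rfl
      rw [hm, Option.some.injEq, Prod.mk.injEq] at h4
      exact ha (nn_inj h4.1).symm
    apply hne
    rw [ho a' b' c' h4 h5 h6, mul_zero, mul_zero]
  · intro h1
    exact absurd (Finset.mem_univ _) h1

/-- degrees -/
theorem pr_of {r : ℕ} (hr : r < 126) {a b m : D1} {c : ℤ} (h : mv r (nn b) = some (nn a, c)) {a' b' : D1} {c' : ℤ}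
    (h' : mv r (nn b') = some (nn a', c')) : p2 a' m - p2 b' m = p2 a m - p2 b m := by
  have h1 := p2_add hr h m
  have h3 := p2_add hr h' m
  omega

/-- the coordinates at the weights of degree 1 and at `m` suffice -/
theorem ker_deg (h2 : (2 : F) ≠ 0) {m : D1} {e f : D1 → F} (hem : e m ≠ 0) (hn : ∀ n, p2 n m = 1 → e n = 0)
    (h : DD F e f = 0) (hfm : f m = 0) (hf1 : ∀ n, p2 n m = 1 → f n = 0) : f = 0 := by
  have hf2 : ∀ n, p2 n m = -1 → f n = 0 := by
    intro n hn'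
    obtain ⟨r, hr, c, hm, hc⟩ := exists_mv (a := op n) (b := m) (by rw [p2_op, hn']; rfl)
    have h3 := one_term hr hm hc (sf_zero h2 h hr hm) hem (fun a' b' c' h4 h5 h6 => ?_)
    · rwa [op_op] at h3
    · have h7 := pr_of hr (m := m) hm h4
      rw [p2_op, hn', p2_self] at h7
      rcases p2_cases b' m with h8 | h8 | h8 | h8
      · exact absurd (p2_eq_three.1 h8) h6
      · exact absurd (hn b' h8) h5
      · have h9 : p2 m a' = -3 := by rw [p2_comm]; omega
        rw [p2_eq_neg_three.1 h9, op_op]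
        exact hfm
      · rcases p2_cases a' m with h9 | h9 | h9 | h9 <;> omega
  have hf3 : f (op m) = 0 := by
    obtain ⟨c, hc⟩ := Mu.exists_nb m
    have e1 := Tr.DD_diag (F := F) e f c
    rw [h, Matrix.zero_apply, Finset.sum_eq_single m] at e1
    · rw [hc] at e1
      push_cast at e1
      have h6 : (e m * (ep m : F)) * f (op m) = 0 := by linear_combination e1
      exact (mul_eq_zero.1 h6).resolve_left (mul_ne_zero hem (cast_ne (ep_sq m)))
    · intro a _ ha
      rcases p2_cases a m with h8 | h8 | h8 | h8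
      · exact absurd (p2_eq_three.1 h8) ha
      · rw [hn a h8]; ring
      · rw [hf1 (op a) (by rw [p2_op, h8]; rfl)]; ring
      · rw [p2_comm] at h8
        rw [p2_eq_neg_three.1 h8, op_op, hfm]; ring
    · intro h1
      exact absurd (Finset.mem_univ _) h1
  funext n
  rw [Pi.zero_apply]
  rcases p2_cases n m with h8 | h8 | h8 | h8
  · rw [p2_eq_three.1 h8]; exact hfm
  · exact hf1 n h8
  · exact hf2 n h8
  · rw [p2_comm] at h8
    rw [p2_eq_neg_three.1 h8]; exact hf3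

/-- **the kernel of `DD e`, `e` not pure** -/
theorem ker_aux (h2 : (2 : F) ≠ 0) {m : D1} {e : D1 → F} (hem : e m ≠ 0) (hn : ∀ n, p2 n m = 1 → e n = 0) (hp : ¬ Pure F e) :
    ∃ S : Finset D1, S.card ≤ 12 ∧ ∀ f, DD F e f = 0 → (∀ n ∈ S, f n = 0) → f = 0 := by
  classical
  by_cases hb : ∃ b, p2 b m = -1 ∧ e b ≠ 0
  · -- the lowest weight
    obtain ⟨b, hbS, hmin⟩ := Finset.exists_min_image (Finset.univ.filter fun b => p2 b m = -1 ∧ e b ≠ 0) od (by
      obtain ⟨b, hb⟩ := hb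
      exact ⟨b, Finset.mem_filter.2 ⟨Finset.mem_univ _, hb⟩⟩)
    obtain ⟨-, hb1, hb2⟩ := Finset.mem_filter.1 hbS
    refine ⟨insert m (Finset.univ.filter fun n : D1 => p2 n m = 1 ∧ ¬ p2 n b = -1), ?_, fun f hf hS => ?_⟩
    · exact (Finset.card_insert_le _ _).trans (Nat.succ_le_succ (card11 hb1))
    · have hfm : f m = 0 := hS m (Finset.mem_insert_self _ _)
      refine ker_deg h2 hem hn hf hfm ?_
      have key : ∀ (k : ℕ) (n : D1), od n ≤ k + odl [0, 0, 0, 0, 0, 0, 0, 0] → p2 n m = 1 → f n = 0 := by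
        intro k
        induction k with
        | zero =>
          intro n h0 h1
          exfalso
          have h3 : Comb.CT.all (fun e => decide (0 < odl e.2.1)) = true := by decide +kernel
          have h4 := of_decide_eq_true (List.all_eq_true.1 h3 _ (Comb.ent_nn n).1)
          have h5 : odl [0, 0, 0, 0, 0, 0, 0, 0] = 0 := by decide
          rw [h5] at h0
          have h6 : 0 < od n := h4
          push_cast at h0
          omega
        | succ k ih =>
          intro n h0 h1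
          by_cases h3 : p2 n b = -1
          swap
          · exact hS n (Finset.mem_insert_of_mem (Finset.mem_filter.2 ⟨Finset.mem_univ _, h1, h3⟩))
          obtain ⟨r, hr, c, hm, hc⟩ := exists_mv (a := op n) (b := b) (by rw [p2_op, h3]; rfl)
          have h4 := one_term hr hm hc (sf_zero h2 hf hr hm) hb2 (fun a' b' c' h4 h5 h6 => ?_)
          · rwa [op_op] at h4
          · have h7 := pr_of hr (m := m) hm h4
            rw [p2_op, h1, hb1] at h7
            rcases p2_cases b' m with h8 | h8 | h8 | h8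
            · have h9 : p2 a' m = 3 := by omega
              have h10 := p2_eq_three.1 h9
              have h11 := p2_of_mv hr h4
              rw [h10, p2_eq_three.1 h8, p2_self] at h11
              omega
            · exact absurd (hn b' h8) h5
            · have h9 : p2 (op a') m = 1 := by rw [p2_op]; omega
              refine ih _ ?_ h9
              have o1 := od_add hr hm
              have o2 := od_add hr h4
              have o3 := od_op n
              have o4 := od_op a'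
              have o5 : od b < od b' := lt_of_le_of_ne (hmin b' (Finset.mem_filter.2 ⟨Finset.mem_univ _, h8, h5⟩))
                fun h => h6 (od_inj h).symm
              push_cast at h0 ⊢
              omega
            · have h9 : p2 a' m = -3 := by omega
              have h11 := p2_of_mv hr h4
              rw [p2_comm] at h8 h9
              rw [p2_eq_neg_three.1 h8, p2_eq_neg_three.1 h9, p2_self] at h11
              omega
      intro n h1
      refine key (od n).toNat n ?_ h1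
      have h5 : odl [0, 0, 0, 0, 0, 0, 0, 0] = 0 := by decide
      rw [h5, add_zero]
      exact Int.self_le_toNat _
  · push Not at hb
    have hop : e (op m) ≠ 0 := by
      intro h0
      apply hp
      have h3 : e = e m • bs F m := by
        funext a
        rw [Pi.smul_apply, smul_eq_mul]
        by_cases ha : a = m
        · rw [ha, bs_self, mul_one]
        · rw [PX.bs_ne ha, mul_zero]
          rcases p2_cases a m with h8 | h8 | h8 | h8
          · exact absurd (p2_eq_three.1 h8) ha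
          · exact hn a h8
          · exact hb a h8
          · rw [p2_comm] at h8
            rw [p2_eq_neg_three.1 h8]
            exact h0
      rw [h3]
      exact Mu.pure_smul (Tr.bs_pure m) _
    refine ⟨{m}, by simp, fun f hf hS => ?_⟩
    have hfm : f m = 0 := hS m (Finset.mem_singleton_self _)
    refine ker_deg h2 hem hn hf hfm fun n h1 => ?_
    obtain ⟨r, hr, c, hm, hc⟩ := exists_mv (a := op n) (b := op m) (by rw [p2_op, p2_op', h1]; rfl)
    have h4 := one_term hr hm hc (sf_zero h2 hf hr hm) hop (fun a' b' c' h4 h5 h6 => ?_)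
    · rwa [op_op] at h4
    · exfalso
      have h7 := pr_of hr (m := m) hm h4
      rw [p2_op, p2_op, h1, p2_self] at h7
      rcases p2_cases b' m with h8 | h8 | h8 | h8
      · rcases p2_cases a' m with h9 | h9 | h9 | h9 <;> omega
      · exact h5 (hn b' h8)
      · exact h5 (hb b' h8)
      · rw [p2_comm] at h8
        exact h6 (p2_eq_neg_three.1 h8)

/-- normal form for the action of `Gh F` -/
theorem exists_nf {x : D1 → F} (hx : x ≠ 0) (m : D1) : ∃ g : Gh F, V F g x m ≠ 0 ∧ ∀ n, p2 n m = 1 → V F g x n = 0 := by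
  classical
  obtain ⟨g, hg⟩ := Tr.exists_coord hx m
  obtain ⟨g', -, h4, h5, -⟩ := Tr.clear ⊤ m hg (Finset.univ.filter fun n => p2 n m = 1)
    (fun n hn => ⟨(Finset.mem_filter.1 hn).2, fun _ _ _ _ _ => Subgroup.mem_top _⟩)
  refine ⟨g' * g, ?_, fun n hn => ?_⟩
  · rw [map_mul, Module.End.mul_apply, h4]
    exact hg
  · rw [map_mul, Module.End.mul_apply]
    exact h5 n (Finset.mem_filter.2 ⟨Finset.mem_univ _, hn⟩)

end Cfsg.Agent.R2.T1.N6C
end

-- part: R2/T1/N6C/Num
section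
/-!
# S5929, `n = 6`, `p = 3`, box C2: numbers of pure vectors and of triples (helper14)
-/

set_option autoImplicit false
set_option maxRecDepth 100000

namespace Cfsg.Agent.R2.T1.N6C

open Cfsg Cfsg.Lie Matrix
open Cfsg.Agent.ChevalleyStructure.RootVec
open Cfsg.Agent.ChevalleyStructure.StEmbed
open Cfsg.Agent.R2.T1 Cfsg.Agent.R2.PX
open Cfsg.Agent.H943.E7V.Block (D1 rho)

universe u
variable {F : Type u} [Field F]

theorem card_D1 : Nat.card D1 = 56 := by
  rw [Nat.card_eq_fintype_card]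
  decide +kernel

omit [Field F] in
theorem card_V [Finite F] : Nat.card (D1 → F) = Nat.card F ^ 56 := by
  rw [Nat.card_fun, card_D1]

/-- fibres -/
theorem card_fib_of [Finite F] {e : D1 → F} {S : Finset D1} (g : Gh F)
    (hS : ∀ f, DD F (V F g e) f = 0 → (∀ n ∈ S, f n = 0) → f = 0) (X : Matrix D1 D1 F) :
    Nat.card {f : D1 → F // DD F e f = X} ≤ Nat.card F ^ S.card := by
  have h1 : Nat.card (↥S → F) = Nat.card F ^ S.card := by
    rw [Nat.card_fun, Nat.card_eq_fintype_card (α := ↥S), Fintype.card_coe]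
  rw [← h1]
  refine Nat.card_le_card_of_injective (fun f : {f : D1 → F // DD F e f = X} => fun n : ↥S => V F g f.1 n.1) ?_
  rintro ⟨f, hf⟩ ⟨f', hf'⟩ h
  have h3 : V F g (f - f') = 0 := by
    refine hS _ ?_ fun n hn => ?_
    · rw [Mu.DD_V_iff, sub_eq_add_neg, ← neg_one_smul F f', DD_add_right, DD_smul_right, hf, hf', neg_one_smul, add_neg_cancel]
    · have h4 := congrFun h ⟨n, hn⟩
      rw [map_sub, Pi.sub_apply]
      exact sub_eq_zero.2 h4
  apply Subtype.ext
  have h4 := congrArg (V F g⁻¹) h3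
  rw [Mu.inv_V, map_zero] at h4
  exact sub_eq_zero.1 h4

theorem card_fib [Finite F] (h2 : (2 : F) ≠ 0) {e : D1 → F} (hp : ¬ Pure F e) (X : Matrix D1 D1 F) :
    Nat.card {f : D1 → F // DD F e f = X} ≤ Nat.card F ^ 12 := by
  have he : e ≠ 0 := by
    rintro rfl
    exact hp Mu.pure_zero
  obtain ⟨g, h3, h4⟩ := exists_nf he topv
  obtain ⟨S, hS, h5⟩ := ker_aux h2 h3 h4 (fun h => hp ((Mu.pure_V_iff g).1 h))
  exact (card_fib_of g h5 X).trans (Nat.pow_le_pow_right Nat.card_pos hS)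

theorem card_fib_pure [Finite F] (h2 : (2 : F) ≠ 0) {e : D1 → F} (hp : Pure F e) (he : e ≠ 0) (X : Matrix D1 D1 F) :
    Nat.card {f : D1 → F // DD F e f = X} ≤ Nat.card F ^ 28 := by
  obtain ⟨g, c, hc, h3⟩ := Mu.pure_top h2 hp he
  refine (card_fib_of (S := Finset.univ.filter fun n : D1 => p2 n topv = 1 ∨ p2 n topv = 3) g (fun f hf hS => ?_) X).trans
    (Nat.pow_le_pow_right Nat.card_pos (card28 topv))
  rw [h3, DD_smul_left, smul_eq_zero] at hf
  obtain ⟨h4, h5⟩ := Mu.top_zero h2 (hf.resolve_left hc)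
  funext n
  rw [Pi.zero_apply]
  rcases p2_cases n topv with h8 | h8 | h8 | h8
  · exact hS n (Finset.mem_filter.2 ⟨Finset.mem_univ _, Or.inr h8⟩)
  · exact hS n (Finset.mem_filter.2 ⟨Finset.mem_univ _, Or.inl h8⟩)
  · exact h4 n h8
  · rw [p2_comm] at h8
    rw [p2_eq_neg_three.1 h8]; exact h5

/-- a pure vector is determined by 28 coordinates -/
theorem pure_inj (h2 : (2 : F) ≠ 0) {m : D1} {x y : D1 → F} (hx : Pure F x) (hy : Pure F y) (hm : x m ≠ 0)
    (h : ∀ n, p2 n m = 1 ∨ p2 n m = 3 → x n = y n) : x = y := by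
  have hmm : x m = y m := h m (Or.inr (p2_self m))
  have key1 : ∀ b, p2 b m = -1 → x b = y b := by
    intro b hb
    have h1 : p2 (op b) m = 1 := by rw [p2_op, hb]; rfl
    obtain ⟨r, hr, c, hr1, hc⟩ := exists_mv h1
    have hop := mv_op hr hr1
    rw [op_op, ep_op] at hop
    have ex := sf_zero h2 hx hr hr1
    have ey := sf_zero h2 hy hr hr1
    have hbm : b ≠ m := by
      rintro rfl
      rw [p2_self] at hb
      omega
    have e3 : sf F (NM F r *ᵥ x) x - sf F (NM F r *ᵥ y) y = 0 := by rw [ex, ey, sub_zero]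
    rw [sf_sum, sf_sum, ← Finset.sum_sub_distrib, Fintype.sum_eq_add (op b) (op m)] at e3
    · rw [NM_mulVec hr hr1, NM_mulVec hr hop, NM_mulVec hr hr1, NM_mulVec hr hop, op_op, op_op, ep_op, ep_op, ← hmm] at e3
      push_cast at e3
      have h5 : (ep m : F) * (ep m : F) = 1 := by
        rw [← Int.cast_mul, ep_sq, Int.cast_one]
      have h6 : (2 * (c : F) * (ep b : F) * x m) * (x b - y b) = 0 := by
        linear_combination -e3 - (c : F) * (ep b : F) * (x b - y b) * x m * h5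
      exact sub_eq_zero.1 ((mul_eq_zero.1 h6).resolve_left
        (mul_ne_zero (mul_ne_zero (mul_ne_zero h2 (cast_ne hc)) (cast_ne (ep_sq b))) hm))
    · intro h4
      have h5 := congrArg op h4
      rw [op_op, op_op] at h5
      exact hbm h5
    · intro a ha
      by_contra hne
      have hex : (∃ (b' : D1) (c' : ℤ), mv r (nn b') = some (nn a, c')) := by
        by_contra hcon
        push Not at hcon
        have k1 : ∀ z : D1 → F, (NM F r *ᵥ z) a = 0 := by
          intro z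
          by_contra hz
          obtain ⟨b', c', h4, -⟩ := NM_mulVec_ne hz
          exact hcon b' c' h4
        rw [k1, k1] at hne
        exact hne (by ring)
      obtain ⟨b', c', h4⟩ := hex
      have h6 := pr_of hr (m := m) hr1 h4
      rw [h1, p2_self] at h6
      rw [NM_mulVec hr h4, NM_mulVec hr h4] at hne
      rcases p2_cases b' m with h7 | h7 | h7 | h7
      · have h8 := p2_eq_three.1 h7
        rw [h8, hr1, Option.some.injEq, Prod.mk.injEq] at h4
        exact ha.1 (nn_inj h4.1).symm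
      · have h8 : p2 (op a) m = 1 := by rw [p2_op]; omega
        apply hne
        rw [h b' (Or.inl h7), h (op a) (Or.inl h8)]
        ring
      · have h8 : p2 m a = -3 := by rw [p2_comm]; omega
        exact ha.2 (p2_eq_neg_three.1 h8)
      · rcases p2_cases a m with h8 | h8 | h8 | h8 <;> omega
  have key2 : x (op m) = y (op m) := by
    obtain ⟨c, hc⟩ := Mu.exists_nb m
    have ex := Tr.DD_diag (F := F) x x c
    have ey := Tr.DD_diag (F := F) y y c
    have hxx : DD F x x = 0 := hx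
    have hyy : DD F y y = 0 := hy
    rw [hxx, Matrix.zero_apply] at ex
    rw [hyy, Matrix.zero_apply] at ey
    have e3 : ∑ a : D1, x a * ((ep a : ℤ) : F) * x (op a) * ((p2 a c : ℤ) : F) -
        ∑ a : D1, y a * ((ep a : ℤ) : F) * y (op a) * ((p2 a c : ℤ) : F) = 0 := by
      linear_combination ex - ey
    rw [← Finset.sum_sub_distrib, Fintype.sum_eq_add m (op m) (ne_op m)] at e3
    · rw [op_op, ep_op, p2_op, hc, ← hmm] at e3
      push_cast at e3
      have h6 : (2 * (ep m : F) * x m) * (x (op m) - y (op m)) = 0 := by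
        linear_combination e3
      exact sub_eq_zero.1 ((mul_eq_zero.1 h6).resolve_left (mul_ne_zero (mul_ne_zero h2 (cast_ne (ep_sq m))) hm))
    · intro a ha
      rcases p2_cases a m with h8 | h8 | h8 | h8
      · exact absurd (p2_eq_three.1 h8) ha.1
      · have h9 : p2 (op a) m = -1 := by rw [p2_op, h8]
        rw [h a (Or.inl h8), key1 (op a) h9]
        ring
      · have h9 : p2 (op a) m = 1 := by rw [p2_op, h8]; rfl
        rw [key1 a h8, h (op a) (Or.inl h9)]
        ring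
      · rw [p2_comm] at h8
        exact absurd (p2_eq_neg_three.1 h8) ha.2
  funext n
  rcases p2_cases n m with h8 | h8 | h8 | h8
  · exact h n (Or.inr h8)
  · exact h n (Or.inl h8)
  · exact key1 n h8
  · rw [p2_comm] at h8
    rw [p2_eq_neg_three.1 h8]; exact key2

theorem card_pure [Finite F] (h2 : (2 : F) ≠ 0) :
    Nat.card {e : D1 → F // Pure F e ∧ e ≠ 0} ≤ 56 * Nat.card F ^ 28 := by
  classical
  have key : ∀ m : D1, Nat.card {e : D1 → F // Pure F e ∧ e m ≠ 0} ≤ Nat.card F ^ 28 := by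
    intro m
    set S := Finset.univ.filter fun n : D1 => p2 n m = 1 ∨ p2 n m = 3 with hS
    have h1 : Nat.card (↥S → F) = Nat.card F ^ S.card := by
      rw [Nat.card_fun, Nat.card_eq_fintype_card (α := ↥S), Fintype.card_coe]
    refine le_trans ?_ (Nat.pow_le_pow_right Nat.card_pos (card28 m))
    rw [← hS, ← h1]
    refine Nat.card_le_card_of_injective (fun f : {e : D1 → F // Pure F e ∧ e m ≠ 0} => fun n : ↥S => f.1 n.1) ?_
    rintro ⟨f, hf, hfm⟩ ⟨f', hf', hfm'⟩ h
    apply Subtype.ext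
    exact pure_inj h2 hf hf' hfm fun n hn => congrFun h ⟨n, Finset.mem_filter.2 ⟨Finset.mem_univ _, hn⟩⟩
  have h3 : ∀ e : {e : D1 → F // Pure F e ∧ e ≠ 0}, ∃ m : D1, e.1 m ≠ 0 := by
    intro e
    by_contra hcon
    push Not at hcon
    exact e.2.2 (funext hcon)
  choose μ hμ using h3
  have h4 : Nat.card {e : D1 → F // Pure F e ∧ e ≠ 0} ≤ Nat.card (Σ m : D1, {e : D1 → F // Pure F e ∧ e m ≠ 0}) := by
    refine Nat.card_le_card_of_injective (fun e => ⟨μ e, e.1, e.2.1, hμ e⟩) ?_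
    intro e e' h
    have h5 := congrArg (fun z : (Σ m : D1, {e : D1 → F // Pure F e ∧ e m ≠ 0}) => z.2.1) h
    exact Subtype.ext h5
  refine h4.trans ?_
  rw [Nat.card_sigma]
  refine (Finset.sum_le_card_nsmul _ _ _ fun m _ => key m).trans ?_
  rw [Finset.card_univ, ← Nat.card_eq_fintype_card, card_D1, smul_eq_mul]

/-- the set of triples -/
def TS (F : Type u) [Field F] : Set (Fin 3 → D1 → F) := {b | b 0 ≠ 0 ∧ DD F (b 1) (b 1) = DD F (b 0) (b 2)}

/-- **the number of triples** -/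
theorem card_TS [Finite F] (h2 : (2 : F) ≠ 0) : Nat.card (TS F) ≤ Nat.card F ^ 124 + 56 * Nat.card F ^ 112 := by
  classical
  set q := Nat.card F with hq
  have hfin : Finite (D1 → F) := inferInstance
  have hV := card_V (F := F)
  -- the two parts
  have h3 : Nat.card (TS F) ≤
      Nat.card ((Σ x : {e : D1 → F // ¬ Pure F e} × (D1 → F), {f : D1 → F // DD F x.1.1 f = DD F x.2 x.2}) ⊕
        (Σ x : {e : D1 → F // Pure F e ∧ e ≠ 0} × (D1 → F), {f : D1 → F // DD F x.1.1 f = DD F x.2 x.2})) := by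
    refine Nat.card_le_card_of_injective (fun b => if hb : Pure F (b.1 0) then
      Sum.inr ⟨(⟨b.1 0, hb, b.2.1⟩, b.1 1), b.1 2, b.2.2.symm⟩ else Sum.inl ⟨(⟨b.1 0, hb⟩, b.1 1), b.1 2, b.2.2.symm⟩) ?_
    rintro ⟨b, hb⟩ ⟨b', hb'⟩ h
    have key : b 0 = b' 0 ∧ b 1 = b' 1 ∧ b 2 = b' 2 := by
      dsimp only at h
      by_cases k1 : Pure F (b 0) <;> by_cases k2 : Pure F (b' 0)
      · rw [dif_pos k1, dif_pos k2, Sum.inr.injEq] at h
        have e1 := congrArg (fun z : (Σ x : {e : D1 → F // Pure F e ∧ e ≠ 0} × (D1 → F),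
          {f : D1 → F // DD F x.1.1 f = DD F x.2 x.2}) => (z.1.1.1, z.1.2, z.2.1)) h
        simpa only [Prod.mk.injEq] using e1
      · rw [dif_pos k1, dif_neg k2] at h
        cases h
      · rw [dif_neg k1, dif_pos k2] at h
        cases h
      · rw [dif_neg k1, dif_neg k2, Sum.inl.injEq] at h
        have e1 := congrArg (fun z : (Σ x : {e : D1 → F // ¬ Pure F e} × (D1 → F),
          {f : D1 → F // DD F x.1.1 f = DD F x.2 x.2}) => (z.1.1.1, z.1.2, z.2.1)) h
        simpa only [Prod.mk.injEq] using e1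
    apply Subtype.ext
    funext i
    fin_cases i
    · exact key.1
    · exact key.2.1
    · exact key.2.2
  refine h3.trans ?_
  rw [Nat.card_sum]
  have := Fintype.ofFinite F
  have f1 : Fintype ({e : D1 → F // ¬ Pure F e} × (D1 → F)) := Fintype.ofFinite _
  have f2 : Fintype ({e : D1 → F // Pure F e ∧ e ≠ 0} × (D1 → F)) := Fintype.ofFinite _
  refine Nat.add_le_add ?_ ?_
  · rw [Nat.card_sigma]
    refine (Finset.sum_le_card_nsmul _ _ _ fun x _ => card_fib h2 x.1.2 _).trans ?_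
    rw [Finset.card_univ, ← Nat.card_eq_fintype_card, Nat.card_prod, hV, smul_eq_mul]
    have h4 : Nat.card {e : D1 → F // ¬ Pure F e} ≤ q ^ 56 := by
      rw [← hV]
      exact Nat.card_le_card_of_injective _ Subtype.val_injective
    calc Nat.card {e : D1 → F // ¬ Pure F e} * q ^ 56 * q ^ 12 ≤ q ^ 56 * q ^ 56 * q ^ 12 := by gcongr
      _ = q ^ 124 := by ring
  · rw [Nat.card_sigma]
    refine (Finset.sum_le_card_nsmul _ _ _ fun x _ => card_fib_pure h2 x.1.2.1 x.1.2.2 _).trans ?_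
    rw [Finset.card_univ, ← Nat.card_eq_fintype_card, Nat.card_prod, hV, smul_eq_mul]
    have h4 := card_pure (F := F) h2
    calc Nat.card {e : D1 → F // Pure F e ∧ e ≠ 0} * q ^ 56 * q ^ 28 ≤ (56 * q ^ 28) * q ^ 56 * q ^ 28 := by gcongr
      _ = 56 * q ^ 112 := by ring

end Cfsg.Agent.R2.T1.N6C
end

private theorem dce_e2c052eee57a : _root_.True := by
  try have : _root_.True := by simp only [_root_.Cfsg.Agent.R2.T1.N6C.odl.eq_1]
  exact _root_.True.intro
end
end
end
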